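import Groth.Agent.ARLib.Noeth
import Mathlib.Algebra.Category.ModuleCat.Subobject
import Mathlib.RingTheory.Noetherian.Basic
import Mathlib.CategoryTheory.Limits.Preserves.Shapes.Biproducts

/-!
# Relations of a graded object generated in degree zero are eventually generated in low degree
-/

universe w v v' u u'

open CategoryTheory CategoryTheory.Limits Opposite

namespace Groth.Agent.EtModWLib

open Groth.Agent.ARLib

variable {C : Type u} [Category.{v} C] [Abelian C]

section Gen

variable {k : ℕ} (D : GrData C k)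

/-- The family generated in degree `≤ i` by a closed family. -/
noncomputable def genUpTo (M : ∀ q, Subobject (D.X q)) (i : ℕ) : ∀ q, Subobject (D.X q)
  | 0 => M 0
  | q + 1 => if q + 1 ≤ i then M (q + 1) else Finset.univ.sup fun m => img (D.τ m q) (genUpTo M i q)

theorem genUpTo_of_le (M : ∀ q, Subobject (D.X q)) {i q : ℕ} (h : q ≤ i) : genUpTo D M i q = M q := by
  cases q with
  | zero => rfl
  | succ q => rw [genUpTo, if_pos h]

variable {M : ∀ q, Subobject (D.X q)}

theorem genUpTo_le (hM : D.Closed M) (i q : ℕ) : genUpTo D M i q ≤ M q := by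
  induction q with
  | zero => exact le_rfl
  | succ q ih =>
    rw [genUpTo]
    split_ifs
    · exact le_rfl
    · exact Finset.sup_le fun m _ =>
        (img_le_iff _ _ _).2 fun T x hx => hM.2 m q x (mem_mono ih hx)

theorem genUpTo_mono (hM : D.Closed M) {i j : ℕ} (hij : i ≤ j) (q : ℕ) :
    genUpTo D M i q ≤ genUpTo D M j q := by
  induction q with
  | zero => exact le_rfl
  | succ q ih =>
    by_cases hj : q + 1 ≤ j
    · rw [genUpTo_of_le D M hj]
      exact genUpTo_le D hM i _
    · rw [genUpTo, if_neg (fun h => hj (h.trans hij)), genUpTo, if_neg hj]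
      exact Finset.sup_mono_fun fun m _ => img_mono _ ih

theorem closed_genUpTo (hM : D.Closed M) (i : ℕ) : D.Closed (genUpTo D M i) := by
  refine ⟨fun q => (genUpTo_le D hM i q).trans (hM.1 q), fun l q A x hx => ?_⟩
  rw [genUpTo]
  split_ifs
  · exact hM.2 l q x (mem_mono (genUpTo_le D hM i q) hx)
  · exact mem_mono (Finset.le_sup (f := fun m => img (D.τ m q) (genUpTo D M i q)) (Finset.mem_univ l))
      (mem_img_of_mem _ hx)

/-- A closed family is eventually generated in degree one. -/
theorem closed_eventually_gen (h0 : IsNoetherianObject (D.T 0 : C)) (hM : D.Closed M) :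
    ∃ d, ∀ q, d ≤ q → M (q + 1) ≤ Finset.univ.sup fun m => img (D.τ m q) (M q) := by
  obtain ⟨d, hd⟩ := D.closed_chain h0
    ⟨fun i => genUpTo D M i, fun a b h q => genUpTo_mono D hM h q⟩ (fun i => closed_genUpTo D hM i)
  refine ⟨d, fun q hq => ?_⟩
  have h1 : genUpTo D M (q + 1) (q + 1) = genUpTo D M q (q + 1) :=
    congrFun ((hd (q + 1) (hq.trans (Nat.le_succ q))).symm.trans (hd q hq)) (q + 1)
  rw [genUpTo_of_le D M le_rfl, genUpTo, if_neg (Nat.not_succ_le_self q), genUpTo_of_le D M le_rfl] at h1
  exact h1.le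

end Gen

theorem isNoetherianObject_moduleCat {R : Type w} [Ring R] (M : ModuleCat.{w} R) [IsNoetherian R M] :
    IsNoetherianObject M := by
  rw [isNoetherianObject_iff_monotone_chain_condition]
  intro f
  obtain ⟨n, hn⟩ := monotone_stabilizes_iff_noetherian.2 (inferInstanceAs (IsNoetherian R M))
    ⟨fun i => ModuleCat.subobjectModule M (f i), fun a b h => (ModuleCat.subobjectModule M).monotone (f.2 h)⟩
  exact ⟨n, fun m hm => (ModuleCat.subobjectModule M).injective (hn m hm)⟩

section Relations

variable {k : ℕ} {K : ℕ → C} (τ : Fin k → ∀ q, K q ⟶ K (q + 1)) [HasFiniteBiproducts C]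

/-- `k` copies of the degree `q` part. -/
noncomputable abbrev copies (k : ℕ) (K : ℕ → C) (q : ℕ) : C := ⨁ fun _ : Fin k => K q

/-- The map `⊕ K_q → K_{q+1}` given by the operators. -/
noncomputable abbrev genMap (q : ℕ) : copies k K q ⟶ K (q + 1) := biproduct.desc fun l => τ l q

/-- An operator acting on all copies. -/
noncomputable abbrev opMap (m : Fin k) (q : ℕ) : copies k K q ⟶ copies k K (q + 1) :=
  biproduct.map fun _ => τ m q

variable (hτ : ∀ l m q, τ l q ≫ τ m (q + 1) = τ m q ≫ τ l (q + 1))

include hτ in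
theorem opMap_genMap (m : Fin k) (q : ℕ) :
    opMap τ m q ≫ genMap τ (q + 1) = genMap τ q ≫ τ m (q + 1) :=
  biproduct.hom_ext' _ _ fun l => by
    rw [biproduct.ι_map_assoc, biproduct.ι_desc, biproduct.ι_desc_assoc, hτ]

include hτ in
theorem opMap_comm (l m : Fin k) (q : ℕ) :
    opMap τ l q ≫ opMap τ m (q + 1) = opMap τ m q ≫ opMap τ l (q + 1) :=
  biproduct.hom_ext' _ _ fun i => by
    simp only [biproduct.ι_map_assoc, biproduct.ι_map]
    rw [← Category.assoc, hτ, Category.assoc]

/-- The relations in degree `q`. -/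
noncomputable abbrev relObj (q : ℕ) : C := kernel (genMap τ q)

/-- An operator acting on relations. -/
noncomputable def relMap (m : Fin k) (q : ℕ) : relObj τ q ⟶ relObj τ (q + 1) :=
  kernel.lift _ (kernel.ι (genMap τ q) ≫ opMap τ m q)
    (by rw [Category.assoc, opMap_genMap τ hτ, ← Category.assoc, kernel.condition, zero_comp])

/-- The map `⊕ R_q → R_{q+1}`. -/
noncomputable def relGen (q : ℕ) : (⨁ fun _ : Fin k => relObj τ q) ⟶ relObj τ (q + 1) :=
  biproduct.desc fun m => relMap τ hτ m q

variable {D : Type u'} [Category.{v'} D] [Abelian D] (L : C ⥤ D) [L.Additive] [PreservesFiniteLimits L]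
  [PreservesFiniteColimits L]

omit [Abelian D] [PreservesFiniteLimits L] [PreservesFiniteColimits L] in
theorem map_desc_comp_eq_zero [Preadditive D] [L.Additive] {n : ℕ} {U : Fin n → C} {V : C}
    (f : ∀ i, U i ⟶ V) {W : D} (ψ : L.obj V ⟶ W) (h : ∀ i, L.map (f i) ≫ ψ = 0) :
    L.map (biproduct.desc f) ≫ ψ = 0 := by
  have e : L.map (𝟙 (⨁ U)) ≫ L.map (biproduct.desc f) ≫ ψ = 0 := by
    rw [← biproduct.total, L.map_sum, Preadditive.sum_comp]
    refine Finset.sum_eq_zero fun i _ => ?_
    rw [← Category.assoc, ← L.map_comp, Category.assoc, biproduct.ι_desc, L.map_comp, Category.assoc,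
      h, comp_zero]
  rwa [L.map_id, Category.id_comp] at e

theorem img_top_factors {X Y : D} (f : X ⟶ Y) : (img f (⊤ : Subobject X)).Factors f := by
  simpa using mem_img_of_mem f (mem_top (𝟙 X))

/-- In an exact image in a category where degree zero is Noetherian, relations are eventually
generated in one step. -/
theorem exists_epi_relGen (hσ : ∀ q ⦃W : C⦄ (ψ : K (q + 1) ⟶ W), (∀ l, τ l q ≫ ψ = 0) → ψ = 0)
    [IsNoetherianObject (L.obj (copies k K 0))] :
    ∃ d, ∀ q, d ≤ q → Epi (L.map (relGen τ hτ q)) := by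
  let G : GrData D k :=
    { X := fun q => L.obj (copies k K q)
      τ := fun m q => L.map (opMap τ m q)
      comm := fun l m q => by rw [← L.map_comp, ← L.map_comp, opMap_comm τ hτ]
      T := fun _ => ⊤
      map_T := fun _ _ _ _ _ => mem_top _
      gen := fun q S hS => by
        have hz : ∀ m, L.map (opMap τ m q) ≫ cokernel.π S.arrow = 0 := fun m =>
          (mem_iff_comp_cokernel _ _).1 (mem_mono (hS m) (img_top_factors _))
        have hepi : Epi (biproduct.desc fun m => opMap τ m q) := epi_of_cancel fun W ψ hψ => by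
          refine biproduct.hom_ext' _ _ fun l => ?_
          rw [comp_zero]
          refine hσ q _ fun m => ?_
          have h := biproduct.ι (fun _ : Fin k => copies k K q) m ≫= hψ
          rw [biproduct.ι_desc_assoc, comp_zero] at h
          have h' := biproduct.ι (fun _ : Fin k => K q) l ≫= h
          rwa [biproduct.ι_map_assoc, comp_zero] at h'
        have h0 : cokernel.π S.arrow = 0 := by
          rw [← cancel_epi (L.map (biproduct.desc fun m => opMap τ m q)), comp_zero]
          exact map_desc_comp_eq_zero L _ _ hz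
        refine sub_le_of_mem fun A x _ => (mem_iff_comp_cokernel _ _).2 ?_
        rw [h0, comp_zero] }
  let M : ∀ q, Subobject (G.X q) := fun q => imageSubobject (L.map (kernel.ι (genMap τ q)))
  have hM : G.Closed M := by
    refine ⟨fun q => le_top, fun m q A x hx => ?_⟩
    obtain ⟨A', e, he, y, hy⟩ := (mem_image _ _).1 hx
    refine mem_of_epi_comp _ e _ ?_
    show (M (q + 1)).Factors (e ≫ x ≫ L.map (opMap τ m q))
    rw [← Category.assoc, hy, Category.assoc, ← L.map_comp,
      ← show relMap τ hτ m q ≫ kernel.ι (genMap τ (q + 1)) = _ from kernel.lift_ι _ _ _, L.map_comp,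
      ← Category.assoc]
    exact mem_image_self _ _
  obtain ⟨d, hd⟩ := closed_eventually_gen G
    (isNoetherianObject_of_mono (G.T 0).arrow) hM
  refine ⟨d, fun q hq => epi_of_cancel fun W ψ hψ => ?_⟩
  have hle : M (q + 1) ≤ imageSubobject (L.map (relGen τ hτ q) ≫ L.map (kernel.ι (genMap τ (q + 1)))) := by
    refine le_trans (hd q hq) (Finset.sup_le fun m _ => (img_le_iff _ _ _).2 fun A x hx => ?_)
    obtain ⟨A', e, he, y, hy⟩ := (mem_image _ _).1 hx
    refine mem_of_epi_comp _ e _ ?_
    show (imageSubobject _).Factors (e ≫ x ≫ L.map (opMap τ m q))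
    rw [← Category.assoc, hy, Category.assoc, ← L.map_comp (kernel.ι (genMap τ q)),
      ← show relMap τ hτ m q ≫ kernel.ι (genMap τ (q + 1)) = _ from kernel.lift_ι _ _ _,
      ← show biproduct.ι (fun _ : Fin k => relObj τ q) m ≫ relGen τ hτ q = relMap τ hτ m q from
        biproduct.ι_desc _ _, L.map_comp, L.map_comp, Category.assoc, ← Category.assoc y]
    exact mem_image_self _ _
  obtain ⟨A', e, he, y, hy⟩ := (mem_image _ _).1 (mem_mono hle
    (by have h := mem_image_self (L.map (kernel.ι (genMap τ (q + 1)))) (𝟙 _)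
        rwa [Category.id_comp] at h))
  have he' : e = y ≫ L.map (relGen τ hτ q) := by
    rw [← cancel_mono (L.map (kernel.ι (genMap τ (q + 1)))), Category.assoc]
    exact hy
  rw [← cancel_epi e, comp_zero, he', Category.assoc, hψ, comp_zero]

end Relations

end Groth.Agent.EtModWLib
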