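import Groth.Agent.EtModWLib.Pull
import Groth.Agent.ARLib.Quot
import Groth.Agent.ARLib.Basic
import Groth.Prelude.Def_ARSys
import Mathlib.CategoryTheory.Linear.FunctorCategory

/-!
# Exact linear functors and adic systems
-/

universe w v v' u u'

open CategoryTheory CategoryTheory.Limits Opposite

namespace Groth.Agent.EtModWLib

open ARSys

variable {A : Type w} [CommRing A] {C : Type u} [Category.{v} C] [Abelian C] [Linear A C]
  {D : Type u'} [Category.{v'} D] [Abelian D] [Linear A D]
  (L : C ⥤ D) [L.Additive] [L.Linear A]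

theorem killedBy_map {I : Ideal A} {X : C} (h : KilledBy I X) : KilledBy I (L.obj X) := fun a ha => by
  rw [← L.map_id, ← L.map_smul, h a ha, L.map_zero]

theorem termKilled_map {J : Ideal A} {X : PS C} (h : TermKilled J X) : TermKilled J (X ⋙ L) :=
  fun n => killedBy_map L (h n)

theorem isQuot_map [PreservesFiniteColimits L] {I : Ideal A} (hI : I.FG) {X Q : C} {p : X ⟶ Q}
    (h : IsQuot I p) : IsQuot I (L.map p) := by
  haveI : HasFiniteBiproducts C := Abelian.hasFiniteBiproducts
  obtain ⟨n, g, hg⟩ := Submodule.fg_iff_exists_fin_generating_family.1 hI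
  let d : (⨁ fun _ : Fin n => X) ⟶ X := biproduct.desc fun i => g i • 𝟙 X
  have hgp : ∀ i, g i • p = 0 := fun i => by
    rw [← Category.comp_id p, ← Linear.comp_smul, h.1 _ (hg ▸ Submodule.subset_span ⟨i, rfl⟩), comp_zero]
  have hdp : d ≫ p = 0 := biproduct.hom_ext' _ _ fun i => by
    rw [biproduct.ι_desc_assoc, Linear.smul_comp, Category.id_comp, hgp, comp_zero]
  obtain ⟨ψ, hψ, -⟩ := h.2 _ (cokernel.π d) (by
    have hd : ∀ i, g i • cokernel.π d = 0 := fun i => by
      have h : (biproduct.ι (fun _ : Fin n => X) i ≫ d) ≫ cokernel.π d = 0 := by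
        rw [Category.assoc, cokernel.condition, comp_zero]
      rwa [biproduct.ι_desc, Linear.smul_comp, Category.id_comp] at h
    intro a ha
    rw [← hg] at ha
    induction ha using Submodule.span_induction with
    | mem x hx => obtain ⟨i, rfl⟩ := hx; exact hd i
    | zero => exact zero_smul _ _
    | add x y _ _ hx hy => rw [add_smul, hx, hy, add_zero]
    | smul c x _ hx => rw [smul_eq_mul, mul_smul, hx, smul_zero])
  refine ⟨killedBy_map L h.1, fun Y φ hφ => ?_⟩
  have hdφ : L.map d ≫ φ = 0 := by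
    have e : L.map (𝟙 (⨁ fun _ : Fin n => X)) ≫ L.map d ≫ φ = 0 := by
      rw [← biproduct.total, L.map_sum, Preadditive.sum_comp]
      refine Finset.sum_eq_zero fun i _ => ?_
      rw [← Category.assoc, ← L.map_comp, Category.assoc, biproduct.ι_desc, Linear.comp_smul,
        Category.comp_id, L.map_smul, Linear.smul_comp, ← Linear.comp_smul,
        hφ _ (hg ▸ Submodule.subset_span ⟨i, rfl⟩), comp_zero]
    rwa [L.map_id, Category.id_comp] at e
  have : Epi p := Groth.Agent.ARLib.quot_epi h
  let χ := (PreservesCokernel.iso L d).hom ≫ cokernel.desc (L.map d) φ hdφ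
  refine ⟨L.map ψ ≫ χ, ?_, fun y hy => ?_⟩
  · show L.map p ≫ L.map ψ ≫ χ = φ
    rw [← Category.assoc, ← L.map_comp, hψ, ← Category.assoc,
      show L.map (cokernel.π d) ≫ (PreservesCokernel.iso L d).hom = cokernel.π (L.map d) from ?_,
      cokernel.π_desc]
    rw [← Iso.eq_comp_inv, PreservesCokernel.iso_inv]
    exact (π_comp_cokernelComparison d L).symm
  · rw [← cancel_epi (L.map p), hy, ← Category.assoc, ← L.map_comp, hψ, ← Category.assoc,
      show L.map (cokernel.π d) ≫ (PreservesCokernel.iso L d).hom = cokernel.π (L.map d) from ?_,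
      cokernel.π_desc]
    rw [← Iso.eq_comp_inv, PreservesCokernel.iso_inv]
    exact (π_comp_cokernelComparison d L).symm

theorem isAdic_map [PreservesFiniteColimits L] [IsNoetherianRing A] {J : Ideal A} {X : PS C}
    (h : IsAdic J X) : IsAdic J (X ⋙ L) :=
  ⟨termKilled_map L h.1, fun n m hnm => isQuot_map L (IsNoetherian.noetherian _) (h.2 n m hnm)⟩

open Groth.Agent.ARLib in
theorem isARIso_map {X Y : PS C} {v : X ⟶ Y} (h : IsARIso v) :
    IsARIso (Functor.whiskerRight v L) := by
  rw [isARIso_iff_qinv] at h ⊢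
  obtain ⟨t, ⟨q⟩⟩ := h
  refine ⟨t, ⟨{ v := fun n => L.map (q.v n), v_tr := ?_, vu := ?_, uv := ?_ }⟩⟩
  · intro a b hab
    exact (L.map_comp _ _).symm.trans ((congrArg L.map (q.v_tr hab)).trans (L.map_comp _ _))
  · intro n
    exact (L.map_comp _ _).symm.trans (congrArg L.map (q.vu n))
  · intro n
    exact (L.map_comp _ _).symm.trans (congrArg L.map (q.uv n))

end Groth.Agent.EtModWLib
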