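import Groth.Agent.EtModWLib.Serre
import Groth.Agent.S0658
import Mathlib.CategoryTheory.CofilteredSystem
import Mathlib.CategoryTheory.Functor.OfSequence
import Mathlib.AlgebraicGeometry.Morphisms.QuasiSeparated
import Mathlib.AlgebraicGeometry.Noetherian
import Mathlib.Topology.Sober

/-!
# Specialisation for inverse systems of locally constant sheaves
-/

universe u

open CategoryTheory CategoryTheory.Limits AlgebraicGeometry Opposite

namespace Groth.Agent.EtModWLib

open Groth.Agent

variable {Λ : Type (u + 1)} [CommRing Λ] {X : Scheme.{u}}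

/-- Affine étale neighbourhoods have finite fibres. -/
theorem finite_fiber_of_isAffine [QuasiSeparatedSpace ↥X] (V : X.Etale) [IsAffine V.left] {Ω : Type u}
    [Field Ω] [IsSepClosed Ω] (ξ : Spec (CommRingCat.of Ω) ⟶ X) :
    Finite ((Scheme.pointSmallEtale ξ).fiber.obj V) := by
  haveI : Etale V.hom := V.prop
  haveI : CompactSpace ↥((𝟭 Scheme.{u}).obj V.left) := inferInstanceAs (CompactSpace V.left)
  haveI : QuasiCompact V.hom := quasiCompact_of_compactSpace (X := V.left) (Y := X) V.hom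
  haveI : CompactSpace (pullback V.hom ξ : Scheme.{u}) :=
    QuasiCompact.compactSpace_of_compactSpace (pullback.snd V.hom ξ)
  haveI : DiscreteTopology (pullback V.hom ξ : Scheme.{u}) :=
    discreteTopology_iff_isOpen_singleton.2 fun z => by
      obtain ⟨_, _, _, _, _, j, _, -, hj⟩ := Groth.Agent.S0658.exists_piece (pullback.snd V.hom ξ) z
      exact hj ▸ j.isOpenEmbedding.isOpen_range
  haveI : Finite (pullback V.hom ξ : Scheme.{u}) := finite_of_compact_of_discrete
  let sec : (Scheme.pointSmallEtale ξ).fiber.obj V → (Spec (CommRingCat.of Ω) ⟶ pullback V.hom ξ) :=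
    fun φ => pullback.lift φ.left (𝟙 _) ((Over.w φ).trans (Category.id_comp ξ).symm)
  refine Finite.of_injective (fun φ => sec φ default) fun φ₁ φ₂ he => ?_
  have : sec φ₁ = sec φ₂ := EtaleSite.section_ext (pullback.snd V.hom ξ) _ _ (pullback.lift_snd _ _ _)
    (pullback.lift_snd _ _ _) default he
  exact Over.OverMorphism.ext ((pullback.lift_fst _ _ _).symm.trans
    ((congrArg (· ≫ pullback.fst V.hom ξ) this).trans (pullback.lift_fst _ _ _)))

variable {Ω : Type u} [Field Ω] [IsSepClosed Ω] (s : Spec (CommRingCat.of Ω) ⟶ X)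

/-- Every neighbourhood contains an affine one. -/
theorem exists_affine_nbhd {U : X.Etale} (φ : (Scheme.pointSmallEtale s).fiber.obj U) :
    ∃ (V : X.Etale) (_ : IsAffine V.left) (v : (Scheme.pointSmallEtale s).fiber.obj V) (g : V ⟶ U),
      (Scheme.pointSmallEtale s).fiber.map g v = φ := by
  haveI : Etale U.hom := U.prop
  obtain ⟨W, hW, hxW, -⟩ := exists_isAffineOpen_mem_and_subset
    (show φ.left (default : Spec (CommRingCat.of Ω)) ∈ (⊤ : U.left.Opens) from trivial)
  let V : X.Etale := MorphismProperty.Over.mk ⊤ (W.ι ≫ U.hom) (inferInstanceAs (Etale _))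
  have hr : Set.range φ.left ⊆ Set.range W.ι := by
    rintro _ ⟨o, rfl⟩
    rw [Subsingleton.elim (α := Spec (CommRingCat.of Ω)) o default]
    erw [Scheme.Opens.range_ι]
    exact hxW
  refine ⟨V, (hW : IsAffine (W : Scheme.{u})), Over.homMk (IsOpenImmersion.lift (X := (W : Scheme.{u})) (Z := U.left) W.ι φ.left hr)
    ((Category.assoc _ _ _).symm.trans ((congrArg (· ≫ U.hom)
      (IsOpenImmersion.lift_fac (X := (W : Scheme.{u})) (Z := U.left) W.ι φ.left hr)).trans (Over.w φ))),
    MorphismProperty.Over.homMk W.ι rfl trivial, ?_⟩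
  exact Over.OverMorphism.ext (IsOpenImmersion.lift_fac (X := (W : Scheme.{u})) (Z := U.left) W.ι φ.left hr)

variable (Λ) in
/-- An affine neighbourhood with a trivialisation of the `n`-th sheaf. -/
structure Node (F : ℕᵒᵖ ⥤ EtModW.Mod Λ X) (n : ℕ) where
  V : X.Etale
  affine : IsAffine V.left
  v : (Scheme.pointSmallEtale s).fiber.obj V
  M : Type (u + 1)
  [acg : AddCommGroup M]
  [mod : Module Λ M]
  [fin : Module.Finite Λ M]
  m : M →ₗ[Λ] (F.obj (op n)).obj.obj (op V)
  triv : IsTriv (F.obj (op n)) V M m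

attribute [instance] Node.acg Node.mod Node.fin

/-- Compatibility of two successive nodes. -/
def NodeRel {F : ℕᵒᵖ ⥤ EtModW.Mod Λ X} {n : ℕ} (a : Node Λ s F n) (b : Node Λ s F (n + 1)) : Prop :=
  ∃ (g : b.V ⟶ a.V) (h : b.M →ₗ[Λ] a.M), (Scheme.pointSmallEtale s).fiber.map g b.v = a.v ∧
    ∀ x, (F.map (homOfLE (Nat.le_succ n)).op).hom.app (op b.V) (b.m x) =
      (F.obj (op n)).obj.map g.op (a.m (h x))

variable {F : ℕᵒᵖ ⥤ EtModW.Mod Λ X} (hF : ∀ n : ℕ, EtModW.IsFTLocConst Λ (F.obj (op n)))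

include hF in
theorem nonempty_node (n : ℕ) : Nonempty (Node Λ s F n) := by
  obtain ⟨U, φ, M, _, _, _, m, hm⟩ := exists_isTriv (hF n) s
  obtain ⟨V, hV, v, g, -⟩ := exists_affine_nbhd s φ
  exact ⟨⟨V, hV, v, M, _, hm.restrict g⟩⟩

include hF in
theorem exists_next {n : ℕ} (a : Node Λ s F n) : ∃ b : Node Λ s F (n + 1), NodeRel s a b := by
  obtain ⟨U, φ, M, _, _, _, m, hm⟩ := exists_isTriv (hF (n + 1)) s
  obtain ⟨W, w, p, q, hp, hq⟩ := exists_refine φ a.v
  let t := F.map (homOfLE (Nat.le_succ n)).op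
  let n₁ := ((F.obj (op n)).obj.map q.op).hom.comp a.m
  have hn₁ : IsTriv (F.obj (op n)) W a.M n₁ := a.triv.restrict q
  let m₁ := ((F.obj (op (n + 1))).obj.map p.op).hom.comp m
  let h : M →ₗ[Λ] a.M := (hn₁.stalkEquiv w).symm.toLinearMap ∘ₗ
    ((germ s (F.obj (op n)) W w).hom.comp ((t.hom.app (op W)).hom.comp m₁))
  obtain ⟨k, e, he⟩ := Module.Finite.exists_fin (R := Λ) (M := M)
  obtain ⟨W', g, w', hw', hW'⟩ := exists_nbhd_eq_of_finite (F.obj (op n)) w
    (fun i => t.hom.app (op W) (m₁ (e i))) (fun i => n₁ (h (e i))) fun i =>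
      ((hn₁.stalkEquiv w).apply_symm_apply _).symm
  obtain ⟨V, hV, v, c, hc⟩ := exists_affine_nbhd s w'
  refine ⟨⟨V, hV, v, M, _, ((hm.restrict p).restrict g).restrict c⟩, c ≫ g ≫ q, h, ?_, ?_⟩
  · rw [fiber_map_comp, hc, fiber_map_comp, hw', hq]
  · have hlin : (t.hom.app (op W')).hom.comp (((F.obj (op (n + 1))).obj.map g.op).hom.comp m₁) =
        (((F.obj (op n)).obj.map g.op).hom.comp n₁).comp h := by
      refine LinearMap.ext_on_range he fun i => ?_
      exact (NatTrans.naturality_apply t.hom g.op (m₁ (e i))).trans (hW' i)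
    intro x
    refine (NatTrans.naturality_apply t.hom c.op _).trans ?_
    refine (congrArg ((F.obj (op n)).obj.map c.op) (LinearMap.congr_fun hlin x)).trans ?_
    simp only [op_comp, Functor.map_comp, LinearMap.comp_apply, n₁]
    rfl

include hF in
/-- Stalk systems at a point and at a generalisation are isomorphic. -/
theorem nonempty_iso_of_specializes [QuasiSeparatedSpace ↥X] {Ω' : Type u} [Field Ω'] [IsSepClosed Ω']
    (s' : Spec (CommRingCat.of Ω') ⟶ X) (hs : s' default ⤳ s default) :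
    Nonempty ((F ⋙ EtModW.stalk Λ s) ≅ (F ⋙ EtModW.stalk Λ s')) := by
  obtain ⟨a, ha⟩ : ∃ a : ∀ n, Node Λ s F n, ∀ n, NodeRel s (a n) (a (n + 1)) :=
    ⟨fun n => Nat.rec (nonempty_node s hF 0).some (fun _ b => (exists_next s hF b).choose) n,
      fun n => (exists_next s hF _).choose_spec⟩
  choose g h hg hh using ha
  let Φ : ℕᵒᵖ ⥤ Type u := Functor.ofOpSequence
    (X := fun n => (Scheme.pointSmallEtale s').fiber.obj (a n).V)
    fun n => (Scheme.pointSmallEtale s').fiber.map (g n)
  haveI : ∀ j, Finite (Φ.obj j) := fun j =>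
    haveI := (a j.unop).affine
    finite_fiber_of_isAffine (a j.unop).V s'
  haveI : ∀ j, Nonempty (Φ.obj j) := fun j => by
    haveI : Etale (a j.unop).V.hom := (a j.unop).V.prop
    obtain ⟨y, hy⟩ : s' default ∈ Set.range (a j.unop).V.hom :=
      hs.mem_open (a j.unop).V.hom.isOpenMap.isOpen_range
        ⟨(a j.unop).v.left (default : Spec (CommRingCat.of Ω)),
          congrArg (fun k : Spec (CommRingCat.of Ω) ⟶ X => k default) (Over.w (a j.unop).v)⟩
    exact ⟨(EtaleSite.exists_fiber_point s' (a j.unop).V y hy).choose⟩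
  obtain ⟨w, hw⟩ := nonempty_sections_of_finite_cofiltered_system Φ
  have hw' : ∀ n, (Scheme.pointSmallEtale s').fiber.map (g n) (w (op (n + 1))) = w (op n) := fun n => by
    have := hw (homOfLE (Nat.le_succ n)).op
    rw [Functor.ofOpSequence_map_homOfLE_succ] at this
    exact this
  let e : ∀ n : ℕ, (F ⋙ EtModW.stalk Λ s).obj (op n) ≅ (F ⋙ EtModW.stalk Λ s').obj (op n) := fun n =>
    LinearEquiv.toModuleIso ((LinearEquiv.symm (IsTriv.stalkEquiv (M := (a n).M) (a n).triv (a n).v)).trans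
      (IsTriv.stalkEquiv (M := (a n).M) (a n).triv (show (Scheme.pointSmallEtale s').fiber.obj (a n).V from w (op n))))
  have key : ∀ {Ω₀ : Type u} [Field Ω₀] [IsSepClosed Ω₀] (ξ : Spec (CommRingCat.of Ω₀) ⟶ X) (n : ℕ)
      (v : (Scheme.pointSmallEtale ξ).fiber.obj (a n).V)
      (v' : (Scheme.pointSmallEtale ξ).fiber.obj (a (n + 1)).V),
      (Scheme.pointSmallEtale ξ).fiber.map (g n) v' = v → ∀ x,
        (EtModW.stalk Λ ξ).map (F.map (homOfLE (Nat.le_succ n)).op) ((a (n + 1)).triv.stalkEquiv v' x) =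
          (a n).triv.stalkEquiv v (h n x) := by
    intro Ω₀ _ _ ξ n v v' hv x
    subst hv
    show (EtModW.stalk Λ ξ).map _ (germ ξ (F.obj (op (n + 1))) _ v' ((a (n + 1)).m x)) = _
    rw [germ_naturality, hh, germ_res]
    rfl
  let η : (F ⋙ EtModW.stalk Λ s) ⟶ (F ⋙ EtModW.stalk Λ s') :=
    NatTrans.ofOpSequence (fun n => (e n).hom) fun n => by
      ext p
      obtain ⟨x, rfl⟩ := ((a (n + 1)).triv.stalkEquiv (a (n + 1)).v).surjective p
      show ((a n).triv.stalkEquiv (w (op n))) (((a n).triv.stalkEquiv (a n).v).symm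
          ((EtModW.stalk Λ s).map (F.map (homOfLE (Nat.le_succ n)).op)
            ((a (n + 1)).triv.stalkEquiv (a (n + 1)).v x))) =
        (EtModW.stalk Λ s').map (F.map (homOfLE (Nat.le_succ n)).op)
          (((a (n + 1)).triv.stalkEquiv (w (op (n + 1))))
            (((a (n + 1)).triv.stalkEquiv (a (n + 1)).v).symm ((a (n + 1)).triv.stalkEquiv (a (n + 1)).v x)))
      rw [LinearEquiv.symm_apply_apply, key s n _ _ (hg n) x, LinearEquiv.symm_apply_apply,
        key s' n _ _ (hw' n) x]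
  haveI : ∀ j, IsIso (η.app j) := fun j => inferInstanceAs (IsIso (e j.unop).hom)
  haveI := NatIso.isIso_of_isIso_app η
  exact ⟨asIso η⟩

include hF in
/-- On a connected Noetherian scheme all stalk systems are isomorphic. -/
theorem nonempty_iso_stalkSystems [IsNoetherian X] [ConnectedSpace ↥X] {Ω' : Type u} [Field Ω']
    [IsSepClosed Ω'] (s' : Spec (CommRingCat.of Ω') ⟶ X) :
    Nonempty ((F ⋙ EtModW.stalk Λ s) ≅ (F ⋙ EtModW.stalk Λ s')) := by
  let A : Set X := {x | Nonempty ((F ⋙ EtModW.stalk Λ s) ≅ (F ⋙ EtModW.stalk Λ (EtaleSite.geomPointAt X x)))}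
  have hiff : ∀ {x y : X}, y ⤳ x → (x ∈ A ↔ y ∈ A) := by
    intro x y hxy
    obtain ⟨e⟩ := nonempty_iso_of_specializes (EtaleSite.geomPointAt X x) hF (EtaleSite.geomPointAt X y)
      (by rwa [EtaleSite.geomPointAt_apply, EtaleSite.geomPointAt_apply])
    exact ⟨fun ⟨f⟩ => ⟨f ≪≫ e⟩, fun ⟨f⟩ => ⟨f ≪≫ e.symm⟩⟩
  haveI : TopologicalSpace.NoetherianSpace ↥X := inferInstance
  have hclosed : ∀ B : Set X, (∀ {x y : X}, y ⤳ x → (x ∈ B ↔ y ∈ B)) → IsClosed B := by
    intro B hB
    have : B = ⋃ C ∈ {C ∈ irreducibleComponents ↥X | C ⊆ B}, C := by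
      refine Set.Subset.antisymm (fun x hx => ?_) (Set.iUnion₂_subset fun C hC => hC.2)
      refine Set.mem_biUnion ⟨irreducibleComponent_mem_irreducibleComponents x, fun z hz => ?_⟩
        mem_irreducibleComponent
      have hg : IsGenericPoint (isIrreducible_irreducibleComponent (x := x)).genericPoint
          (irreducibleComponent x) := by
        have := (isIrreducible_irreducibleComponent (x := x)).isGenericPoint_genericPoint_closure
        rwa [isClosed_irreducibleComponent.closure_eq] at this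
      exact (hB (hg.specializes hz)).2 ((hB (hg.specializes mem_irreducibleComponent)).1 hx)
    rw [this]
    exact ((TopologicalSpace.NoetherianSpace.finite_irreducibleComponents).subset fun C hC => hC.1).isClosed_biUnion
      fun C hC => isClosed_of_mem_irreducibleComponents C hC.1
  have hclopen : IsClopen A := ⟨hclosed A hiff,
    isClosed_compl_iff.1 (hclosed Aᶜ fun hxy => not_congr (hiff hxy))⟩
  have hne : s default ∈ A := nonempty_iso_of_specializes s hF _
    (by rw [EtaleSite.geomPointAt_apply])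
  have hs' : s' default ∈ A := by
    rcases isClopen_iff.1 hclopen with h0 | h1
    · exact absurd hne (h0 ▸ Set.notMem_empty _)
    · exact h1 ▸ Set.mem_univ _
  obtain ⟨e₁⟩ := hs'
  obtain ⟨e₂⟩ := nonempty_iso_of_specializes s' hF (EtaleSite.geomPointAt X (s' default))
    (by rw [EtaleSite.geomPointAt_apply])
  exact ⟨e₁ ≪≫ e₂.symm⟩

end Groth.Agent.EtModWLib
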