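import Groth.Prelude.Def_EtModW
import Groth.Prelude.Def_ARSys
import Mathlib.CategoryTheory.Limits.Preserves.Limits

/-!
# Transporting towers of quotients along functors preserving their limits
-/

set_option autoImplicit false

universe w v v' u u'

open CategoryTheory CategoryTheory.Limits Opposite ARSys

namespace Groth.Agent.EtModWLib

variable {A : Type w} [CommRing A] {C : Type u} [Category.{v} C] [Preadditive C] [Linear A C]
  {D : Type u'} [Category.{v'} D] [Preadditive D] [Linear A D]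

theorem adicData_map (I : Ideal A) (L : C ⥤ D) [PreservesLimitsOfShape ℕᵒᵖ L]
    [HasLimitsOfShape ℕᵒᵖ C] [HasLimitsOfShape ℕᵒᵖ D] (P : C → Prop) (P' : D → Prop)
    (hP : ∀ Q, P Q → P' (L.obj Q))
    (hL : ∀ (n : ℕ) {F Q : C} (p : F ⟶ Q), IsQuot (I ^ (n + 1)) p → IsQuot (I ^ (n + 1)) (L.map p))
    {F : C} (h : ∃ (Q : ℕᵒᵖ ⥤ C) (p : (Functor.const ℕᵒᵖ).obj F ⟶ Q),
      (∀ n : ℕ, IsQuot (I ^ (n + 1)) (p.app (op n))) ∧ (∀ n : ℕ, P (Q.obj (op n))) ∧
        IsIso (limit.lift Q (Cone.mk F p))) :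
    ∃ (Q : ℕᵒᵖ ⥤ D) (p : (Functor.const ℕᵒᵖ).obj (L.obj F) ⟶ Q),
      (∀ n : ℕ, IsQuot (I ^ (n + 1)) (p.app (op n))) ∧ (∀ n : ℕ, P' (Q.obj (op n))) ∧
        IsIso (limit.lift Q (Cone.mk (L.obj F) p)) := by
  obtain ⟨Q, p, hQ, hc, hiso⟩ := h
  let p' : (Functor.const ℕᵒᵖ).obj (L.obj F) ⟶ Q ⋙ L :=
    { app := fun n => L.map (p.app n)
      naturality := fun n m r => by
        show 𝟙 (L.obj F) ≫ L.map (p.app m) = L.map (p.app n) ≫ L.map (Q.map r)
        rw [← L.map_comp, Category.id_comp]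
        exact congrArg L.map ((Category.id_comp _).symm.trans (p.naturality r)) }
  refine ⟨Q ⋙ L, p', fun n => hL n _ (hQ n), fun n => hP _ (hc n), ?_⟩
  have : limit.lift (Q ⋙ L) (Cone.mk (L.obj F) p') =
      L.map (limit.lift Q (Cone.mk F p)) ≫ (preservesLimitIso L Q).hom :=
    limit.hom_ext fun j => by
      rw [limit.lift_π, Category.assoc, preservesLimitIso_hom_π, ← L.map_comp, limit.lift_π]
  rw [this]
  infer_instance

end Groth.Agent.EtModWLib
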