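import Groth.Agent.EtModWLib.Pull
import Mathlib.Algebra.Category.ModuleCat.Basic
import Mathlib.CategoryTheory.Sites.Whiskering

/-!
# The abelian sheaf underlying a sheaf of modules
-/

universe u

open CategoryTheory CategoryTheory.Limits AlgebraicGeometry Opposite

namespace Groth.Agent.EtModWLib

variable (Λ : Type (u + 1)) [CommRing Λ]

/-- The abelian sheaf underlying a sheaf of modules. -/
noncomputable abbrev toAb (X : Scheme.{u}) : EtModW.Mod Λ X ⥤ EtCoh.Ab X :=
  sheafCompose X.smallEtaleTopology (forget₂ (ModuleCat.{u + 1} Λ) AddCommGrpCat.{u + 1})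

instance additive_toAb (X : Scheme.{u}) : (toAb Λ X).Additive where

/-- Forgetting the module structure commutes with direct images. -/
noncomputable def toAbPushIso {X Y : Scheme.{u}} (f : X ⟶ Y) :
    EtModW.push Λ f ⋙ toAb Λ Y ≅ toAb Λ X ⋙ EtCoh.push f :=
  Iso.refl _

variable {Λ}

/-- A morphism of sheaves of modules which is an isomorphism of abelian sheaves is an isomorphism. -/
theorem isIso_of_isIso_toAb {X : Scheme.{u}} {F G : EtModW.Mod Λ X} (a : F ⟶ G)
    [IsIso ((toAb Λ X).map a)] : IsIso a :=
  isIso_of_reflects_iso a (toAb Λ X)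

end Groth.Agent.EtModWLib
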