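import Groth.Agent.EtModWLib.Pull
import Mathlib.CategoryTheory.Linear.LinearFunctor
import Mathlib.CategoryTheory.Linear.FunctorCategory

/-!
# Linearity of stalks and inverse images of sheaves of modules
-/

universe u

open CategoryTheory CategoryTheory.Limits AlgebraicGeometry Opposite

namespace Groth.Agent.EtModWLib

variable {Λ : Type (u + 1)} [CommRing Λ] {X Y : Scheme.{u}}

instance linear_stalk {Ω : Type u} [Field Ω] [IsSepClosed Ω] (ξ : Spec (CommRingCat.of Ω) ⟶ X) :
    (EtModW.stalk Λ ξ).Linear Λ where
  map_smul {F G} a r := by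
    ext p
    obtain ⟨U, x, s, rfl⟩ := exists_germ_eq ξ F p
    refine (germ_naturality ξ (r • a) U x s).trans ?_
    refine Eq.trans ?_ (congrArg (r • ·) (germ_naturality ξ a U x s)).symm
    exact map_smul (germ ξ G U x).hom r _

instance linear_pull (f : X ⟶ Y) : (EtModW.pull Λ f).Linear Λ where
  map_smul {F G} a r := hom_ext_of_stalk fun Ω _ _ ξ => by
    have e := (stalkPullIso (Λ := Λ) f ξ).hom.naturality (r • a)
    have e' := (stalkPullIso (Λ := Λ) f ξ).hom.naturality a
    simp only [Functor.comp_map] at e e'
    rw [← cancel_mono ((stalkPullIso (Λ := Λ) f ξ).hom.app G), e, Functor.map_smul, Functor.map_smul,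
      Linear.comp_smul, ← e', Linear.smul_comp]

end Groth.Agent.EtModWLib
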