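import Groth.Prelude.Def_EtModW
import Groth.Agent.EtModWLib.Forget
import Groth.Agent.EtModWLib.Linear
import Groth.Agent.ProEtS.EpsUnit
import Mathlib.CategoryTheory.Functor.Flat
import Mathlib.CategoryTheory.Functor.KanExtension.Preserves
import Mathlib.CategoryTheory.Sites.PreservesSheafification
import Mathlib.CategoryTheory.Abelian.GrothendieckAxioms.Basic

/-!
# The pullback of sheaves of modules from the etale to the pro-etale site is exact and fully faithful
-/

universe u

open CategoryTheory CategoryTheory.Limits AlgebraicGeometry Opposite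

namespace Groth.Agent.EtModWLib

open Groth.Agent

instance instHasColimitsBigModuleCat (Λ : Type (u + 1)) [CommRing Λ] :
    HasColimitsOfSize.{u, u + 1} (ModuleCat.{u + 1} Λ) :=
  hasColimitsOfSizeShrink.{u, u + 1, u + 1, u + 1} _

instance instAB5BigModuleCat (Λ : Type (u + 1)) [CommRing Λ] :
    AB5OfSize.{u, u + 1} (ModuleCat.{u + 1} Λ) :=
  AB5OfSize_of_univLE.{u, u + 1, u + 1, u + 1} _

instance instPreservesFilteredColimitsBigForgetModuleCat (Λ : Type (u + 1)) [CommRing Λ] :
    PreservesFilteredColimitsOfSize.{u, u + 1} (forget (ModuleCat.{u + 1} Λ)) :=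
  preservesFilteredColimitsOfSize_shrink.{u + 1, u + 1, u, u + 1} _

instance instPreservesColimitsBigForget₂ (Λ : Type (u + 1)) [CommRing Λ] :
    PreservesColimitsOfSize.{u, u + 1} (forget₂ (ModuleCat.{u + 1} Λ) AddCommGrpCat.{u + 1}) :=
  haveI : HasColimitsOfSize.{u, u + 1} AddCommGrpCat.{u + 1} :=
    hasColimitsOfSizeShrink.{u, u + 1, u + 1, u + 1} _
  ModuleCat.forget₂PreservesColimitsOfSize Λ

instance instPreservesSheafificationProEtForget₂ (Λ : Type (u + 1)) [CommRing Λ] (X : Scheme.{u}) :
    (Scheme.ProEt.topology X).PreservesSheafification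
      (forget₂ (ModuleCat.{u + 1} Λ) AddCommGrpCat.{u + 1}) where
  le P₁ P₂ f hf := by
    have h1 := GrothendieckTopology.W.isLocallyInjective hf
    have h2 := GrothendieckTopology.W.isLocallySurjective hf
    show (Scheme.ProEt.topology X).W (Functor.whiskerRight f (forget₂ _ AddCommGrpCat.{u + 1}))
    have : Presheaf.IsLocallyInjective (Scheme.ProEt.topology X)
        (Functor.whiskerRight f (forget₂ (ModuleCat.{u + 1} Λ) AddCommGrpCat.{u + 1})) :=
      ⟨fun x y h => h1.equalizerSieve_mem x y h⟩
    have : Presheaf.IsLocallySurjective (Scheme.ProEt.topology X)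
        (Functor.whiskerRight f (forget₂ (ModuleCat.{u + 1} Λ) AddCommGrpCat.{u + 1})) :=
      ⟨fun s => h2.imageSieve_mem s⟩
    exact (Scheme.ProEt.topology X).W_of_isLocallyBijective _

variable {Λ : Type (u + 1)} [CommRing Λ] {X : Scheme.{u}}

instance representablyFlat_eps (X : Scheme.{u}) : RepresentablyFlat (_root_.ProEtS.eps X) :=
  flat_of_preservesFiniteLimits _

set_option backward.defeqAttrib.useBackward true in
set_option backward.isDefEq.respectTransparency false in
/-- The left Kan extension along `ε` is left exact. -/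
instance preservesFiniteLimits_lan_eps (Λ : Type (u + 1)) [CommRing Λ] (X : Scheme.{u}) :
    PreservesFiniteLimits ((_root_.ProEtS.eps X).op.lan : (X.Etaleᵒᵖ ⥤ ModuleCat.{u + 1} Λ) ⥤ _) := by
  let G := _root_.ProEtS.eps X
  constructor
  intro J _ _
  refine preservesLimitsOfShape_of_evaluation _ J fun K => ?_
  haveI : IsFiltered (CostructuredArrow G.op K) :=
    IsFiltered.of_equivalence (structuredArrowOpEquivalence G (unop K))
  let e : G.op.lan ⋙ (evaluation _ (ModuleCat.{u + 1} Λ)).obj K ≅
      (Functor.whiskeringLeft _ _ _).obj (CostructuredArrow.proj G.op K) ⋙ colim :=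
    NatIso.ofComponents (fun F =>
      IsColimit.coconePointUniqueUpToIso
        (Functor.isPointwiseLeftKanExtensionLeftKanExtensionUnit G.op F K) (colimit.isColimit _))
      fun {F₁ F₂} φ => by
        apply (Functor.isPointwiseLeftKanExtensionLeftKanExtensionUnit G.op F₁ K).hom_ext
        intro T
        have h₁ := fun (F : X.Etaleᵒᵖ ⥤ ModuleCat.{u + 1} Λ) => IsColimit.comp_coconePointUniqueUpToIso_hom
          (Functor.isPointwiseLeftKanExtensionLeftKanExtensionUnit G.op F K) (colimit.isColimit _) T
        have h₂ := congr_app (G.op.lanUnit.naturality φ) T.left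
        dsimp at h₁ h₂ ⊢
        simp only [Category.assoc] at h₁ ⊢
        simp only [Functor.lan, Functor.lanUnit] at h₂ ⊢
        rw [reassoc_of% h₁, NatTrans.naturality_assoc, ← reassoc_of% h₂, h₁, ι_colimMap,
          Functor.whiskerLeft_app]
        rfl
  exact preservesLimitsOfShape_of_natIso e.symm

variable [_root_.ProEtS.EpsCont X]

instance preservesFiniteLimits_epsPullMod : PreservesFiniteLimits (EtModW.epsPullMod Λ X) :=
  Functor.sheafPullbackConstruction.preservesFiniteLimits _ _ _ _

/-- The adjunction between the inverse and direct image along `ε`. -/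
noncomputable def epsAdjMod : EtModW.epsPullMod Λ X ⊣
    (_root_.ProEtS.eps X).sheafPushforwardContinuous (ModuleCat.{u + 1} Λ) X.smallEtaleTopology
      (Scheme.ProEt.topology X) :=
  (_root_.ProEtS.eps X).sheafAdjunctionContinuous (ModuleCat.{u + 1} Λ) X.smallEtaleTopology
    (Scheme.ProEt.topology X)

instance preservesFiniteColimits_epsPullMod : PreservesFiniteColimits (EtModW.epsPullMod Λ X) :=
  have : PreservesColimitsOfSize.{0, 0} (EtModW.epsPullMod Λ X) := epsAdjMod.leftAdjoint_preservesColimits
  inferInstance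

instance additive_epsPushMod : ((_root_.ProEtS.eps X).sheafPushforwardContinuous (ModuleCat.{u + 1} Λ)
    X.smallEtaleTopology (Scheme.ProEt.topology X)).Additive where
  map_add := rfl

instance additive_epsPullMod : (EtModW.epsPullMod Λ X).Additive :=
  epsAdjMod.left_adjoint_additive

instance linear_epsPullMod : (EtModW.epsPullMod Λ X).Linear Λ where
  map_smul {F G} a r := by
    apply (epsAdjMod.homEquiv F _).injective
    rw [Adjunction.homEquiv_unit, Adjunction.homEquiv_unit]
    have h1 : epsAdjMod.unit.app F ≫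
        ((_root_.ProEtS.eps X).sheafPushforwardContinuous (ModuleCat.{u + 1} Λ) X.smallEtaleTopology
          (Scheme.ProEt.topology X)).map (r • (EtModW.epsPullMod Λ X).map a) =
        r • (epsAdjMod.unit.app F ≫
        ((_root_.ProEtS.eps X).sheafPushforwardContinuous (ModuleCat.{u + 1} Λ) X.smallEtaleTopology
          (Scheme.ProEt.topology X)).map ((EtModW.epsPullMod Λ X).map a)) := by
      rw [← Linear.comp_smul]
      rfl
    refine Eq.trans ?_ h1.symm
    refine (epsAdjMod.unit.naturality (r • a)).symm.trans ?_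
    refine Eq.trans ?_ (congrArg (r • ·) (epsAdjMod.unit.naturality a))
    exact Linear.smul_comp _ _ _ _ _ _

set_option backward.isDefEq.respectTransparency false in
theorem isIso_unit_construction (F : EtModW.Mod Λ X) :
    IsIso ((Functor.sheafPullbackConstruction.sheafAdjunctionContinuous (_root_.ProEtS.eps X)
      (ModuleCat.{u + 1} Λ) X.smallEtaleTopology (Scheme.ProEt.topology X)).unit.app F) := by
  let fg := forget₂ (ModuleCat.{u + 1} Λ) AddCommGrpCat.{u + 1}
  let ε := _root_.ProEtS.eps X
  let K := Scheme.ProEt.topology X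
  let adj := Functor.sheafPullbackConstruction.sheafAdjunctionContinuous ε
      (ModuleCat.{u + 1} Λ) X.smallEtaleTopology K
  have key : ∀ U : X.Etale, Function.Bijective ((adj.unit.app F).hom.app (op U)) := by
    intro U
    let F' : EtCoh.Ab X := (toAb Λ X).obj F
    let V := op (ε.obj U)
    let e₁ := fg.leftKanExtensionCompIsoOfPreserves F.obj ε.op
    let e₂ := sheafifyComposeIso K fg (ε.op.leftKanExtension F.obj)
    let ψ : sheafify K (ε.op.leftKanExtension (F.obj ⋙ fg)) ⟶ sheafify K (ε.op.leftKanExtension F.obj) ⋙ fg :=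
      sheafifyMap K e₁.inv ≫ e₂.hom
    have h : ∀ x, (adj.unit.app F).hom.app (op U) x =
        ψ.app V (ProEtS.EpsElem.scls F' (𝟙 (ε.obj U)) x) := by
      intro x
      have h2 : (toSheafify K (ε.op.leftKanExtension (F.obj ⋙ fg))).app V ≫ ψ.app V =
          e₁.inv.app V ≫ fg.map ((toSheafify K (ε.op.leftKanExtension F.obj)).app V) := by
        rw [← NatTrans.comp_app, show toSheafify K _ ≫ ψ = e₁.inv ≫ Functor.whiskerRight (toSheafify K (ε.op.leftKanExtension F.obj)) fg from ?_]
        · rfl
        · simp only [ψ]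
          rw [← Category.assoc, ← toSheafify_naturality, Category.assoc, sheafComposeIso_hom_fac]
      have h1 := Functor.leftKanExtensionCompIsoOfPreserves_inv_fac_app fg F.obj ε.op (op U)
      have h3 : (ε.op.leftKanExtensionUnit (F.obj ⋙ fg)).app (op U) ≫
          (toSheafify K (ε.op.leftKanExtension (F.obj ⋙ fg))).app V ≫ ψ.app V =
          fg.map ((ε.op.leftKanExtensionUnit F.obj).app (op U)) ≫
            fg.map ((toSheafify K (ε.op.leftKanExtension F.obj)).app V) := by
        rw [h2, ← Category.assoc]
        exact congrArg (· ≫ _) h1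
      have h4 := congrArg (fun k => k x) h3
      simp [adj, Functor.sheafPullbackConstruction.sheafAdjunctionContinuous,
        ProEtS.EpsElem.scls, ProEtS.EpsElem.cls, Functor.lanAdjunction_unit,
        Adjunction.restrictFullyFaithful, Adjunction.comp, Functor.lanUnit]
      rw [CategoryTheory.Functor.map_id]
      refine Eq.trans ?_ h4.symm
      rfl
    haveI : IsIso (ψ.app V) := inferInstance
    have hb := (ConcreteCategory.bijective_of_isIso (ψ.app V)).comp
      (ProEtS.EpsUnit.bijective_scls_id F' U)
    exact (funext h : ⇑((adj.unit.app F).hom.app (op U)) = _) ▸ hb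
  have : ∀ U, IsIso ((adj.unit.app F).hom.app U) := fun U =>
    (ConcreteCategory.isIso_iff_bijective _).2 (key U.unop)
  have : IsIso ((sheafToPresheaf X.smallEtaleTopology (ModuleCat.{u + 1} Λ)).map (adj.unit.app F)) :=
    @NatIso.isIso_of_isIso_app _ _ _ _ _ _ (adj.unit.app F).hom this
  exact isIso_of_fully_faithful (f := adj.unit.app F) (sheafToPresheaf X.smallEtaleTopology (ModuleCat.{u + 1} Λ))

instance isIso_unit_epsAdjMod : IsIso (epsAdjMod (Λ := Λ) (X := X)).unit :=
  have : ∀ F, IsIso ((epsAdjMod (Λ := Λ) (X := X)).unit.app F) := fun F => by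
    have := isIso_unit_construction F
    rw [← Adjunction.unit_leftAdjointUniq_hom_app (Functor.sheafPullbackConstruction.sheafAdjunctionContinuous
      (_root_.ProEtS.eps X) (ModuleCat.{u + 1} Λ) X.smallEtaleTopology (Scheme.ProEt.topology X)) epsAdjMod]
    infer_instance
  NatIso.isIso_of_isIso_app _

/-- `ε⁻¹` is fully faithful. -/
noncomputable def fullyFaithfulEpsPullMod : (EtModW.epsPullMod Λ X).FullyFaithful :=
  epsAdjMod.fullyFaithfulLOfIsIsoUnit

instance full_epsPullMod : (EtModW.epsPullMod Λ X).Full := fullyFaithfulEpsPullMod.full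

instance faithful_epsPullMod : (EtModW.epsPullMod Λ X).Faithful := fullyFaithfulEpsPullMod.faithful

end Groth.Agent.EtModWLib
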