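import Groth.Agent.EtModWLib.Special
import Groth.Agent.EtModWLib.Eps
import Groth.Agent.EtModWLib.Linear
import Groth.Agent.ARLib.Sub
import Groth.Agent.ARLib.Basic
import Mathlib.RingTheory.HopkinsLevitzki
import Mathlib.RingTheory.Nilpotent.Lemmas

/-!
# Mittag-Leffler for locally constant systems with Artinian coefficients
-/

universe u

open CategoryTheory CategoryTheory.Limits AlgebraicGeometry Opposite ARSys

namespace Groth.Agent.EtModWLib

open Groth.Agent Groth.Agent.ARLib

theorem isArtinianRing_quot_pow {R : Type*} [CommRing R] [IsNoetherianRing R] (I : Ideal R)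
    [IsArtinianRing (R ⧸ I)] (n : ℕ) : IsArtinianRing (R ⧸ I ^ (n + 1)) := by
  rw [isArtinianRing_iff_krullDimLE_zero, Ring.krullDimLE_zero_iff]
  intro P hP
  have hP' := Ideal.comap_isPrime (Ideal.Quotient.mk (I ^ (n + 1))) P
  have hle : I ^ (n + 1) ≤ P.comap (Ideal.Quotient.mk _) := fun x hx => by
    rw [Ideal.mem_comap, Ideal.Quotient.eq_zero_iff_mem.2 hx]
    exact P.zero_mem
  have hI : I ≤ P.comap (Ideal.Quotient.mk _) := hP'.le_of_pow_le hle
  have : (Ideal.map (Ideal.Quotient.mk I) (P.comap (Ideal.Quotient.mk (I ^ (n + 1))))).IsPrime :=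
    Ideal.map_isPrime_of_surjective Ideal.Quotient.mk_surjective (by rwa [Ideal.mk_ker])
  have hmax := IsArtinianRing.isMaximal_of_isPrime
    (Ideal.map (Ideal.Quotient.mk I) (P.comap (Ideal.Quotient.mk (I ^ (n + 1)))))
  have hmax' := Ideal.comap_isMaximal_of_surjective (Ideal.Quotient.mk I) Ideal.Quotient.mk_surjective (K := _) (H := hmax)
  rw [Ideal.comap_map_of_surjective _ Ideal.Quotient.mk_surjective, ← RingHom.ker_eq_comap_bot,
    Ideal.mk_ker, sup_eq_left.2 hI] at hmax'
  have := Ideal.map_eq_top_or_isMaximal_of_surjective (Ideal.Quotient.mk (I ^ (n + 1)))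
    Ideal.Quotient.mk_surjective hmax'
  rw [Ideal.map_comap_of_surjective _ Ideal.Quotient.mk_surjective] at this
  exact this.resolve_left hP.ne_top

theorem isArtinian_of_killed {R : Type*} [CommRing R] (J : Ideal R) [IsArtinianRing (R ⧸ J)]
    {M : Type*} [AddCommGroup M] [Module R M] [Module.Finite R M] (h : ∀ a ∈ J, ∀ x : M, a • x = 0) :
    IsArtinian R M := by
  obtain ⟨k, e, he⟩ := Module.Finite.exists_fin (R := R) (M := M)
  have : IsArtinian R (R ⧸ J) :=
    isArtinian_of_surjective_algebraMap (S := R) (R := R ⧸ J) (M := R ⧸ J) Ideal.Quotient.mk_surjective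
  let φ : (Fin k → R ⧸ J) →ₗ[R] M := ∑ i, (Submodule.liftQ J (LinearMap.toSpanSingleton R M (e i))
    fun a ha => h a ha (e i)).comp (LinearMap.proj i)
  refine isArtinian_of_surjective (f := φ) (hf := fun x => ?_)
  obtain ⟨c, hc⟩ := (Submodule.mem_span_range_iff_exists_fun R).1 (he ▸ Submodule.mem_top : x ∈ Submodule.span R (Set.range e))
  refine ⟨fun i => Submodule.Quotient.mk (c i), ?_⟩
  rw [← hc, LinearMap.sum_apply]
  rfl

variable {Λ : Type (u + 1)} [CommRing Λ] [IsNoetherianRing Λ] {X : Scheme.{u}} [IsNoetherian X]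

/-- For a system of locally constant sheaves killed by powers of an ideal with Artinian quotient,
the images of the transition maps stabilise. -/
theorem exists_image_stabilises {I : Ideal Λ} [IsArtinianRing (Λ ⧸ I)] {F : ARSys.PS (EtModW.Mod Λ X)}
    (hk : TermKilled I F) (hF : ∀ n : ℕ, EtModW.IsFTLocConst Λ (F.obj (op n))) (n : ℕ) :
    ∃ r, ∀ s, r ≤ s → sm F r n ≫ cokernel.π (sm F s n) = 0 := by
  classical
  have := isArtinianRing_quot_pow I n
  haveI : TopologicalSpace.NoetherianSpace ↥X := inferInstance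
  have key : ∀ {Ω : Type u} [Field Ω] [IsSepClosed Ω] (η : Spec (CommRingCat.of Ω) ⟶ X),
      ∃ r, ∀ s, r ≤ s → LinearMap.range ((EtModW.stalk Λ η).map (sm F r n)).hom ≤
        LinearMap.range ((EtModW.stalk Λ η).map (sm F s n)).hom := by
    intro Ω _ _ η
    let L := EtModW.stalk Λ η
    haveI : Module.Finite Λ ↑(L.obj (F.obj (op n))) := finite_stalk (hF n) η
    haveI : IsArtinian Λ ↑(L.obj (F.obj (op n))) := isArtinian_of_killed (I ^ (n + 1)) fun a ha x => by
      have := congrArg L.map (hk n a ha)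
      rw [Functor.map_smul, CategoryTheory.Functor.map_id, Functor.map_zero] at this
      exact congrArg (fun k => k x) this
    let V : ℕ →o (Submodule Λ ↑(L.obj (F.obj (op n))))ᵒᵈ :=
      { toFun := fun s => OrderDual.toDual (LinearMap.range (L.map (sm F s n)).hom)
        monotone' := fun r s hrs => by
          show LinearMap.range (L.map (sm F s n)).hom ≤ LinearMap.range (L.map (sm F r n)).hom
          rw [← tr_from_le F hrs, L.map_comp]
          exact LinearMap.range_comp_le_range _ _ }
    obtain ⟨r, hr⟩ := monotone_stabilizes_iff_artinian.2 inferInstance V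
    exact ⟨r, fun s hs => (congrArg OrderDual.ofDual (hr s hs)).le⟩
  choose r hr using fun C : irreducibleComponents ↥X =>
    key (EtaleSite.geomPointAt X ((C.2.1).genericPoint))
  haveI := (TopologicalSpace.NoetherianSpace.finite_irreducibleComponents (α := ↥X)).to_subtype
  obtain ⟨R, hR⟩ := Finite.exists_le r
  refine ⟨R, fun s hs => hom_ext_of_stalk fun Ω _ _ ξ => ?_⟩
  let C : irreducibleComponents ↥X := ⟨irreducibleComponent (ξ default),
    irreducibleComponent_mem_irreducibleComponents _⟩
  have hg : IsGenericPoint C.2.1.genericPoint (irreducibleComponent (ξ default)) := by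
    have := C.2.1.isGenericPoint_genericPoint_closure
    rwa [isClosed_irreducibleComponent.closure_eq] at this
  obtain ⟨e⟩ := nonempty_iso_of_specializes ξ hF (EtaleSite.geomPointAt X C.2.1.genericPoint)
    (by rw [EtaleSite.geomPointAt_apply]; exact hg.specializes mem_irreducibleComponent)
  rw [Functor.map_comp, Functor.map_zero]
  ext p
  obtain ⟨q, hq⟩ := (hr C s ((hR C).trans hs)) (show (EtModW.stalk Λ (EtaleSite.geomPointAt X C.2.1.genericPoint)).map
      (sm F (r C) n) ((EtModW.stalk Λ (EtaleSite.geomPointAt X C.2.1.genericPoint)).map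
        (tr F (show n + r C ≤ n + R by have := hR C; omega)) (e.hom.app (op (n + R)) p)) ∈ _ from ⟨_, rfl⟩)
  have hnat : ∀ (t : ℕ) (y : ↑((EtModW.stalk Λ ξ).obj (F.obj (op (n + t))))),
      (EtModW.stalk Λ (EtaleSite.geomPointAt X C.2.1.genericPoint)).map (sm F t n) (e.hom.app (op (n + t)) y) =
        e.hom.app (op n) ((EtModW.stalk Λ ξ).map (sm F t n) y) := fun t y =>
    (NatTrans.naturality_apply e.hom (homOfLE (Nat.le_add_right n t)).op y).symm
  have hq' : (EtModW.stalk Λ ξ).map (sm F s n) (e.inv.app (op (n + s)) q) = (EtModW.stalk Λ ξ).map (sm F R n) p := by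
    apply (ConcreteCategory.bijective_of_isIso (e.hom.app (op n))).1
    rw [← hnat, ← hnat]
    refine (congrArg _ ((ConcreteCategory.comp_apply _ _ _).symm.trans
      (congrArg (fun k => k q) (Iso.inv_hom_id_app e (op (n + s)))))).trans ?_
    refine hq.trans ?_
    rw [← ConcreteCategory.comp_apply, ← Functor.map_comp, sm, tr_comp]
  show (EtModW.stalk Λ ξ).map (cokernel.π (sm F s n)) ((EtModW.stalk Λ ξ).map (sm F R n) p) = 0
  rw [← hq', ← ConcreteCategory.comp_apply, ← Functor.map_comp, cokernel.condition, Functor.map_zero]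
  rfl

/-- The Mittag-Leffler condition after pulling back to the pro-etale site. -/
theorem isML_epsPullMod [_root_.ProEtS.EpsCont X] {I : Ideal Λ} [IsArtinianRing (Λ ⧸ I)]
    {F : ARSys.PS (EtModW.Mod Λ X)}
    (hk : TermKilled I F) (hF : ∀ n : ℕ, EtModW.IsFTLocConst Λ (F.obj (op n))) :
    IsML (F ⋙ EtModW.epsPullMod Λ X) := by
  intro n
  obtain ⟨r, hr⟩ := exists_image_stabilises hk hF n
  refine ⟨r, fun s hs => (imageSubobject_eq_iff _ _).2 fun Z ψ => ⟨fun h => ?_, fun h => ?_⟩⟩
  · let L := EtModW.epsPullMod Λ X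
    have h' : L.map (sm F s n) ≫ ψ = 0 := h
    show L.map (sm F r n) ≫ ψ = 0
    have hc : IsColimit (CokernelCofork.ofπ (L.map (cokernel.π (sm F s n)))
        (by rw [← Functor.map_comp, cokernel.condition, Functor.map_zero])) :=
      CokernelCofork.mapIsColimit _ (cokernelIsCokernel _) L
    obtain ⟨χ, hχ⟩ := CokernelCofork.IsColimit.desc' hc ψ h'
    rw [← hχ]
    show L.map (sm F r n) ≫ L.map (cokernel.π (sm F s n)) ≫ χ = 0
    rw [← Category.assoc, ← Functor.map_comp, hr s hs, Functor.map_zero, zero_comp]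
  · show sm (F ⋙ EtModW.epsPullMod Λ X) s n ≫ ψ = 0
    rw [← tr_from_le _ hs, Category.assoc]
    exact (congrArg (_ ≫ ·) h).trans comp_zero

end Groth.Agent.EtModWLib
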