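import Groth.Agent.EtModWLib.Constructible
import Groth.Agent.EtModWLib.Descend
import Groth.Agent.EtaleSite.Clopen
import Mathlib.AlgebraicGeometry.AffineScheme

/-!
# Constructible sheaves are generated by finitely many sections
-/

universe u

open CategoryTheory CategoryTheory.Limits AlgebraicGeometry Opposite Topology

namespace Groth.Agent.EtModWLib

open Groth.Agent

variable {Λ : Type (u + 1)} [CommRing Λ] {X : Scheme.{u}}

/-- Constructible subsets of quasi-compact quasi-separated schemes are quasi-compact. -/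
theorem isCompact_of_isConstructible [CompactSpace X] [QuasiSeparatedSpace X] {s : Set X}
    (hs : IsConstructible s) : IsCompact s := by
  haveI : Nonempty X.affineOpens := ⟨⟨⊥, isAffineOpen_bot X⟩⟩
  let b : X.affineOpens → Set X := fun i => (i.1 : Set X)
  have hb : TopologicalSpace.IsTopologicalBasis (Set.range b) := by
    have := X.isBasis_affineOpens
    unfold TopologicalSpace.Opens.IsBasis at this
    convert this using 1
    ext s
    constructor
    · rintro ⟨i, rfl⟩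
      exact ⟨i.1, i.2, rfl⟩
    · rintro ⟨V, hV, rfl⟩
      exact ⟨⟨V, hV⟩, rfl⟩
  induction s, hs using IsConstructible.induction_of_isTopologicalBasis b hb (fun i => i.2.isCompact) with
  | sdiff i t ht =>
    exact IsCompact.diff i.2.isCompact (isOpen_biUnion fun j _ => j.1.2)
  | union s hs t ht h₁ h₂ => exact h₁.union h₂

/-- The germs of a family of sections at a geometric point. -/
def germsAt {F : EtModW.Mod Λ X} {κ : Type*} (W : κ → X.Etale) (s : ∀ k, F.obj.obj (op (W k)))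
    {Ω : Type u} [Field Ω] [IsSepClosed Ω] (ξ : Spec (CommRingCat.of Ω) ⟶ X) :
    Set ↑((EtModW.stalk Λ ξ).obj F) :=
  {q | ∃ k φ, germ ξ F (W k) φ (s k) = q}

/-- Near a point of a stratum, liftable sections on an affine étale scheme generate. -/
theorem exists_gen_nbhd {Z F : EtModW.Mod Λ X} (π : Z ⟶ F) [Epi π] {T : Scheme.{u}} (g : T ⟶ X) [IsImmersion g]
    (hF : EtModW.IsFTLocConst Λ ((EtModW.pull Λ g).obj F)) (t : T) :
    ∃ (O : T.Opens) (W : X.Etale) (n : ℕ) (s : Fin n → Z.obj.obj (op W)), t ∈ O ∧ IsAffine W.left ∧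
      ∀ (Ω : Type u) [Field Ω] [IsSepClosed Ω] (ξ : Spec (CommRingCat.of Ω) ⟶ X), ξ default ∈ g '' (O : Set T) →
        Submodule.span Λ (germsAt (F := F) (fun _ => W) (fun k => π.hom.app (op W) (s k)) ξ) = ⊤ := by
  let η := EtaleSite.geomPointAt T t
  have hη : η default = t := EtaleSite.geomPointAt_apply T t _
  obtain ⟨V, φV, M, _, _, _, m, hm⟩ := exists_isTriv hF η
  obtain ⟨n, e, he⟩ := Module.Finite.exists_fin (R := Λ) (M := M)
  have hsurj := (epi_iff_stalk π).1 inferInstance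
  choose p hp using fun k => hsurj _ (η ≫ g) ((stalkPullIso (Λ := Λ) g η).hom.app F
    (germ η ((EtModW.pull Λ g).obj F) V φV (m (e k))))
  obtain ⟨W₀, w₀, hW⟩ : ∃ (W : X.Etale) (w : (Scheme.pointSmallEtale (η ≫ g)).fiber.obj W),
      ∀ k, ∃ s : Z.obj.obj (op W), germ (η ≫ g) Z W w s = p k := by
    have : ∀ s : Finset (Fin n), ∃ (W : X.Etale) (w : (Scheme.pointSmallEtale (η ≫ g)).fiber.obj W),
        ∀ k ∈ s, ∃ s : Z.obj.obj (op W), germ (η ≫ g) Z W w s = p k := by
      intro s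
      induction s using Finset.induction_on with
      | empty =>
        obtain ⟨φ', -⟩ := EtaleSite.exists_fiber_point (η ≫ g) (EtCoh.top X) ((η ≫ g) default) rfl
        exact ⟨_, φ', fun i hi => absurd hi (Finset.notMem_empty i)⟩
      | @insert a s _ ih =>
        obtain ⟨W, w, hW⟩ := ih
        obtain ⟨W', r, w', s', hw', hs'⟩ := exists_germ_eq_refine w Z (p a)
        refine ⟨W', w', fun k hk => ?_⟩
        rcases Finset.mem_insert.1 hk with rfl | hk
        · exact ⟨s', hs'⟩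
        · obtain ⟨t', ht'⟩ := hW k hk
          exact ⟨Z.obj.map r.op t', by rw [germ_res, hw', ht']⟩
    obtain ⟨W, w, h⟩ := this Finset.univ
    exact ⟨W, w, fun k => h k (Finset.mem_univ k)⟩
  choose s₀ hs₀ using hW
  -- shrink to an affine neighbourhood
  obtain ⟨A, hA, hwA, -⟩ := exists_isAffineOpen_mem_and_subset
    (show w₀.left (default : Spec (CommRingCat.of (SeparableClosure (T.residueField t)))) ∈ (⊤ : W₀.left.Opens) from trivial)
  let W := EtaleSite.piece W₀ A
  haveI : Etale W.hom := W.prop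
  obtain ⟨w, hw⟩ : ∃ w : (Scheme.pointSmallEtale (η ≫ g)).fiber.obj W,
      (Scheme.pointSmallEtale (η ≫ g)).fiber.map (EtaleSite.pieceHom W₀ A) w = w₀ :=
    exists_fiber_lift (EtaleSite.pieceHom W₀ A) w₀ ⟨_, hwA⟩ rfl
  let s : Fin n → Z.obj.obj (op W) := fun k => Z.obj.map (EtaleSite.pieceHom W₀ A).op (s₀ k)
  let G := (EtModW.pull Λ g).obj F
  obtain ⟨V₁, v₁, a, b, ha, hb⟩ := exists_refine φV (EtaleSite.fiberBcEquiv g η W w)
  have heq : ∀ k, germ η G V₁ v₁ (G.obj.map a.op (m (e k))) =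
      germ η G V₁ v₁ (G.obj.map b.op (pullSect g F W (π.hom.app (op W) (s k)))) := fun k => by
    rw [germ_res, germ_res, ha, hb, germ_pullSect, ← germ_naturality]
    have : germ (η ≫ g) Z W w (s k) = p k := by rw [germ_res, hw, hs₀]
    rw [this, hp, ← ConcreteCategory.comp_apply, Iso.hom_inv_id_app]
    rfl
  obtain ⟨V₂, c, v₂, hv₂, he₂⟩ := exists_nbhd_eq_of_finite G v₁ _ _ heq
  haveI : Etale V₂.hom := V₂.prop
  refine ⟨⟨_, V₂.hom.isOpenMap.isOpen_range⟩, W, n, s, ⟨v₂.left (default : Spec (CommRingCat.of (SeparableClosure (T.residueField t)))), ?_⟩, hA, ?_⟩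
  · exact (congrArg (fun k : Spec (CommRingCat.of (SeparableClosure (T.residueField t))) ⟶ T => k default) (Over.w v₂)).trans hη
  intro Ω _ _ ξ hξ
  obtain ⟨t', ⟨y, hy⟩, ht'⟩ := hξ
  obtain ⟨ξ', rfl⟩ := exists_lift_of_isImmersion g ξ t' ht'
  have hy' : V₂.hom y = ξ' default := g.isEmbedding.injective (by
    rw [hy, ht', Scheme.Hom.comp_apply])
  obtain ⟨v, -⟩ := EtaleSite.exists_fiber_point ξ' V₂ y hy'
  have hT := (hm.restrict a).restrict c Ω ξ' v
  refine eq_top_iff.2 fun q _ => ?_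
  obtain ⟨x, hx⟩ := hT.2 ((stalkPullIso (Λ := Λ) g ξ').inv.app F q)
  have hq : q = (stalkPullIso (Λ := Λ) g ξ').hom.app F
      (germ ξ' G V₂ v (((G.obj.map c.op).hom.comp ((G.obj.map a.op).hom.comp m)) x)) := by
    refine Eq.trans ?_ (congrArg _ hx.symm)
    rw [← ConcreteCategory.comp_apply, Iso.inv_hom_id_app]
    rfl
  rw [hq]
  clear hx hq
  have hx : x ∈ Submodule.span Λ (Set.range e) := he ▸ Submodule.mem_top
  induction hx using Submodule.span_induction with
  | mem x hx =>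
    obtain ⟨k, rfl⟩ := hx
    obtain ⟨φ, hφ⟩ := (EtaleSite.fiberBcEquiv g ξ' W).surjective
      ((Scheme.pointSmallEtale ξ').fiber.map (c ≫ b) v)
    refine Submodule.subset_span ⟨k, φ, ?_⟩
    simp only [LinearMap.comp_apply]
    rw [he₂, germ_res, germ_res, ← fiber_map_comp, ← hφ, germ_pullSect,
      ← ConcreteCategory.comp_apply (f := (stalkPullIso (Λ := Λ) g ξ').inv.app F), Iso.inv_hom_id_app]
    rfl
  | zero => simp only [map_zero]; exact zero_mem _
  | add x y _ _ h₁ h₂ => simp only [map_add]; exact add_mem h₁ h₂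
  | smul r x _ h => simp only [map_smul]; exact Submodule.smul_mem _ r h

/-- Re-indexing a finite family of generators by `Fin`. -/
theorem exists_fin_of_finite {κ : Type*} [Finite κ] {Z F : EtModW.Mod Λ X} (W : κ → X.Etale)
    (s : ∀ k, Z.obj.obj (op (W k))) (hW : ∀ k, IsAffine (W k).left) (π : Z ⟶ F)
    (h : ∀ (Ω : Type u) [Field Ω] [IsSepClosed Ω] (ξ : Spec (CommRingCat.of Ω) ⟶ X),
      Submodule.span Λ (germsAt (F := F) W (fun k => π.hom.app (op (W k)) (s k)) ξ) = ⊤) :
    ∃ (m : ℕ) (W : Fin m → X.Etale) (s : ∀ k, Z.obj.obj (op (W k))), (∀ k, IsAffine (W k).left) ∧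
      ∀ (Ω : Type u) [Field Ω] [IsSepClosed Ω] (ξ : Spec (CommRingCat.of Ω) ⟶ X),
        Submodule.span Λ (germsAt (F := F) W (fun k => π.hom.app (op (W k)) (s k)) ξ) = ⊤ := by
  obtain ⟨m, ⟨e⟩⟩ := Finite.exists_equiv_fin κ
  refine ⟨m, fun k => W (e.symm k), fun k => s (e.symm k), fun k => hW _, fun Ω _ _ ξ => ?_⟩
  refine eq_top_iff.2 ((h Ω ξ).ge.trans (Submodule.span_mono ?_))
  rintro q ⟨k, φ, rfl⟩
  obtain ⟨j, rfl⟩ := e.symm.surjective k
  exact ⟨j, φ, rfl⟩

set_option maxHeartbeats 600000 in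
/-- A quotient which is constructible on a quasi-compact scheme is generated by the images of
finitely many sections over affine étale schemes. -/
theorem exists_finite_generators [CompactSpace X] {Z F : EtModW.Mod Λ X} (π : Z ⟶ F) [Epi π]
    (hF : EtModW.IsConstructible Λ F) :
    ∃ (m : ℕ) (W : Fin m → X.Etale) (s : ∀ k, Z.obj.obj (op (W k))), (∀ k, IsAffine (W k).left) ∧
      ∀ (Ω : Type u) [Field Ω] [IsSepClosed Ω] (ξ : Spec (CommRingCat.of Ω) ⟶ X),
        Submodule.span Λ (germsAt (F := F) W (fun k => π.hom.app (op (W k)) (s k)) ξ) = ⊤ := by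
  classical
  obtain ⟨S, hS⟩ := isCompact_univ.elim_finite_subcover (fun U : X.affineOpens => (U.1 : Set X))
    (fun U => U.1.2) fun x _ => by
      obtain ⟨U, hU, hx, -⟩ := exists_isAffineOpen_mem_and_subset (show x ∈ (⊤ : X.Opens) from trivial)
      exact Set.mem_iUnion.2 ⟨⟨U, hU⟩, hx⟩
  choose n T g hg hc hd hu hF' using fun U : S => hF U.1.1 U.1.2
  have hcomp : ∀ (U : S) (i : Fin (n U)), CompactSpace (T U i) := fun U i => by
    haveI := hg U i
    haveI : IsAffine (U.1.1 : Scheme.{u}) := U.1.2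
    have h := isCompact_of_isConstructible (X := (U.1.1 : Scheme.{u})) (hc U i)
    have h' : IsCompact (Set.range (g U i)) := by
      have h2 := h.image continuous_subtype_val
      erw [Subtype.image_preimage_coe] at h2
      have h3 : Set.range (g U i) ⊆ (U.1.1 : Set X) := by
        rw [← hu U]
        exact Set.subset_iUnion (fun i => Set.range (g U i)) i
      erw [Set.inter_eq_right.2 h3] at h2
      exact h2
    exact ⟨(g U i).isEmbedding.isCompact_iff.2 (by rw [Set.image_univ]; exact h')⟩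
  have hnb := fun (U : S) (i : Fin (n U)) (t : T U i) =>
    @exists_gen_nbhd Λ _ X Z F π _ (T U i) (g U i) (hg U i) (hF' U i) t
  choose O W N s htO hWa hgen using hnb
  have hfin : ∀ (U : S) (i : Fin (n U)), ∃ R : Finset (T U i), (Set.univ : Set (T U i)) ⊆ ⋃ t ∈ R, (O U i t : Set (T U i)) := by
    intro U i
    haveI := hcomp U i
    exact isCompact_univ.elim_finite_subcover (fun t => (O U i t : Set (T U i))) (fun t => (O U i t).2)
      fun t _ => Set.mem_iUnion.2 ⟨t, htO U i t⟩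
  choose R hR using hfin
  let K := Σ U : S, Σ i : Fin (n U), Σ t : R U i, Fin (N U i t.1)
  refine exists_fin_of_finite (fun c : K => W c.1 c.2.1 c.2.2.1.1)
    (fun c : K => s c.1 c.2.1 c.2.2.1.1 c.2.2.2) (fun c => hWa _ _ _) π fun Ω _ _ ξ => ?_
  obtain ⟨U, hU, hxU⟩ := Set.mem_iUnion₂.1 (hS (Set.mem_univ (ξ default)))
  obtain ⟨i, t₀, ht₀⟩ := Set.mem_iUnion.1 ((hu ⟨U, hU⟩).ge hxU)
  obtain ⟨t, htR, ht⟩ := Set.mem_iUnion₂.1 (hR ⟨U, hU⟩ i (Set.mem_univ t₀))
  refine eq_top_iff.2 ((hgen ⟨U, hU⟩ i t Ω ξ ⟨t₀, ht, ht₀⟩).ge.trans (Submodule.span_mono ?_))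
  intro q hq
  obtain ⟨k, φ, hφ⟩ := hq
  exact ⟨(⟨⟨U, hU⟩, i, ⟨t, htR⟩, k⟩ : K), φ, hφ⟩

end Groth.Agent.EtModWLib
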