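import Groth.Prelude.Def_SixF2
import Groth.Agent.EtModWLib.Gen

/-!
# Sums of `j_! Λ` surject onto sheaves generated by finitely many sections
-/

universe u

open CategoryTheory CategoryTheory.Limits AlgebraicGeometry Opposite

namespace Groth.Agent.EtModWLib

open Groth.Agent

variable {Λ : Type (u + 1)} [CommRing Λ] {X : Scheme.{u}}

set_option backward.isDefEq.respectTransparency.types false in
/-- A section over an étale scheme `W` gives a morphism `j_! Λ ⟶ Z` hitting it. -/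
theorem exists_extZero_hom (W : X.Etale) [Etale W.hom] [EtShriek.JCont W.hom] {Z : EtModW.Mod Λ X}
    (s : Z.obj.obj (op W)) :
    ∃ (ψ : (EtSix.extZeroMod Λ W.hom).obj (EtSix.constΛ Λ W.left) ⟶ Z)
      (e : ((EtSix.extZeroMod Λ W.hom).obj (EtSix.constΛ Λ W.left)).obj.obj (op W)),
      ψ.hom.app (op W) e = s := by
  let U := W.left
  let adj := EtSix.extZeroModAdj Λ W.hom
  let iW : (EtShriek.compEtale W.hom).obj (EtCoh.top U) ≅ W :=
    MorphismProperty.Over.isoMk (Iso.refl _)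
      ((Category.id_comp W.hom).trans (Category.id_comp W.hom).symm)
  let φ : EtSix.constΛ Λ U ⟶ (EtSix.restrMod Λ W.hom).obj Z :=
    ((EtSix.constModAdj Λ U).homEquiv _ _).symm
      (ModuleCat.ofHom (LinearMap.toSpanSingleton Λ _
        (show (EtSix.gsecMod Λ U).obj ((EtSix.restrMod Λ W.hom).obj Z) from Z.obj.map iW.hom.op s)))
  let one := ((EtSix.constModAdj Λ U).unit.app (ModuleCat.of Λ Λ)).hom (1 : Λ)
  have h1 : φ.hom.app (op (EtCoh.top U)) one = Z.obj.map iW.hom.op s := by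
    have h := (EtSix.constModAdj Λ U).homEquiv_unit (ModuleCat.of Λ Λ) _ φ
    rw [Equiv.apply_symm_apply] at h
    refine ((congrArg (fun k => k.hom (1 : Λ)) h).symm).trans ?_
    exact one_smul Λ _
  let ψ := (adj.homEquiv _ _).symm φ
  let e₀ := (adj.unit.app (EtSix.constΛ Λ U)).hom.app (op (EtCoh.top U)) one
  have h2 : ψ.hom.app (op ((EtShriek.compEtale W.hom).obj (EtCoh.top U))) e₀ = Z.obj.map iW.hom.op s := by
    have h := adj.homEquiv_unit (EtSix.constΛ Λ U) Z ψ
    rw [Equiv.apply_symm_apply] at h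
    refine Eq.trans ?_ h1
    rw [h]
    rfl
  refine ⟨ψ, ((EtSix.extZeroMod Λ W.hom).obj (EtSix.constΛ Λ U)).obj.map iW.inv.op e₀, ?_⟩
  refine (NatTrans.naturality_apply ψ.hom iW.inv.op e₀).trans ?_
  refine (congrArg (Z.obj.map iW.inv.op) h2).trans ?_
  rw [← ConcreteCategory.comp_apply, ← Functor.map_comp, ← op_comp, Iso.inv_hom_id, op_id,
    CategoryTheory.Functor.map_id]
  rfl

/-- Finitely many sections generating the stalks of a quotient give an epimorphism from a sum of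
extensions by zero. -/
theorem exists_sum_extZero_epi {m : ℕ} (W : Fin m → X.Etale) [∀ k, Etale (W k).hom]
    [∀ k, EtShriek.JCont (W k).hom] {Z F : EtModW.Mod Λ X} (π : Z ⟶ F) (s : ∀ k, Z.obj.obj (op (W k)))
    (h : ∀ (Ω : Type u) [Field Ω] [IsSepClosed Ω] (ξ : Spec (CommRingCat.of Ω) ⟶ X),
      Submodule.span Λ (germsAt (F := F) W (fun k => π.hom.app (op (W k)) (s k)) ξ) = ⊤) :
    ∃ ψ : (∐ fun k => (EtSix.extZeroMod Λ (W k).hom).obj (EtSix.constΛ Λ (W k).left)) ⟶ Z, Epi (ψ ≫ π) := by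
  choose ψ e he using fun k => exists_extZero_hom (W k) (s k)
  refine ⟨Sigma.desc ψ, epi_of_stalk _ fun Ω _ _ ξ q => ?_⟩
  have hq : q ∈ LinearMap.range ((EtModW.stalk Λ ξ).map (Sigma.desc ψ ≫ π)).hom := by
    refine Submodule.span_le.2 ?_ ((h Ω ξ).ge Submodule.mem_top)
    rintro _ ⟨k, φ, rfl⟩
    refine ⟨(EtModW.stalk Λ ξ).map (Sigma.ι (fun k => (EtSix.extZeroMod Λ (W k).hom).obj
      (EtSix.constΛ Λ (W k).left)) k) (germ ξ _ (W k) φ (e k)), ?_⟩
    show (EtModW.stalk Λ ξ).map (Sigma.desc ψ ≫ π) _ = _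
    rw [← ConcreteCategory.comp_apply, ← Functor.map_comp, Sigma.ι_desc_assoc, germ_naturality]
    refine congrArg (germ ξ F (W k) φ) ?_
    exact congrArg (π.hom.app (op (W k))) (he k)
  exact hq

end Groth.Agent.EtModWLib
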