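import Groth.Agent.EtModWLib.Descend
import Mathlib.CategoryTheory.Preadditive.Biproducts

/-!
# Subsheaves of finite type locally constant sheaves on irreducible schemes
-/

universe u

open CategoryTheory CategoryTheory.Limits AlgebraicGeometry Opposite

namespace Groth.Agent.EtModWLib

open Groth.Agent

variable {Λ : Type (u + 1)} [CommRing Λ] {X : Scheme.{u}}

/-- Finite direct sums of finite type locally constant sheaves. -/
theorem isFTLocConst_biproduct {k : ℕ} (F : Fin k → EtModW.Mod Λ X) [HasBiproduct F]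
    (hF : ∀ i, EtModW.IsFTLocConst Λ (F i)) : EtModW.IsFTLocConst Λ (⨁ F) := by
  refine isFTLocConst_of_isTriv fun Ω _ _ ξ => ?_
  choose U φ M i₁ i₂ i₃ m hm using fun i => exists_isTriv (hF i) ξ
  have hcommon : ∀ s : Finset (Fin k), ∃ (W : X.Etale) (_ : (Scheme.pointSmallEtale ξ).fiber.obj W),
      ∀ i ∈ s, Nonempty (W ⟶ U i) := by
    intro s
    induction s using Finset.induction_on with
    | empty =>
      obtain ⟨φ', -⟩ := EtaleSite.exists_fiber_point ξ (EtCoh.top X) (ξ default) rfl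
      exact ⟨_, φ', fun i hi => absurd hi (Finset.notMem_empty i)⟩
    | @insert a s _ ih =>
      obtain ⟨W, w, hW⟩ := ih
      obtain ⟨W', w', p, q, -, -⟩ := exists_refine w (φ a)
      refine ⟨W', w', fun i hi => ?_⟩
      rcases Finset.mem_insert.1 hi with rfl | hi
      · exact ⟨q⟩
      · exact (hW i hi).elim fun r => ⟨p ≫ r⟩
  obtain ⟨W, w, hW⟩ := hcommon Finset.univ
  let r := fun i => (hW i (Finset.mem_univ i)).some
  let m' : (Π i, M i) →ₗ[Λ] (⨁ F).obj.obj (op W) :=
    ∑ i, ((biproduct.ι F i).hom.app (op W)).hom.comp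
      ((((F i).obj.map (r i).op).hom.comp (m i)).comp (LinearMap.proj i))
  refine ⟨W, w, Π i, M i, inferInstance, inferInstance, inferInstance, m', fun Ω' _ _ ξ' φ' => ?_⟩
  let g := fun i => germ ξ' (F i) W φ'
  have hgerm : ∀ x, germ ξ' (⨁ F) W φ' (m' x) =
      ∑ i, (EtModW.stalk Λ ξ').map (biproduct.ι F i) (g i ((F i).obj.map (r i).op (m i (x i)))) := by
    intro x
    rw [LinearMap.sum_apply, map_sum]
    exact Finset.sum_congr rfl fun i _ => (germ_naturality ξ' (biproduct.ι F i) W φ' _).symm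
  have hπ : ∀ x i, (EtModW.stalk Λ ξ').map (biproduct.π F i) (germ ξ' (⨁ F) W φ' (m' x)) =
      g i ((F i).obj.map (r i).op (m i (x i))) := by
    intro x i
    rw [hgerm, map_sum, Finset.sum_eq_single i]
    · rw [← ConcreteCategory.comp_apply, ← Functor.map_comp, biproduct.ι_π_self, CategoryTheory.Functor.map_id]
      rfl
    · intro j _ hj
      rw [← ConcreteCategory.comp_apply, ← Functor.map_comp, biproduct.ι_π_ne F hj, Functor.map_zero]
      rfl
    · intro h
      exact absurd (Finset.mem_univ i) h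
  refine ⟨fun x y e => funext fun i => ((hm i).restrict (r i) Ω' ξ' φ').1 ?_, fun p => ?_⟩
  · exact (hπ x i).symm.trans ((congrArg _ e).trans (hπ y i))
  · choose x hx using fun i => ((hm i).restrict (r i) Ω' ξ' φ').2 ((EtModW.stalk Λ ξ').map (biproduct.π F i) p)
    refine ⟨x, (hgerm x).trans ?_⟩
    have hid : ∑ i, (EtModW.stalk Λ ξ').map (biproduct.π F i ≫ biproduct.ι F i) = 𝟙 _ := by
      rw [← Functor.map_sum, biproduct.total, CategoryTheory.Functor.map_id]
    refine Eq.trans ?_ (congrArg (fun k => k p) hid)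
    refine Eq.trans ?_ ((congrArg (fun k : _ →ₗ[Λ] _ => k p) (ModuleCat.hom_sum _ _)).trans
      (LinearMap.sum_apply _ _ _)).symm
    refine Finset.sum_congr rfl fun i _ => ?_
    rw [Functor.map_comp]
    exact congrArg ((EtModW.stalk Λ ξ').map (biproduct.ι F i)) (hx i)

/-- On an irreducible scheme, a locally constant subsheaf of a subsheaf `R` of a locally constant
sheaf which exhausts `R` at the generic point is all of `R`. -/
theorem isIso_of_generic [IrreducibleSpace ↥X] {Ω : Type u} [Field Ω] [IsSepClosed Ω]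
    (ξ : Spec (CommRingCat.of Ω) ⟶ X) (hξ : ξ default = genericPoint ↥X)
    {R' R G : EtModW.Mod Λ X} (a : R' ⟶ R) [Mono a] (i : R ⟶ G) [Mono i]
    (hR' : EtModW.IsFTLocConst Λ R') (hG : EtModW.IsFTLocConst Λ G)
    (hst : Function.Surjective ((EtModW.stalk Λ ξ).map a)) : IsIso a := by
  refine isIso_of_stalk a fun Ω' _ _ ξ' => (ConcreteCategory.isIso_iff_bijective _).2
    ⟨(mono_iff_stalk a).1 inferInstance Ω' ξ', fun p => ?_⟩
  obtain ⟨U, φU, M, _, _, _, m, hm⟩ := exists_isTriv hG ξ'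
  obtain ⟨V, φV, N, _, _, _, n, hn⟩ := exists_isTriv hR' ξ'
  obtain ⟨W, w, n', m', h, hn', hm', hh⟩ := exists_linearMap (a ≫ i) hn hm φV φU
  obtain ⟨W₁, e, w₁, s, hw₁, rfl⟩ := exists_germ_eq_refine w R p
  obtain ⟨z, hz⟩ := (hm'.restrict e Ω' ξ' w₁).2 (germ ξ' G W₁ w₁ (i.hom.app (op W₁) s))
  obtain ⟨W₂, e₂, w₂, hw₂, he₂⟩ := (germ_eq_iff ξ' G W₁ w₁ _ _).1 hz
  have hne : genericPoint ↥X ∈ Set.range W₂.hom := by
    have ho : IsOpen (Set.range W₂.hom) := by
      haveI : Etale W₂.hom := W₂.prop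
      exact W₂.hom.isOpenMap.isOpen_range
    exact (genericPoint_spec ↥X).mem_open_set_iff ho |>.2
      ⟨_, Set.mem_univ _, ⟨w₂.left (default : Spec (CommRingCat.of Ω')), rfl⟩⟩
  obtain ⟨y₀, hy₀⟩ := hne
  obtain ⟨ψ, -⟩ := EtaleSite.exists_fiber_point ξ W₂ y₀ (hy₀.trans hξ.symm)
  obtain ⟨q, hq⟩ := hst (germ ξ R W₂ ψ (R.obj.map e₂.op s))
  obtain ⟨y, rfl⟩ := ((hn'.restrict e).restrict e₂ Ω ξ ψ).2 q
  have hnat : ∀ (x : N), i.hom.app (op W₂) (a.hom.app (op W₂)
      (R'.obj.map e₂.op (R'.obj.map e.op (n' x)))) = G.obj.map e₂.op (G.obj.map e.op (m' (h x))) := by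
    intro x
    rw [← hh x]
    simp only [NatTrans.naturality_apply]
    rfl
  have hzy : h y = z := by
    refine ((hm'.restrict e).restrict e₂ Ω ξ ψ).1 ?_
    show germ ξ G W₂ ψ (G.obj.map e₂.op (G.obj.map e.op (m' (h y)))) =
      germ ξ G W₂ ψ (G.obj.map e₂.op (G.obj.map e.op (m' z)))
    have h1 := congrArg ((EtModW.stalk Λ ξ).map i) hq
    simp only [LinearMap.comp_apply] at h1
    rw [germ_naturality, germ_naturality] at h1
    erw [germ_naturality] at h1
    rw [hnat, NatTrans.naturality_apply] at h1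
    rw [h1, ← he₂]
    rfl
  refine ⟨germ ξ' R' W₂ w₂ (R'.obj.map e₂.op (R'.obj.map e.op (n' y))),
    (mono_iff_stalk i).1 inferInstance Ω' ξ' ?_⟩
  rw [germ_naturality, germ_naturality, germ_naturality, hnat, hzy, ← hw₂, ← germ_res]
  exact congrArg (germ ξ' G W₂ w₂) he₂

end Groth.Agent.EtModWLib
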