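import Groth.Agent.EtModWLib.GrAlg
import Groth.Agent.EtModWLib.Generic
import Groth.Agent.EtModWLib.Systems
import Groth.Agent.EtModWLib.Linear
import Mathlib.AlgebraicGeometry.FunctionField
import Mathlib.AlgebraicGeometry.Noetherian
import Mathlib.Topology.NoetherianSpace

/-!
# Adic systems of constructible sheaves are generically lisse
-/

universe u

open CategoryTheory CategoryTheory.Limits AlgebraicGeometry Opposite ARSys

namespace Groth.Agent.EtModWLib

open Groth.Agent Groth.Agent.ARLib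

variable {Λ : Type (u + 1)} [CommRing Λ] {X : Scheme.{u}}

instance hasFiniteBiproductsMod (X : Scheme.{u}) : HasFiniteBiproducts (EtModW.Mod Λ X) :=
  Abelian.hasFiniteBiproducts

/-- The generic geometric point. -/
theorem exists_generic_geomPoint [IrreducibleSpace ↥X] :
    ∃ (Ω : Type u) (_ : Field Ω) (_ : IsSepClosed Ω) (ξ : Spec (CommRingCat.of Ω) ⟶ X),
      ξ default = genericPoint ↥X :=
  ⟨_, inferInstance, inferInstance, EtaleSite.geomPointAt X (genericPoint ↥X),
    EtaleSite.geomPointAt_apply X _ _⟩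

/-- A constructible sheaf on an irreducible scheme is locally constant of finite type on a
neighbourhood of the generic point. -/
theorem exists_open_ftlc [IrreducibleSpace ↥X] {G : EtModW.Mod Λ X} (hG : EtModW.IsConstructible Λ G) :
    ∃ O : X.Opens, genericPoint ↥X ∈ O ∧ EtModW.IsFTLocConst Λ ((EtModW.pull Λ O.ι).obj G) := by
  obtain ⟨U, hU, hxU, -⟩ := exists_isAffineOpen_mem_and_subset
    (show genericPoint ↥X ∈ (⊤ : X.Opens) from trivial)
  obtain ⟨n, T, g, hg, -, -, hu, hF⟩ := hG U hU
  obtain ⟨i, hi⟩ := Set.mem_iUnion.1 ((congrArg (genericPoint ↥X ∈ ·) hu).mpr hxU)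
  haveI := hg i
  obtain ⟨W, Z, hW, hZ, hWZ⟩ := (g i).isLocallyClosed_range
  have hZu : Z = Set.univ := by
    rw [Set.eq_univ_iff_forall]
    intro x
    refine (hZ.closure_subset_iff.2 (Set.singleton_subset_iff.2
      ((hWZ ▸ hi : genericPoint ↥X ∈ W ∩ Z)).2)) ?_
    rw [genericPoint_spec ↥X]
    trivial
  refine ⟨⟨W, hW⟩, (hWZ ▸ hi : genericPoint ↥X ∈ W ∩ Z).1,
    isFTLocConst_pull_opens (g i) ⟨W, hW⟩ ?_ G (hF i)⟩
  intro x hx
  rw [hWZ, hZu, Set.inter_univ]
  exact hx

/-- Restriction of local constancy to a smaller open. -/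
theorem isFTLocConst_pull_opens_mono {O O' : X.Opens} (h : O' ≤ O) {G : EtModW.Mod Λ X}
    (hG : EtModW.IsFTLocConst Λ ((EtModW.pull Λ O.ι).obj G)) :
    EtModW.IsFTLocConst Λ ((EtModW.pull Λ O'.ι).obj G) :=
  isFTLocConst_pull_opens O.ι O' (by rw [Scheme.Opens.range_ι]; exact h) G hG

/-- The stalk of a finite direct sum is finite. -/
theorem finite_stalk_biproduct {n : ℕ} (F : Fin n → EtModW.Mod Λ X) {Ω : Type u} [Field Ω] [IsSepClosed Ω]
    (ξ : Spec (CommRingCat.of Ω) ⟶ X) (h : ∀ i, Module.Finite Λ ((EtModW.stalk Λ ξ).obj (F i))) :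
    Module.Finite Λ ((EtModW.stalk Λ ξ).obj (⨁ F)) := by
  let L := EtModW.stalk Λ ξ
  let s : (Π i, ↑(L.obj (F i))) →ₗ[Λ] ↑(L.obj (⨁ F)) :=
    ∑ i, (L.map (biproduct.ι F i)).hom.comp (LinearMap.proj i)
  refine Module.Finite.of_surjective s fun p => ⟨fun i => L.map (biproduct.π F i) p, ?_⟩
  have hid : ∑ i, L.map (biproduct.π F i ≫ biproduct.ι F i) = 𝟙 _ := by
    rw [← Functor.map_sum, biproduct.total, CategoryTheory.Functor.map_id]
  refine Eq.trans ?_ (congrArg (fun k => k p) hid)
  refine Eq.trans ?_ ((congrArg (fun k : _ →ₗ[Λ] _ => k p) (ModuleCat.hom_sum _ _)).trans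
    (LinearMap.sum_apply _ _ _)).symm
  rw [LinearMap.sum_apply]
  refine Finset.sum_congr rfl fun i _ => ?_
  rw [Functor.map_comp]
  rfl

variable [IsNoetherianRing Λ]

/-- An adic system of constructible sheaves on an irreducible scheme is lisse near the generic
point. -/
theorem exists_open_lisse [IrreducibleSpace ↥X] {I : Ideal Λ} {F : ARSys.PS (EtModW.Mod Λ X)}
    (hF : IsAdic I F) (hc : ∀ n : ℕ, EtModW.IsConstructible Λ (F.obj (op n))) :
    ∃ U : X.Opens, genericPoint ↥X ∈ U ∧
      ∀ n : ℕ, EtModW.IsFTLocConst Λ ((EtModW.pull Λ U.ι).obj (F.obj (op n))) := by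
  obtain ⟨k, gs, τF, -, -, hcommF, hmap, hgen⟩ := exists_gr hF (IsNoetherian.noetherian I)
  let K : ℕ → EtModW.Mod Λ X := fun q => (Fsub F q q : EtModW.Mod Λ X)
  let τ : Fin k → ∀ q, K q ⟶ K (q + 1) := fun l q =>
    (Fsub F (q + 1) (q + 1)).factorThru ((Fsub F q q).arrow ≫ τF l q)
      (hmap l q _ (Subobject.factors_self _))
  have hτι : ∀ l q, τ l q ≫ (Fsub F (q + 1) (q + 1)).arrow = (Fsub F q q).arrow ≫ τF l q :=
    fun l q => Subobject.factorThru_arrow _ _ _
  have hτ : ∀ l m q, τ l q ≫ τ m (q + 1) = τ m q ≫ τ l (q + 1) := fun l m q => by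
    rw [← cancel_mono (Fsub F (q + 1 + 1) (q + 1 + 1)).arrow, Category.assoc, hτι, ← Category.assoc,
      hτι, Category.assoc, hcommF, ← Category.assoc, ← hτι, Category.assoc, ← hτι, ← Category.assoc]
  have hσ : ∀ q ⦃W : EtModW.Mod Λ X⦄ (ψ : K (q + 1) ⟶ W), (∀ l, τ l q ≫ ψ = 0) → ψ = 0 := by
    intro q W ψ hψ
    let S := img (Fsub F (q + 1) (q + 1)).arrow (kernelSubobject ψ)
    have hle : Fsub F (q + 1) (q + 1) ≤ S := hgen q S fun l => by
      rw [img_le_iff]
      intro T x hx
      obtain ⟨y, rfl⟩ : ∃ y, y ≫ (Fsub F q q).arrow = x :=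
        ⟨_, Subobject.factorThru_arrow _ _ hx⟩
      have h1 : (kernelSubobject ψ).Factors (y ≫ τ l q) := by
        rw [mem_kernel, Category.assoc, hψ l, comp_zero]
      have h2 := mem_img_of_mem (Fsub F (q + 1) (q + 1)).arrow h1
      rwa [Category.assoc, hτι, ← Category.assoc] at h2
    obtain ⟨T', e, he, x, hx, hxy⟩ := (mem_img _ _ _).1 (mem_mono hle (Subobject.factors_self _))
    have hex : e = x := (cancel_mono (Fsub F (q + 1) (q + 1)).arrow).1 hxy
    rw [← cancel_epi e, comp_zero, hex]
    exact (mem_kernel _ _).1 hx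
  have he0 : IsIso (Fsub F 0 0).arrow := (Subobject.isIso_arrow_iff_eq_top _).2 rfl
  -- relations at the generic point
  obtain ⟨Ω, iF, iS, ξ, hξ⟩ := exists_generic_geomPoint (X := X)
  let L := EtModW.stalk Λ ξ
  have hfin : Module.Finite Λ (L.obj (copies k K 0)) := by
    refine finite_stalk_biproduct _ ξ fun _ => ?_
    have := finite_stalk_of_isConstructible (hc 0) ξ
    exact Module.Finite.equiv ((L.mapIso (asIso (Fsub F 0 0).arrow)).toLinearEquiv).symm
  haveI : IsNoetherianObject (L.obj (copies k K 0)) := isNoetherianObject_moduleCat _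
  obtain ⟨d, hd⟩ := exists_epi_relGen τ hτ L hσ
  -- the open on which the first levels are locally constant
  choose O hO hOF using fun n => exists_open_ftlc (hc n)
  let U : X.Opens := (Finset.range (d + 2)).inf O
  have hgU : genericPoint ↥X ∈ U := by
    refine Finset.inf_induction (p := fun V : X.Opens => genericPoint ↥X ∈ V) trivial
      (fun a ha b hb => ⟨ha, hb⟩) fun n _ => hO n
  refine ⟨U, hgU, ?_⟩
  haveI : Nonempty U := ⟨⟨_, hgU⟩⟩
  haveI : IrreducibleSpace ↥(U : Scheme.{u}) := by
    haveI : PreirreducibleSpace ↥(U : Scheme.{u}) :=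
      ⟨by
        have h := (PreirreducibleSpace.isPreirreducible_univ (X := ↥X)).preimage
          U.ι.isOpenEmbedding
        simpa using h⟩
    exact ⟨inferInstance⟩
  have hgen' : U.ι (genericPoint ↥(U : Scheme.{u})) = genericPoint ↥X :=
    genericPoint_eq_of_isOpenImmersion U.ι
  obtain ⟨η, hη⟩ := exists_lift_of_isImmersion U.ι ξ (genericPoint ↥(U : Scheme.{u})) (hgen'.trans hξ.symm)
  have hηg : η default = genericPoint ↥(U : Scheme.{u}) := U.ι.isOpenEmbedding.injective <| by
    rw [hgen', ← hξ, ← hη]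
    exact (Scheme.Hom.comp_apply _ _ _).symm
  let P := EtModW.pull Λ U.ι
  let FT := fun G : EtModW.Mod Λ X => EtModW.IsFTLocConst Λ (P.obj G)
  have hlow : ∀ n ≤ d + 1, FT (F.obj (op n)) := fun n hn =>
    isFTLocConst_pull_opens_mono (Finset.inf_le (Finset.mem_range.2 (Nat.lt_succ_of_le hn))) (hOF n)
  -- the exact sequences `0 → K_{n+1} → F_{n+1} → F_n → 0`
  let Sq : ℕ → ShortComplex (EtModW.Mod Λ X) := fun n =>
    ShortComplex.mk (Fsub F (n + 1) (n + 1)).arrow (tr F (Nat.le_succ n))
      ((mem_Fsub_iff F (n + 1) (n + 1) _).1 (Subobject.factors_self _) n _ (Nat.lt_succ_self n))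
  have hSq : ∀ n, (Sq n).ShortExact := by
    intro n
    have hepi : Epi (Sq n).g := adic_strict hF n (n + 1) (Nat.le_succ n)
    have hex : (Sq n).Exact := by
      rw [ShortComplex.exact_iff_exact_up_to_refinements]
      intro T x hx
      have hmem : (Fsub F (n + 1) (n + 1)).Factors x := by
        rw [mem_Fsub_iff]
        intro j hj hjn
        rw [← tr_comp F (Nat.le_of_lt_succ hjn) (Nat.le_succ n), ← Category.assoc]
        exact (congrArg (· ≫ _) hx).trans zero_comp
      exact ⟨T, 𝟙 T, inferInstance, (Fsub F (n + 1) (n + 1)).factorThru x hmem,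
        ((Category.id_comp x).trans (Subobject.factorThru_arrow _ x hmem).symm)⟩
    exact { exact := hex, mono_f := inferInstanceAs (Mono (Fsub F (n + 1) (n + 1)).arrow), epi_g := hepi }
  have hK0 : FT (K 0) := isFTLocConst_of_iso (P.mapIso (asIso (Fsub F 0 0).arrow)).symm (hlow 0 (Nat.zero_le _))
  have hKlow : ∀ q ≤ d + 1, FT (K q) := by
    intro q hq
    cases q with
    | zero => exact hK0
    | succ n =>
      have h' := (hSq n).map_of_exact P
      have hk := isFTLocConst_kernel (P.map (Sq n).g) (hlow (n + 1) hq) (hlow n (Nat.le_of_succ_le hq))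
      exact isFTLocConst_of_iso (IsLimit.conePointUniqueUpToIso (h'.fIsKernel) (kernelIsKernel _)).symm hk
  have hcopies : ∀ q, FT (K q) → FT (copies k K q) := fun q hq =>
    isFTLocConst_of_iso (P.mapBiproduct _).symm (isFTLocConst_biproduct _ fun _ => hq)
  have hrel : ∀ q, FT (K q) → FT (K (q + 1)) → FT (relObj τ q) := fun q h1 h2 =>
    isFTLocConst_of_iso (PreservesKernel.iso P (genMap τ q)).symm
      (isFTLocConst_kernel (P.map (genMap τ q)) (hcopies q h1) h2)
  have hcok : ∀ q, FT (K q) → FT (relObj τ q) → FT (K (q + 1)) := by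
    intro q h1 h2
    haveI : Epi (genMap τ q) := epi_of_cancel fun W ψ hψ => hσ q ψ fun l => by
      have h := biproduct.ι (fun _ : Fin k => K q) l ≫= hψ
      rwa [biproduct.ι_desc_assoc, comp_zero] at h
    have hc' := isFTLocConst_cokernel (P.map (kernel.ι (genMap τ q))) h2 (hcopies q h1)
    exact isFTLocConst_of_iso ((PreservesCokernel.iso P _).symm ≪≫ P.mapIso
      ((cokernelIsCokernel _).coconePointUniqueUpToIso
        (Abelian.epiIsCokernelOfKernel _ (kernelIsKernel (genMap τ q))))) hc'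
  have hinv : ∀ q, d ≤ q → FT (K q) ∧ FT (K (q + 1)) ∧ FT (relObj τ q) := by
    intro q hq
    induction q, hq using Nat.le_induction with
    | base => exact ⟨hKlow d (Nat.le_succ d), hKlow (d + 1) le_rfl,
        hrel d (hKlow d (Nat.le_succ d)) (hKlow (d + 1) le_rfl)⟩
    | succ q hq ih =>
      obtain ⟨h1, h2, h3⟩ := ih
      have hR : FT (relObj τ (q + 1)) := by
        let ι₁ := P.map (kernel.ι (genMap τ (q + 1)))
        let f' := P.map (relGen τ hτ q) ≫ ι₁
        have hsrc : EtModW.IsFTLocConst Λ (P.obj (⨁ fun _ : Fin k => relObj τ q)) :=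
          isFTLocConst_of_iso (P.mapBiproduct _).symm (isFTLocConst_biproduct _ fun _ => h3)
        have himg : EtModW.IsFTLocConst Λ (Abelian.image f') :=
          isFTLocConst_kernel (cokernel.π f') (hcopies _ h2)
            (isFTLocConst_cokernel f' hsrc (hcopies _ h2))
        have hz : Abelian.image.ι f' ≫ P.map (genMap τ (q + 1)) = 0 := by
          rw [← cancel_epi (Abelian.factorThruImage f'), comp_zero, ← Category.assoc, Abelian.image.fac,
            Category.assoc, ← P.map_comp, kernel.condition, P.map_zero, comp_zero]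
        let a : Abelian.image f' ⟶ P.obj (relObj τ (q + 1)) :=
          kernel.lift (P.map (genMap τ (q + 1))) (Abelian.image.ι f') hz ≫
            (PreservesKernel.iso P (genMap τ (q + 1))).inv
        have ha : a ≫ ι₁ = Abelian.image.ι f' := by
          rw [Category.assoc, PreservesKernel.iso_inv_ι, kernel.lift_ι]
        haveI : Mono (Abelian.image.ι f') := inferInstance
        haveI : Mono a := mono_of_mono_fac ha
        have hfac : Abelian.factorThruImage f' ≫ a = P.map (relGen τ hτ q) := by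
          rw [← cancel_mono ι₁, Category.assoc, ha, Abelian.image.fac]
        have hst : Function.Surjective ((EtModW.stalk Λ η).map a) := by
          haveI := hd q hq
          have hepi : Epi ((EtModW.stalk Λ (η ≫ U.ι)).map (relGen τ hτ q)) := by
            rw [hη]; exact hd q hq
          have h1 : Epi ((EtModW.stalk Λ η).map (P.map (relGen τ hτ q))) := by
            have e := (stalkPullIso (Λ := Λ) U.ι η).hom.naturality (relGen τ hτ q)
            have e' : (EtModW.stalk Λ η).map (P.map (relGen τ hτ q)) =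
                (stalkPullIso (Λ := Λ) U.ι η).hom.app _ ≫ (EtModW.stalk Λ (η ≫ U.ι)).map (relGen τ hτ q) ≫
                  (stalkPullIso (Λ := Λ) U.ι η).inv.app _ := by
              rw [← Category.assoc, ← e, Category.assoc, Iso.hom_inv_id_app, Category.comp_id]
              rfl
            rw [e']
            infer_instance
          rw [← hfac, Functor.map_comp] at h1
          haveI := h1
          exact (ModuleCat.epi_iff_surjective _).1 (epi_of_epi
            ((EtModW.stalk Λ η).map (Abelian.factorThruImage f')) _)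
        haveI := isIso_of_generic η hηg a ι₁ himg (hcopies _ h2) hst
        exact isFTLocConst_of_iso (asIso a) himg
      exact ⟨h2, hcok (q + 1) h2 hR, hR⟩
  have hK : ∀ q, FT (K q) := fun q => by
    rcases le_total q d with h | h
    · exact hKlow q (h.trans (Nat.le_succ d))
    · exact (hinv q h).1
  intro n
  induction n with
  | zero => exact hlow 0 (Nat.zero_le _)
  | succ n ih => exact isFTLocConst_extension ((Sq n).map P) ((hSq n).map_of_exact P) (hK (n + 1)) ih

/-- An adic system of constructible sheaves is lisse on a dense open. -/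
theorem exists_dense_open_lisse [IsNoetherian X] {I : Ideal Λ} {F : ARSys.PS (EtModW.Mod Λ X)}
    (hF : IsAdic I F) (hc : ∀ n : ℕ, EtModW.IsConstructible Λ (F.obj (op n))) :
    ∃ U : X.Opens, Dense (U : Set X) ∧
      ∀ n : ℕ, EtModW.IsFTLocConst Λ ((EtModW.pull Λ U.ι).obj (F.obj (op n))) := by
  let S : Set X.Opens := {O | ∀ n : ℕ, EtModW.IsFTLocConst Λ ((EtModW.pull Λ O.ι).obj (F.obj (op n)))}
  refine ⟨sSup S, ?_, fun n => ?_⟩
  · rw [dense_iff_inter_open]
    intro V hV hne
    obtain ⟨x, hx⟩ := hne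
    haveI : TopologicalSpace.NoetherianSpace ↥X := inferInstance
    obtain ⟨O, hOo, hOne, hOV, hOirr⟩ :
        ∃ O : Set X, IsOpen O ∧ O.Nonempty ∧ O ⊆ V ∧ IsPreirreducible O := by
      let fin := TopologicalSpace.NoetherianSpace.finite_irreducibleComponents (α := ↥V)
      haveI : Nonempty ↥V := ⟨⟨x, hx⟩⟩
      obtain ⟨o, ho, hne', hoC⟩ := TopologicalSpace.NoetherianSpace.exists_isOpen_nonempty_subset_irreducibleComponent
        (α := ↥V) (irreducibleComponent ⟨x, hx⟩) (irreducibleComponent_mem_irreducibleComponents _)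
      refine ⟨Subtype.val '' o, hV.isOpenMap_subtype_val _ ho, ?_, Subtype.coe_image_subset V o, ?_⟩
      · exact hne'.image _
      · refine IsPreirreducible.image ?_ _ continuous_subtype_val.continuousOn
        exact (isIrreducible_irreducibleComponent.isPreirreducible.open_subset ho hoC)
    let O' : X.Opens := ⟨O, hOo⟩
    haveI : IrreducibleSpace ↥(O' : Scheme.{u}) := by
      haveI : Nonempty ↥(O' : Scheme.{u}) := ⟨⟨_, hOne.some_mem⟩⟩
      haveI : PreirreducibleSpace ↥(O' : Scheme.{u}) := Subtype.preirreducibleSpace hOirr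
      exact ⟨inferInstance⟩
    obtain ⟨W, hW, hWF⟩ := exists_open_lisse (isAdic_map (EtModW.pull Λ O'.ι) hF)
      (fun n => isConstructible_pull O'.ι (hc n))
    let W' : X.Opens := O'.ι ''ᵁ W
    have hW'S : W' ∈ S := fun n => by
      have h := isFTLocConst_of_iso ((pullComp O'.ι W.ι).app (F.obj (op n))) (hWF n)
      refine isFTLocConst_pull_opens (W.ι ≫ O'.ι) W' ?_ _ h
      rintro _ ⟨w, hw, rfl⟩
      exact ⟨⟨w, hw⟩, Scheme.Hom.comp_apply _ _ _⟩
    refine ⟨O'.ι (genericPoint ↥(O' : Scheme.{u})), hOV (genericPoint ↥(O' : Scheme.{u})).2, ?_⟩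
    exact (le_sSup hW'S : W' ≤ sSup S) ⟨_, hW, rfl⟩
  · refine isFTLocConst_of_openCover (ι := S) (fun O => X.homOfLE (le_sSup O.2)) ?_ _ fun O => ?_
    · refine Set.eq_univ_of_forall fun x => ?_
      obtain ⟨O, hO, hxO⟩ := TopologicalSpace.Opens.mem_sSup.1 x.2
      refine Set.mem_iUnion.2 ⟨⟨O, hO⟩, ⟨x.1, hxO⟩, Subtype.ext ?_⟩
      exact congrArg (fun k : (O : Scheme.{u}) ⟶ X => k ⟨x.1, hxO⟩) (X.homOfLE_ι (le_sSup hO))
    · exact isFTLocConst_of_iso ((pullCongr (X.homOfLE_ι (le_sSup O.2))).symm.app _ ≪≫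
        ((pullComp (sSup S).ι (X.homOfLE (le_sSup O.2))).app _).symm) (O.2 n)

/-- A stratification on which every member of the system is locally constant of finite type. -/
theorem exists_strata_lisse [IsNoetherian X] {I : Ideal Λ} {F : ARSys.PS (EtModW.Mod Λ X)}
    (hF : IsAdic I F) (hc : ∀ n : ℕ, EtModW.IsConstructible Λ (F.obj (op n)))
    (Z : TopologicalSpace.Closeds ↥X) :
    ∃ (ι : Type) (_ : Finite ι) (T : ι → Scheme.{u}) (g : ∀ i, T i ⟶ X),
      (∀ i, IsImmersion (g i)) ∧ Pairwise (fun i j => Disjoint (Set.range (g i)) (Set.range (g j))) ∧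
      (⋃ i, Set.range (g i)) = (Z : Set X) ∧
      ∀ i (n : ℕ), EtModW.IsFTLocConst Λ ((EtModW.pull Λ (g i)).obj (F.obj (op n))) := by
  haveI : TopologicalSpace.NoetherianSpace ↥X := inferInstance
  induction Z using WellFoundedLT.induction with
  | _ Z ih =>
    by_cases hZ : (Z : Set X) = ∅
    · exact ⟨Empty, inferInstance, fun e => e.elim, fun e => e.elim, fun e => e.elim, fun e => e.elim,
        by rw [hZ]; simp, fun e => e.elim⟩
    let J := Scheme.IdealSheafData.vanishingIdeal Z
    have hr : Set.range J.subschemeι = (Z : Set X) := by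
      rw [Scheme.IdealSheafData.range_subschemeι, Scheme.IdealSheafData.coe_support_vanishingIdeal]
    haveI : IsLocallyNoetherian J.subscheme := LocallyOfFiniteType.isLocallyNoetherian J.subschemeι
    haveI : CompactSpace ↥J.subscheme := J.subschemeι.isClosedEmbedding.compactSpace
    haveI : IsNoetherian J.subscheme := {}
    obtain ⟨U, hUd, hUF⟩ := exists_dense_open_lisse (isAdic_map (EtModW.pull Λ J.subschemeι) hF)
      (fun n => isConstructible_pull J.subschemeι (hc n))
    let Z' : TopologicalSpace.Closeds ↥X :=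
      ⟨J.subschemeι '' (U : Set J.subscheme)ᶜ, J.subschemeι.isClosedEmbedding.isClosedMap _ U.2.isClosed_compl⟩
    have hlt : Z' < Z := by
      refine lt_of_le_of_ne (fun x ⟨y, _, hy⟩ => hr.subset ⟨y, hy⟩) fun h => ?_
      have hne : Nonempty J.subscheme := by
        obtain ⟨x, hx⟩ := Set.nonempty_iff_ne_empty.2 hZ
        obtain ⟨y, -⟩ := hr.ge hx
        exact ⟨y⟩
      obtain ⟨y, hy⟩ := hUd.nonempty
      obtain ⟨y', hy', he⟩ := ((congrArg (J.subschemeι y ∈ ·) (congrArg SetLike.coe h)).mpr (hr.subset ⟨y, rfl⟩) :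
        J.subschemeι y ∈ J.subschemeι '' (U : Set J.subscheme)ᶜ)
      exact hy' (J.subschemeι.isClosedEmbedding.injective he ▸ hy)
    obtain ⟨ι, hι, T, g, h1, h2, h3, h4⟩ := ih Z' hlt
    let g' : ∀ o : Option ι, (o.elim (U : Scheme.{u}) T) ⟶ X := fun o => match o with
      | none => U.ι ≫ J.subschemeι
      | some i => g i
    have hrU : Set.range (U.ι ≫ J.subschemeι) = J.subschemeι '' (U : Set J.subscheme) := by
      rw [show ⇑(U.ι ≫ J.subschemeι) = J.subschemeι ∘ U.ι from funext fun _ => Scheme.Hom.comp_apply _ _ _,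
        Set.range_comp, Scheme.Opens.range_ι]
    have hdisj : ∀ i, Disjoint (Set.range (U.ι ≫ J.subschemeι)) (Set.range (g i)) := fun i => by
      rw [hrU, Set.disjoint_left]
      rintro _ ⟨y, hy, rfl⟩ hy'
      obtain ⟨y', hy'', he⟩ := h3.subset (Set.mem_iUnion.2 ⟨i, hy'⟩)
      exact hy'' (J.subschemeι.isClosedEmbedding.injective he ▸ hy)
    refine ⟨Option ι, inferInstance, fun o => o.elim (U : Scheme.{u}) T, g', ?_, ?_, ?_, ?_⟩
    · rintro (_ | i)
      · exact inferInstanceAs (IsImmersion (U.ι ≫ J.subschemeι))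
      · exact h1 i
    · rintro (_ | i) (_ | j) hne
      · exact absurd rfl hne
      · exact hdisj j
      · exact (hdisj i).symm
      · exact h2 fun h => hne (congrArg some h)
    · refine Set.Subset.antisymm (Set.iUnion_subset ?_) fun x hx => ?_
      · rintro (_ | i)
        · exact hrU.subset.trans ((Set.image_subset_range _ _).trans hr.subset)
        · exact ((Set.subset_iUnion _ i).trans h3.subset).trans hlt.le
      · obtain ⟨y, rfl⟩ := hr.ge hx
        by_cases hy : y ∈ U
        · exact Set.mem_iUnion.2 ⟨none, hrU.ge ⟨y, hy, rfl⟩⟩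
        · obtain ⟨i, hi⟩ := Set.mem_iUnion.1 (h3.ge ⟨y, hy, rfl⟩)
          exact Set.mem_iUnion.2 ⟨some i, hi⟩
    · rintro (_ | i) n
      · exact isFTLocConst_of_iso ((pullComp J.subschemeι U.ι).app (F.obj (op n))) (hUF n)
      · exact h4 i n

end Groth.Agent.EtModWLib
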