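import Groth.Agent.EtModWLib.Exhaust
import Groth.Agent.EtModWLib.Lisse
import Mathlib.CategoryTheory.Subobject.NoetherianObject

/-!
# Constructible sheaves on Noetherian schemes are Noetherian objects
-/

universe u

open CategoryTheory CategoryTheory.Limits AlgebraicGeometry Opposite

namespace Groth.Agent.EtModWLib

open Groth.Agent

variable {Λ : Type (u + 1)} [CommRing Λ] {X : Scheme.{u}}

/-- Surjectivity on a stalk can be checked after pulling back. -/
theorem surjective_stalk_pull {T : Scheme.{u}} (g : T ⟶ X) {Ω : Type u} [Field Ω] [IsSepClosed Ω]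
    (η : Spec (CommRingCat.of Ω) ⟶ T) {F G : EtModW.Mod Λ X} (a : F ⟶ G) :
    Function.Surjective ((EtModW.stalk Λ η).map ((EtModW.pull Λ g).map a)) ↔
      Function.Surjective ((EtModW.stalk Λ (η ≫ g)).map a) := by
  rw [← ModuleCat.epi_iff_surjective, ← ModuleCat.epi_iff_surjective]
  exact (MorphismProperty.epimorphisms _).arrow_iso_iff
    (Arrow.isoMk' _ _ ((stalkPullIso (Λ := Λ) g η).app F) ((stalkPullIso (Λ := Λ) g η).app G)
      ((stalkPullIso (Λ := Λ) g η).hom.naturality a).symm)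

/-- A Noetherian topological space has an irreducible open in every non-empty open. -/
theorem exists_irreducible_open {α : Type*} [TopologicalSpace α] [TopologicalSpace.NoetherianSpace α]
    [h : Nonempty α] : ∃ O : TopologicalSpace.Opens α, IrreducibleSpace ↥O := by
  obtain ⟨x⟩ := h
  obtain ⟨o, ho, hne, hoC⟩ := TopologicalSpace.NoetherianSpace.exists_isOpen_nonempty_subset_irreducibleComponent
    (α := α) (irreducibleComponent x) (irreducibleComponent_mem_irreducibleComponents _)
  refine ⟨⟨o, ho⟩, ?_⟩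
  haveI : Nonempty (⟨o, ho⟩ : TopologicalSpace.Opens α) := hne.to_subtype
  haveI : PreirreducibleSpace (⟨o, ho⟩ : TopologicalSpace.Opens α) :=
    Subtype.preirreducibleSpace (isIrreducible_irreducibleComponent.isPreirreducible.open_subset ho hoC)
  exact ⟨inferInstance⟩

variable [IsNoetherianRing Λ]

theorem exists_stabilises [IsNoetherian X] {F : EtModW.Mod Λ X} (hF : EtModW.IsConstructible Λ F)
    (Z : ℕ →o Subobject F) (C : TopologicalSpace.Closeds ↥X) :
    ∃ k₀, ∀ k (hk : k₀ ≤ k) (Ω : Type u) [Field Ω] [IsSepClosed Ω] (ξ : Spec (CommRingCat.of Ω) ⟶ X),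
      ξ default ∈ C → Function.Surjective ((EtModW.stalk Λ ξ).map (Subobject.ofLE _ _ (Z.monotone hk))) := by
  haveI : TopologicalSpace.NoetherianSpace ↥X := inferInstance
  induction C using WellFoundedLT.induction with
  | _ C ih =>
    by_cases hC : (C : Set X) = ∅
    · exact ⟨0, fun k hk Ω _ _ ξ hξ => ((hC ▸ hξ : ξ default ∈ (∅ : Set X))).elim⟩
    let J := Scheme.IdealSheafData.vanishingIdeal C
    have hr : Set.range J.subschemeι = (C : Set X) := by
      rw [Scheme.IdealSheafData.range_subschemeι, Scheme.IdealSheafData.coe_support_vanishingIdeal]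
    haveI : IsLocallyNoetherian J.subscheme := LocallyOfFiniteType.isLocallyNoetherian J.subschemeι
    haveI : CompactSpace ↥J.subscheme := J.subschemeι.isClosedEmbedding.compactSpace
    haveI : IsNoetherian J.subscheme := {}
    haveI : Nonempty ↥J.subscheme := by
      obtain ⟨x, hx⟩ := Set.nonempty_iff_ne_empty.2 hC
      obtain ⟨y, -⟩ := hr.ge hx
      exact ⟨y⟩
    obtain ⟨O', hO'⟩ : ∃ O' : J.subscheme.Opens, IrreducibleSpace ↥(O' : Scheme.{u}) :=
      exists_irreducible_open (α := ↥J.subscheme)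
    haveI : IrreducibleSpace ↥(O' : Scheme.{u}) := hO'
    let g₁ : (O' : Scheme.{u}) ⟶ X := O'.ι ≫ J.subschemeι
    obtain ⟨O, hgO, hOF⟩ := exists_open_ftlc (isConstructible_pull g₁ hF)
    haveI : Nonempty O := ⟨⟨_, hgO⟩⟩
    haveI : IrreducibleSpace ↥(O : Scheme.{u}) := by
      haveI : PreirreducibleSpace ↥(O : Scheme.{u}) := Subtype.preirreducibleSpace
        ((PreirreducibleSpace.isPreirreducible_univ (X := ↥(O' : Scheme.{u}))).open_subset O.2 (Set.subset_univ _))
      exact ⟨inferInstance⟩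
    let g : (O : Scheme.{u}) ⟶ X := O.ι ≫ g₁
    have hG : EtModW.IsFTLocConst Λ ((EtModW.pull Λ g).obj F) :=
      isFTLocConst_of_iso ((pullComp g₁ O.ι).app F) hOF
    let P := EtModW.pull Λ g
    obtain ⟨Ω, _, _, η, hη⟩ := exists_generic_geomPoint (X := (O : Scheme.{u}))
    let L := EtModW.stalk Λ η
    haveI : Module.Finite Λ ↑(L.obj (P.obj F)) := finite_stalk hG η
    let V : ℕ →o Submodule Λ ↑(L.obj (P.obj F)) :=
      { toFun := fun k => LinearMap.range (L.map (P.map (Z k).arrow)).hom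
        monotone' := fun k l hkl => by
          rintro _ ⟨x, rfl⟩
          refine ⟨L.map (P.map (Subobject.ofLE _ _ (Z.monotone hkl))) x, ?_⟩
          rw [← ConcreteCategory.comp_apply, ← Functor.map_comp, ← Functor.map_comp, Subobject.ofLE_arrow] }
    obtain ⟨k₁, hk₁⟩ := monotone_stabilizes_iff_noetherian.2 (inferInstance : IsNoetherian Λ ↑(L.obj (P.obj F))) V
    obtain ⟨O₁, hgO₁, hO₁⟩ := exists_open_exhaust η hη (P.map (Z k₁).arrow) hG
    have hgen : ∀ k (hk : k₁ ≤ k), Function.Surjective (L.map (P.map (Subobject.ofLE _ _ (Z.monotone hk)))) := by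
      intro k hk x
      obtain ⟨y, hy⟩ := (hk₁ k hk).ge (show L.map (P.map (Z k).arrow) x ∈ V k from ⟨x, rfl⟩)
      refine ⟨y, (mono_iff_stalk (P.map (Z k).arrow)).1 inferInstance Ω η ?_⟩
      refine Eq.trans ?_ hy
      rw [← ConcreteCategory.comp_apply, ← Functor.map_comp, ← Functor.map_comp, Subobject.ofLE_arrow]
    -- the closed complement
    let W : Set ↥J.subscheme := (O.ι ≫ O'.ι) '' (O₁ : Set ↥(O : Scheme.{u}))
    have hW : IsOpen W := (O.ι ≫ O'.ι).isOpenEmbedding.isOpenMap _ O₁.2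
    let C' : TopologicalSpace.Closeds ↥X :=
      ⟨J.subschemeι '' Wᶜ, J.subschemeι.isClosedEmbedding.isClosedMap _ hW.isClosed_compl⟩
    have hlt : C' < C := by
      refine lt_of_le_of_ne (fun x ⟨y, _, hy⟩ => hr.subset ⟨y, hy⟩) fun h => ?_
      let y := (O.ι ≫ O'.ι) (genericPoint ↥(O : Scheme.{u}))
      obtain ⟨y', hy', he⟩ := ((congrArg (J.subschemeι y ∈ ·) (congrArg SetLike.coe h)).mpr (hr.subset ⟨y, rfl⟩) :
        J.subschemeι y ∈ J.subschemeι '' Wᶜ)
      exact hy' (J.subschemeι.isClosedEmbedding.injective he ▸ ⟨_, hgO₁, rfl⟩)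
    obtain ⟨k₂, hk₂⟩ := ih C' hlt
    refine ⟨max k₁ k₂, fun k hk Ω' _ _ ξ hξ => ?_⟩
    obtain ⟨y, hy⟩ := hr.ge hξ
    have hsplit : ∀ j (hj : j ≤ max k₁ k₂),
        Function.Surjective ((EtModW.stalk Λ ξ).map (Subobject.ofLE _ _ (Z.monotone (hj.trans hk)))) →
        Function.Surjective ((EtModW.stalk Λ ξ).map (Subobject.ofLE _ _ (Z.monotone hk))) := by
      intro j hj hs x
      obtain ⟨w, hw⟩ := hs x
      refine ⟨(EtModW.stalk Λ ξ).map (Subobject.ofLE _ _ (Z.monotone hj)) w, ?_⟩
      rw [← ConcreteCategory.comp_apply, ← Functor.map_comp, Subobject.ofLE_comp_ofLE]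
      exact hw
    by_cases hyW : y ∈ W
    · refine hsplit k₁ (le_max_left _ _) ?_
      obtain ⟨o, ho, rfl⟩ := hyW
      obtain ⟨ξ', hξ'⟩ := exists_lift_of_isImmersion g ξ o (by
        rw [← hy]
        simp only [g, g₁, Scheme.Hom.comp_apply])
      subst hξ'
      refine (surjective_stalk_pull g ξ' _).1 (hO₁ (P.map (Subobject.ofLE _ _ (Z.monotone ((le_max_left _ _).trans hk)))) (P.map (Z k).arrow) inferInstance ?_ (hgen k ((le_max_left _ _).trans hk)) Ω' ξ' ?_)
      · rw [← Functor.map_comp, Subobject.ofLE_arrow]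
      · have : ξ' default = o := g.isEmbedding.injective (by
          rw [← Scheme.Hom.comp_apply]
          refine hy.symm.trans ?_
          simp only [g, g₁, Scheme.Hom.comp_apply])
        rwa [this]
    · exact hsplit k₂ (le_max_right _ _) (hk₂ k ((le_max_right _ _).trans hk) Ω' ξ ⟨y, hyW, hy⟩)

/-- Constructible sheaves on Noetherian schemes are Noetherian objects. -/
theorem isNoetherianObject_of_isConstructible [IsNoetherian X] {F : EtModW.Mod Λ X}
    (hF : EtModW.IsConstructible Λ F) : IsNoetherianObject F := by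
  rw [isNoetherianObject_iff_monotone_chain_condition]
  intro Z
  obtain ⟨k₀, hk₀⟩ := exists_stabilises hF Z ⊤
  refine ⟨k₀, fun k hk => ?_⟩
  haveI : IsIso (Subobject.ofLE _ _ (Z.monotone hk)) :=
    isIso_of_stalk _ fun Ω _ _ ξ => (ConcreteCategory.isIso_iff_bijective _).2
      ⟨(mono_iff_stalk _).1 inferInstance Ω ξ, hk₀ k hk Ω ξ trivial⟩
  exact Subobject.eq_of_comm (asIso (Subobject.ofLE _ _ (Z.monotone hk))) (Subobject.ofLE_arrow _)

end Groth.Agent.EtModWLib
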