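import Groth.Agent.EtModWLib.LimitEpi
import Groth.Agent.ProEtS.Affine
import Groth.Agent.S14017

/-!
# Kernels of quotient maps on affine weakly contractible objects, for an arbitrary ideal
-/

set_option autoImplicit false
set_option backward.isDefEq.respectTransparency.types false

universe u

open CategoryTheory CategoryTheory.Limits AlgebraicGeometry Opposite ARSys

namespace Groth.Agent.EtModWLib

open Groth.Agent Groth.Agent.ARLib

variable {Λ : Type (u + 1)} [CommRing Λ] {X : Scheme.{u}}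

theorem exists_fg_of_mem_smul_top {M : Type (u + 1)} [AddCommGroup M] [Module Λ M] {I : Ideal Λ} {x : M}
    (hx : x ∈ I • (⊤ : Submodule Λ M)) : ∃ J : Ideal Λ, J.FG ∧ J ≤ I ∧ x ∈ J • (⊤ : Submodule Λ M) := by
  refine Submodule.smul_induction_on hx ?_ ?_
  · intro r hr m _
    exact ⟨Ideal.span {r}, ⟨{r}, by simp⟩, (Ideal.span_singleton_le_iff_mem _).2 hr,
      Submodule.smul_mem_smul (Ideal.subset_span rfl) Submodule.mem_top⟩
  · rintro x y ⟨J, hJ, hJI, hx⟩ ⟨K, hK, hKI, hy⟩
    exact ⟨J ⊔ K, Submodule.FG.sup hJ hK, sup_le hJI hKI,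
      add_mem (Submodule.smul_mono_left le_sup_left hx) (Submodule.smul_mono_left le_sup_right hy)⟩

/-- On an affine w-contractible object the kernel of `F ⟶ F/IF` is `I F(U)`. -/
theorem mem_smul_top_of_quot_eq_zero {I : Ideal Λ} {F Q : EtModW.ModP Λ X} {p : F ⟶ Q} (hp : IsQuot I p)
    (U : X.ProEt) [IsAffine U.left] (hU : EtPBC.IsWContractible ↥Γ(U.left, ⊤))
    (x : F.obj.obj (op U)) (hx : p.hom.app (op U) x = 0) : x ∈ I • (⊤ : Submodule Λ (F.obj.obj (op U))) := by
  let J₀ := Scheme.ProEt.topology X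
  obtain ⟨χ, hχ, -⟩ := hp.2 _ (S14017.quotMap I F) (S14017.homKilledBy_quotMap I F)
  have h0 : (toSheafify J₀ (F.obj ⋙ S14017.quotFun I)).app (op U) (Submodule.Quotient.mk x) = 0 := by
    refine (congrArg (fun k => k.hom.app (op U) x) hχ).symm.trans ?_
    show χ.hom.app (op U) (p.hom.app (op U) x) = 0
    rw [hx]
    exact map_zero _
  obtain ⟨n, W, hWc, hWd, hWu, hWS⟩ := ProEtS.Affine.exists_clopen_refinement U hU
    (Presheaf.equalizerSieve_mem J₀ (toSheafify J₀ (F.obj ⋙ S14017.quotFun I))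
      (Submodule.Quotient.mk x) 0 (h0.trans (map_zero _).symm))
  let a : ∀ k, Scheme.ProEt.mk ((W k).ι ≫ U.hom) ⟶ U := fun k => MorphismProperty.Over.homMk (W k).ι
  have hmem : ∀ k, F.obj.map (a k).op x ∈
      I • (⊤ : Submodule Λ (F.obj.obj (op (Scheme.ProEt.mk ((W k).ι ≫ U.hom))))) := fun k => by
    have h : Submodule.Quotient.mk (F.obj.map (a k).op x) = 0 := (hWS k).trans (map_zero _)
    exact (Submodule.Quotient.mk_eq_zero _).1 h
  choose J hJfg hJI hxJ using fun k => exists_fg_of_mem_smul_top (hmem k)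
  let J' : Ideal Λ := ⨆ k, J k
  have hJ' : J'.FG := Submodule.fg_iSup _ hJfg
  obtain ⟨Q', p', hp'⟩ := exists_quot_of_fg hJ' F
  have hker := (S14017.main J' F hJ' Q' p' hp' U (ProEtS.WC.isWC_of_isWContractible U hU)).2
  have hzero : p'.hom.app (op U) x = 0 := by
    have hcov : Sieve.ofArrows (fun k : ULift.{u} (Fin n) => Scheme.ProEt.mk ((W k.down).ι ≫ U.hom))
        (fun k => a k.down) ∈ J₀ U :=
      ProEtS.WC.ofArrows_mem_of_isOpenImmersion _ _ (fun k => inferInstanceAs (IsOpenImmersion (W k.down).ι))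
        (fun y => by
          obtain ⟨k, hk⟩ := Set.mem_iUnion.1 (hWu.ge (Set.mem_univ y))
          exact ⟨⟨k⟩, (Scheme.Opens.range_ι (W k)).ge hk⟩)
    refine Q'.property.isSeparated U _ hcov _ _ fun A f hf => ?_
    obtain ⟨_, g, _, ⟨k⟩, rfl⟩ := hf
    rw [map_zero]
    simp only [op_comp, Functor.map_comp, ConcreteCategory.comp_apply]
    refine (congrArg (Q'.obj.map g.op) ?_).trans (map_zero _)
    refine (NatTrans.naturality_apply p'.hom (a k.down).op x).symm.trans ?_
    refine Submodule.smul_induction_on (p := fun y => p'.hom.app _ y = 0)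
      (Submodule.smul_mono_left (le_iSup J k.down) (hxJ k.down)) (fun r hr m _ => ?_)
      (fun y z hy hz => by rw [map_add, hy, hz, add_zero])
    rw [map_smul]
    exact congrArg (fun q => q.hom.app _ (p'.hom.app _ m)) (hp'.1 r hr)
  exact Submodule.smul_mono_left (iSup_le hJI) (hker.le hzero)

end Groth.Agent.EtModWLib
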