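import Groth.Agent.EtModWLib.EpsStage
import Groth.Agent.EtModWLib.QuotSect
import Groth.Agent.ProEtS.PushExact
import Mathlib.Algebra.Category.ModuleCat.Adjunctions

/-!
# Direct images of pro-étale sheaves of modules along closed immersions
-/

set_option autoImplicit false
set_option linter.style.haveILetI false
set_option backward.isDefEq.respectTransparency.types false

universe u

open CategoryTheory CategoryTheory.Limits AlgebraicGeometry Opposite ARSys

noncomputable section

namespace Groth.Agent.EtModWLib.PushP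

open Groth.Agent Groth.Agent.ARLib Groth.Agent.EtModWLib Groth.Agent.ProEtS.ExtLift

local notation "ε" => _root_.ProEtS.eps

variable {Λ : Type (u + 1)} [CommRing Λ] {Z X : Scheme.{u}} (f : Z ⟶ X) [_root_.ProEtS.PCont f]

/-- Direct image of pro-étale sheaves of modules. -/
abbrev pushPMod (Λ : Type (u + 1)) [CommRing Λ] : EtModW.ModP Λ Z ⥤ EtModW.ModP Λ X :=
  (_root_.ProEtS.bcP f).sheafPushforwardContinuous (ModuleCat.{u + 1} Λ) (Scheme.ProEt.topology X)
    (Scheme.ProEt.topology Z)

theorem epi_pushPMod_map (hf : ProEtS.PushExact.PreservesWC f) {F G : EtModW.ModP Λ Z} (p : F ⟶ G) [Epi p] :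
    Epi ((pushPMod f Λ).map p) := by
  haveI : Sheaf.IsLocallySurjective ((pushPMod f Λ).map p) := by
    refine ⟨fun {U} s => ?_⟩
    obtain ⟨V, g, hmem, hV⟩ := ProEtS.Covers.exists_wc_family U (fun i : U.left.affineOpens => i.1)
      (fun i => i.2) (ProEtS.Covers.affineOpens_cover U.left)
    refine GrothendieckTopology.superset_covering _ ?_ hmem
    rw [Sieve.ofArrows, Sieve.generate_le_iff]
    rintro A a ⟨i⟩
    obtain ⟨hA, hW⟩ := hf (V i) (hV i).1 (hV i).2
    exact surjective_of_epi_wc p _ (ProEtS.WC.isWC_of_isWContractible ((_root_.ProEtS.bcP f).obj (V i)) hW)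
      (G.obj.map ((_root_.ProEtS.bcP f).map (g i)).op s)
  exact (Sheaf.isLocallySurjective_iff_epi' (ModuleCat.{u + 1} Λ) _).1 inferInstance

theorem killedBy_pushPMod {I : Ideal Λ} {Q : EtModW.ModP Λ Z} (h : KilledBy I Q) :
    KilledBy I ((pushPMod f Λ).obj Q) := fun a ha => by
  have h' : (pushPMod f Λ).map (a • 𝟙 Q) = a • 𝟙 ((pushPMod f Λ).obj Q) := rfl
  rw [← h', h a ha]
  rfl

/-- Direct images along morphisms preserving w-contractible objects preserve quotients modulo any ideal. -/
theorem isQuot_pushPMod (hf : ProEtS.PushExact.PreservesWC f) {I : Ideal Λ} {F Q : EtModW.ModP Λ Z}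
    {p : F ⟶ Q} (hp : IsQuot I p) : IsQuot I ((pushPMod f Λ).map p) := by
  haveI := quot_epi hp
  haveI := epi_pushPMod_map f hf p
  refine isQuot_mk_of_kernel _ (killedBy_pushPMod f hp.1) fun T φ hφ => ?_
  apply Sheaf.hom_ext
  ext W t
  obtain ⟨V, g, hmem, hV⟩ := ProEtS.Covers.exists_wc_family W.unop (fun i : W.unop.left.affineOpens => i.1)
    (fun i => i.2) (ProEtS.Covers.affineOpens_cover W.unop.left)
  refine T.property.isSeparated _ _ hmem _ _ fun A a ha => ?_
  obtain ⟨_, k, _, ⟨i⟩, rfl⟩ := ha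
  simp only [op_comp, Functor.map_comp, ConcreteCategory.comp_apply]
  refine congrArg (T.obj.map k.op) ?_
  let K := kernel ((pushPMod f Λ).map p)
  let s : F.obj.obj (op ((_root_.ProEtS.bcP f).obj (V i))) :=
    (kernel.ι ((pushPMod f Λ).map p)).hom.app (op (V i)) (K.obj.map (g i).op t)
  have hs : p.hom.app _ s = 0 :=
    congrArg (fun k => k.hom.app (op (V i)) (K.obj.map (g i).op t)) (kernel.condition ((pushPMod f Λ).map p))
  obtain ⟨hA, hW⟩ := hf (V i) (hV i).1 (hV i).2
  have hmem' := mem_smul_top_of_quot_eq_zero hp _ hW s hs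
  refine (NatTrans.naturality_apply (kernel.ι ((pushPMod f Λ).map p) ≫ φ).hom (g i).op t).symm.trans ?_
  refine Eq.trans ?_ (map_zero (T.obj.map (g i).op).hom).symm
  show φ.hom.app (op (V i)) s = 0
  let lin : F.obj.obj (op ((_root_.ProEtS.bcP f).obj (V i))) →ₗ[Λ] T.obj.obj (op (V i)) :=
    (φ.hom.app (op (V i))).hom
  refine Submodule.smul_induction_on (p := fun y => lin y = 0) hmem' (fun r hr m _ => ?_)
    (fun y z hy hz => by rw [map_add, hy, hz, add_zero])
  rw [map_smul]
  exact congrArg (fun q => q.hom.app (op (V i)) m) (hφ r hr)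

theorem preservesLimitsOfShape_pushPMod :
    PreservesLimitsOfShape ℕᵒᵖ (pushPMod f Λ) := by
  haveI := ((_root_.ProEtS.bcP f).sheafAdjunctionContinuous (ModuleCat.{u + 1} Λ) (Scheme.ProEt.topology X)
    (Scheme.ProEt.topology Z)).rightAdjoint_preservesLimits
  haveI : PreservesLimitsOfSize.{0, 0} (pushPMod f Λ) := preservesLimitsOfSize_shrink _
  infer_instance

variable [IsAffineHom f] [_root_.ProEtS.EpsCont X] [_root_.ProEtS.EpsCont Z]

omit [_root_.ProEtS.PCont f] [_root_.ProEtS.EpsCont X] [_root_.ProEtS.EpsCont Z] in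
theorem isAffine_bcP_obj (V : X.ProEt) [IsAffine V.left] : IsAffine ((_root_.ProEtS.bcP f).obj V).left :=
  @isAffine_of_isAffineHom _ _ (pullback.fst V.hom f) (MorphismProperty.pullback_fst _ _ ‹IsAffineHom f›) ‹IsAffine V.left›

omit [_root_.ProEtS.PCont f] [IsAffineHom f] [_root_.ProEtS.EpsCont X] [_root_.ProEtS.EpsCont Z] in
/-- Base change sends limits of schemes to limits. -/
theorem nonempty_isLimit_bcP {I : Type u} [SmallCategory I] [IsCofiltered I] (D : I ⥤ X.ProEt) (c : Cone D)
    (hc : IsLimit ((toSch X).mapCone c)) :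
    Nonempty (IsLimit ((toSch Z).mapCone ((_root_.ProEtS.bcP f).mapCone c))) := by
  obtain ⟨i₀⟩ := IsCofiltered.nonempty (C := I)
  let B := _root_.ProEtS.bcP f
  have hfst : ∀ {V V' : X.ProEt} (g : V ⟶ V'),
      (B.map g).left ≫ pullback.fst V'.hom f = pullback.fst V.hom f ≫ g.left :=
    fun g => pullback.lift_fst _ _ _
  have hsnd : ∀ {V V' : X.ProEt} (g : V ⟶ V'),
      (B.map g).left ≫ pullback.snd V'.hom f = pullback.snd V.hom f :=
    fun g => pullback.lift_snd _ _ _
  have hsc : ∀ (s : Cone ((D ⋙ B) ⋙ toSch Z)) {i j : I} (m : i ⟶ j), s.π.app i ≫ (B.map (D.map m)).left = s.π.app j :=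
    fun s _ _ m => s.w m
  let sA : Cone ((D ⋙ B) ⋙ toSch Z) → Cone (D ⋙ toSch X) := fun s =>
    { pt := s.pt
      π :=
        { app := fun i => s.π.app i ≫ pullback.fst (D.obj i).hom f
          naturality := fun i j m => (Category.id_comp _).trans (by
            rw [← hsc s m]
            exact (Category.assoc _ _ _).trans ((congrArg (s.π.app i ≫ ·) (hfst (D.map m))).trans
              (Category.assoc _ _ _).symm)) } }
  have hconst : ∀ (s : Cone ((D ⋙ B) ⋙ toSch Z)) (i : I),
      s.π.app i ≫ pullback.snd (D.obj i).hom f = s.π.app i₀ ≫ pullback.snd (D.obj i₀).hom f := by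
    intro s i
    have hm : ∀ {i j : I} (m : i ⟶ j),
        s.π.app j ≫ pullback.snd (D.obj j).hom f = s.π.app i ≫ pullback.snd (D.obj i).hom f := fun {i j} m => by
      rw [← hsc s m]
      exact (Category.assoc _ _ _).trans (congrArg (s.π.app i ≫ ·) (hsnd (D.map m)))
    exact (hm (IsCofiltered.minToLeft i i₀)).trans (hm (IsCofiltered.minToRight i i₀)).symm
  have hcw : ∀ i, (c.π.app i).left ≫ (D.obj i).hom = c.pt.hom := fun i => MorphismProperty.Over.w (c.π.app i)
  have hw : ∀ s, hc.lift (sA s) ≫ c.pt.hom = (s.π.app i₀ ≫ pullback.snd (D.obj i₀).hom f) ≫ f := fun s => by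
    refine (congrArg (hc.lift (sA s) ≫ ·) (hcw i₀)).symm.trans ((Category.assoc _ _ _).symm.trans ?_)
    exact (congrArg (· ≫ (D.obj i₀).hom) (hc.fac (sA s) i₀)).trans ((Category.assoc _ _ _).trans
      ((congrArg (s.π.app i₀ ≫ ·) pullback.condition).trans (Category.assoc _ _ _).symm))
  refine ⟨{ lift := fun s => pullback.lift (hc.lift (sA s)) _ (hw s)
            fac := fun s i => ?_
            uniq := fun s m hm => ?_ }⟩
  · apply pullback.hom_ext
    · show (_ ≫ (B.map (c.π.app i)).left) ≫ pullback.fst (D.obj i).hom f = _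
      rw [Category.assoc]
      refine (congrArg (_ ≫ ·) (hfst (c.π.app i))).trans ?_
      refine (Category.assoc _ _ _).symm.trans ?_
      exact (congrArg (· ≫ (c.π.app i).left) (pullback.lift_fst _ _ _)).trans (hc.fac (sA s) i)
    · show (_ ≫ (B.map (c.π.app i)).left) ≫ pullback.snd (D.obj i).hom f = _
      rw [Category.assoc]
      refine (congrArg (_ ≫ ·) (hsnd (c.π.app i))).trans ?_
      exact (pullback.lift_snd _ _ _).trans (hconst s i).symm
  · apply pullback.hom_ext
    · refine Eq.trans ?_ (pullback.lift_fst _ _ _).symm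
      refine hc.uniq (sA s) _ fun i => ?_
      show (m ≫ pullback.fst c.pt.hom f) ≫ (c.π.app i).left = s.π.app i ≫ pullback.fst (D.obj i).hom f
      rw [← hm i]
      exact (Category.assoc _ _ _).trans ((congrArg (m ≫ ·) (hfst (c.π.app i)).symm).trans (Category.assoc _ _ _).symm)
    · refine Eq.trans ?_ (pullback.lift_snd _ _ _).symm
      rw [← hm i₀]
      exact (congrArg (m ≫ ·) (hsnd (c.π.app i₀)).symm).trans (Category.assoc _ _ _).symm

theorem hasStages_pushPMod (E : EtModW.Mod Λ Z) :
    EpsStage.HasStages ((pushPMod f Λ).obj ((EtModW.epsPullMod Λ Z).obj E)) := fun S => by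
  let D := (S.Y ⋙ ε X) ⋙ _root_.ProEtS.bcP f
  haveI := EpsStage.isAffine_stage S
  haveI : ∀ i, IsAffine (D.obj i).left := fun i => isAffine_bcP_obj f ((S.Y ⋙ ε X).obj i)
  haveI : ∀ i, CompactSpace ↥(D.obj i).left := fun i => inferInstance
  haveI : ∀ i, QuasiSeparatedSpace ↥(D.obj i).left := fun i => inferInstance
  haveI : ∀ (i j : S.I) (a : i ⟶ j), IsAffineHom (D.map a).left := fun i j a => inferInstance
  obtain ⟨l⟩ := nonempty_isLimit_bcP f (S.Y ⋙ ε X) S.c S.isLimit
  exact EpsStage.exists_stage E D ((_root_.ProEtS.bcP f).mapCone S.c) l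

/-- The two squares of sites agree. -/
def siteIso : _root_.ProEtS.eps X ⋙ _root_.ProEtS.bcP f ≅ EtCoh.bc f ⋙ _root_.ProEtS.eps Z :=
  NatIso.ofComponents (fun V => MorphismProperty.Over.isoMk (Iso.refl _))
    (fun {V W} g => MorphismProperty.Over.Hom.ext ((Category.comp_id _).trans (Category.id_comp _).symm))

/-- `ε_*` commutes with direct images. -/
def pushIso (F : EtModW.ModP Λ Z) :
    ((ε X).sheafPushforwardContinuous (ModuleCat.{u + 1} Λ) X.smallEtaleTopology
        (Scheme.ProEt.topology X)).obj ((pushPMod f Λ).obj F) ≅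
      (EtModW.push Λ f).obj (((ε Z).sheafPushforwardContinuous (ModuleCat.{u + 1} Λ) Z.smallEtaleTopology
        (Scheme.ProEt.topology Z)).obj F) :=
  (sheafToPresheaf _ _).preimageIso
    (NatIso.ofComponents (fun V => F.obj.mapIso (((siteIso f).app V.unop).op.symm))
      (fun {V W} g => by
        change F.obj.map _ ≫ F.obj.map _ = F.obj.map _ ≫ F.obj.map _
        rw [← F.obj.map_comp, ← F.obj.map_comp]
        congr 1))

/-- The direct image of a pullback from the étale site is the pullback of the direct image. -/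
theorem nonempty_pushPMod_epsPullMod (E : EtModW.Mod Λ Z) :
    Nonempty ((EtModW.epsPullMod Λ X).obj ((EtModW.push Λ f).obj E) ≅
      (pushPMod f Λ).obj ((EtModW.epsPullMod Λ Z).obj E)) := by
  haveI := EpsStage.isIso_counit_of_hasStages _ (hasStages_pushPMod f E)
  exact ⟨(EtModW.epsPullMod Λ X).mapIso ((EtModW.push Λ f).mapIso ((asIso (epsAdjMod (Λ := Λ) (X := Z)).unit).app E)) ≪≫
    (EtModW.epsPullMod Λ X).mapIso (pushIso f ((EtModW.epsPullMod Λ Z).obj E)).symm ≪≫
    asIso ((epsAdjMod (Λ := Λ) (X := X)).counit.app ((pushPMod f Λ).obj ((EtModW.epsPullMod Λ Z).obj E)))⟩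

end Groth.Agent.EtModWLib.PushP
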