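import Groth.Agent.EtModWLib.PullP
import Groth.Agent.EtModWLib.PushP
import Groth.Agent.ProEtS.ClosedOpen
import Groth.Agent.ProEtS.UnitEq
import Groth.Agent.S0742

/-!
# The exact sequence of an open subscheme and its closed complement for pro-étale sheaves of modules
-/

set_option autoImplicit false
set_option linter.style.haveILetI false
set_option backward.isDefEq.respectTransparency.types false

universe u

open CategoryTheory CategoryTheory.Limits AlgebraicGeometry Opposite ARSys

noncomputable section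

namespace Groth.Agent.EtModWLib.ClosedOpenMod

open Groth.Agent Groth.Agent.EtModWLib

variable {Λ : Type (u + 1)} [CommRing Λ] {U X : Scheme.{u}}

/-- The unit commutes with forgetting the module structure. -/
theorem unit_toAbP (G : U.ProEt ⥤ X.ProEt)
    [G.IsContinuous (Scheme.ProEt.topology U) (Scheme.ProEt.topology X)] (F : EtModW.ModP Λ U) :
    (G.sheafAdjunctionContinuous AddCommGrpCat.{u + 1} (Scheme.ProEt.topology U) (Scheme.ProEt.topology X)).unit.app
        ((toAbP Λ U).obj F) ≫
      (G.sheafPushforwardContinuous AddCommGrpCat.{u + 1} (Scheme.ProEt.topology U) (Scheme.ProEt.topology X)).map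
        ((PullP.pullbackToAbPIso G).inv.app F) =
    (toAbP Λ U).map ((G.sheafAdjunctionContinuous (ModuleCat.{u + 1} Λ) (Scheme.ProEt.topology U)
      (Scheme.ProEt.topology X)).unit.app F) := by
  let fg := forget₂ (ModuleCat.{u + 1} Λ) AddCommGrpCat.{u + 1}
  let J := Scheme.ProEt.topology U
  let K := Scheme.ProEt.topology X
  let A := (toAbP Λ U).obj F
  let RA := G.sheafPushforwardContinuous AddCommGrpCat.{u + 1} J K
  let RM := G.sheafPushforwardContinuous (ModuleCat.{u + 1} Λ) J K
  let iA := (Functor.sheafPullbackConstruction.sheafPullbackIso G AddCommGrpCat.{u + 1} J K).app A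
  let iM := (Functor.sheafPullbackConstruction.sheafPullbackIso G (ModuleCat.{u + 1} Λ) J K).app F
  let mid : (Functor.sheafPullbackConstruction.sheafPullback G AddCommGrpCat.{u + 1} J K).obj A ⟶
      (toAbP Λ X).obj ((Functor.sheafPullbackConstruction.sheafPullback G (ModuleCat.{u + 1} Λ) J K).obj F) :=
    (presheafToSheaf K AddCommGrpCat.{u + 1}).map ((Functor.lanCompIsoOfPreserves fg G.op).inv.app F.obj) ≫
      (sheafComposeNatIso K fg (sheafificationAdjunction K (ModuleCat.{u + 1} Λ))
        (sheafificationAdjunction K AddCommGrpCat.{u + 1})).hom.app (G.op.lan.obj F.obj)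
  have a1 : (G.sheafAdjunctionContinuous AddCommGrpCat.{u + 1} J K).unit.app A ≫ RA.map iA.hom =
      (Functor.sheafPullbackConstruction.sheafAdjunctionContinuous G AddCommGrpCat.{u + 1} J K).unit.app A :=
    Adjunction.unit_leftAdjointUniq_hom_app _ _ A
  have a3 : (G.sheafAdjunctionContinuous (ModuleCat.{u + 1} Λ) J K).unit.app F ≫ RM.map iM.hom =
      (Functor.sheafPullbackConstruction.sheafAdjunctionContinuous G (ModuleCat.{u + 1} Λ) J K).unit.app F :=
    Adjunction.unit_leftAdjointUniq_hom_app _ _ F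
  have a2 : (Functor.sheafPullbackConstruction.sheafAdjunctionContinuous G AddCommGrpCat.{u + 1} J K).unit.app A ≫
      RA.map mid = (toAbP Λ U).map
        ((Functor.sheafPullbackConstruction.sheafAdjunctionContinuous G (ModuleCat.{u + 1} Λ) J K).unit.app F) := by
    apply Sheaf.hom_ext
    show ((Functor.sheafPullbackConstruction.sheafAdjunctionContinuous G AddCommGrpCat.{u + 1} J K).unit.app A).hom ≫
        Functor.whiskerLeft G.op mid.hom = Functor.whiskerRight
          ((Functor.sheafPullbackConstruction.sheafAdjunctionContinuous G (ModuleCat.{u + 1} Λ) J K).unit.app F).hom fg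
    rw [ProEtS.UnitEq.unit_eq G AddCommGrpCat.{u + 1} J K A, ProEtS.UnitEq.unit_eq G (ModuleCat.{u + 1} Λ) J K F]
    ext V : 2
    let e₁ := fg.leftKanExtensionCompIsoOfPreserves F.obj G.op
    have h1 := Functor.leftKanExtensionCompIsoOfPreserves_inv_fac_app fg F.obj G.op V
    let W := G.op.obj V
    have h2 : (toSheafify K (G.op.leftKanExtension (F.obj ⋙ fg))).app W ≫
        (sheafifyMap K e₁.inv ≫ (sheafifyComposeIso K fg (G.op.leftKanExtension F.obj)).hom).app W =
        e₁.inv.app W ≫ fg.map ((toSheafify K (G.op.leftKanExtension F.obj)).app W) := by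
      rw [← NatTrans.comp_app, show toSheafify K _ ≫ _ = e₁.inv ≫
        Functor.whiskerRight (toSheafify K (G.op.leftKanExtension F.obj)) fg from ?_]
      · rfl
      · rw [← Category.assoc, ← toSheafify_naturality, Category.assoc, sheafComposeIso_hom_fac]
    have h3 : (G.op.leftKanExtensionUnit (F.obj ⋙ fg)).app V ≫
        (toSheafify K (G.op.leftKanExtension (F.obj ⋙ fg))).app W ≫
        (sheafifyMap K e₁.inv ≫ (sheafifyComposeIso K fg (G.op.leftKanExtension F.obj)).hom).app W =
        fg.map ((G.op.leftKanExtensionUnit F.obj).app V) ≫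
          fg.map ((toSheafify K (G.op.leftKanExtension F.obj)).app W) := by
      rw [h2, ← Category.assoc]
      exact congrArg (· ≫ _) h1
    refine Eq.trans (Category.assoc _ _ _) ?_
    refine Eq.trans ?_ (fg.map_comp _ _).symm
    exact h3
  have hinv : (PullP.pullbackToAbPIso G).inv.app F = iA.hom ≫ mid ≫ (toAbP Λ X).map iM.inv := by
    simp [PullP.pullbackToAbPIso, iA, iM, mid, fg, J, K, A]
    rfl
  rw [hinv, Functor.map_comp, Functor.map_comp]
  refine (Category.assoc _ _ _).symm.trans ?_
  refine (congrArg (· ≫ _) a1).trans ?_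
  refine (Category.assoc _ _ _).symm.trans ?_
  refine (congrArg (· ≫ _) a2).trans ?_
  show (toAbP Λ U).map _ ≫ (toAbP Λ U).map (RM.map iM.inv) = _
  rw [← Functor.map_comp]
  refine congrArg (toAbP Λ U).map ?_
  rw [← a3, Category.assoc, ← Functor.map_comp, iM.hom_inv_id, CategoryTheory.Functor.map_id]
  exact Category.comp_id _

/-- The counit commutes with forgetting the module structure. -/
theorem counit_toAbP (G : U.ProEt ⥤ X.ProEt)
    [G.IsContinuous (Scheme.ProEt.topology U) (Scheme.ProEt.topology X)] (F : EtModW.ModP Λ X) :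
    (PullP.pullbackToAbPIso G).inv.app
        ((G.sheafPushforwardContinuous (ModuleCat.{u + 1} Λ) (Scheme.ProEt.topology U) (Scheme.ProEt.topology X)).obj F) ≫
      (toAbP Λ X).map ((G.sheafAdjunctionContinuous (ModuleCat.{u + 1} Λ) (Scheme.ProEt.topology U)
        (Scheme.ProEt.topology X)).counit.app F) =
    (G.sheafAdjunctionContinuous AddCommGrpCat.{u + 1} (Scheme.ProEt.topology U) (Scheme.ProEt.topology X)).counit.app
      ((toAbP Λ X).obj F) := by
  let adjA := G.sheafAdjunctionContinuous AddCommGrpCat.{u + 1} (Scheme.ProEt.topology U) (Scheme.ProEt.topology X)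
  let adjM := G.sheafAdjunctionContinuous (ModuleCat.{u + 1} Λ) (Scheme.ProEt.topology U) (Scheme.ProEt.topology X)
  let R := G.sheafPushforwardContinuous (ModuleCat.{u + 1} Λ) (Scheme.ProEt.topology U) (Scheme.ProEt.topology X)
  apply (adjA.homEquiv ((toAbP Λ U).obj (R.obj F)) ((toAbP Λ X).obj F)).injective
  rw [Adjunction.homEquiv_unit, Adjunction.homEquiv_unit, Functor.map_comp]
  refine (Category.assoc _ _ _).symm.trans ?_
  refine (congrArg (· ≫ _) (unit_toAbP G (R.obj F))).trans ?_
  refine Eq.trans ?_ (adjA.right_triangle_components ((toAbP Λ X).obj F)).symm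
  show (toAbP Λ U).map (adjM.unit.app (R.obj F)) ≫ (toAbP Λ U).map (R.map (adjM.counit.app F)) = _
  rw [← Functor.map_comp, adjM.right_triangle_components]
  exact (toAbP Λ U).map_id _

theorem preservesFiniteColimits_toAbP : PreservesFiniteColimits (toAbP Λ X) := by
  rw [Functor.preservesFiniteColimits_iff_forall_exact_map_and_epi]
  intro S hS
  haveI := hS.epi_g
  exact ⟨hS.exact.map_of_mono_of_preservesKernel _ hS.mono_f inferInstance, epi_toAbP_map S.g⟩

variable {Z : Scheme.{u}} (i : Z ⟶ X) (j : U ⟶ X) [IsClosedImmersion i] [IsOpenImmersion j] [QuasiCompact j]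
  [WeaklyEtale j] [_root_.ProEtS.JPCont j] [_root_.ProEtS.PCont i]

/-- `0 ⟶ j_! j⁻¹ F ⟶ F ⟶ i_* i⁻¹ F ⟶ 0` for sheaves of modules. -/
theorem exists_shortExact (hc : Set.range j = (Set.range i)ᶜ) (F : EtModW.ModP Λ X) :
    ∃ S : ShortComplex (EtModW.ModP Λ X), S.ShortExact ∧ S.X₂ = F ∧
      S.X₁ = ((_root_.ProEtS.compP j).sheafPullback (ModuleCat.{u + 1} Λ) (Scheme.ProEt.topology U)
        (Scheme.ProEt.topology X)).obj (((_root_.ProEtS.compP j).sheafPushforwardContinuous (ModuleCat.{u + 1} Λ)
        (Scheme.ProEt.topology U) (Scheme.ProEt.topology X)).obj F) ∧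
      S.X₃ = (PushP.pushPMod i Λ).obj (((_root_.ProEtS.bcP i).sheafPullback (ModuleCat.{u + 1} Λ)
        (Scheme.ProEt.topology X) (Scheme.ProEt.topology Z)).obj F) := by
  let G := _root_.ProEtS.compP j
  let B := _root_.ProEtS.bcP i
  let f := (G.sheafAdjunctionContinuous (ModuleCat.{u + 1} Λ) (Scheme.ProEt.topology U)
    (Scheme.ProEt.topology X)).counit.app F
  let g := (B.sheafAdjunctionContinuous (ModuleCat.{u + 1} Λ) (Scheme.ProEt.topology X)
    (Scheme.ProEt.topology Z)).unit.app F
  obtain ⟨h, hS⟩ := ProEtS.ClosedOpen.shortExact i j ((toAbP Λ X).obj F) hc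
  let e₁ := (PullP.pullbackToAbPIso (Λ := Λ) G).app ((G.sheafPushforwardContinuous (ModuleCat.{u + 1} Λ)
    (Scheme.ProEt.topology U) (Scheme.ProEt.topology X)).obj F)
  let e₃ := (_root_.ProEtS.pushP i).mapIso ((PullP.pullbackToAbPIso (Λ := Λ) B).app F)
  have hf : e₁.hom ≫ (_root_.ProEtS.extZeroPAdj j).counit.app ((toAbP Λ X).obj F) = (toAbP Λ X).map f :=
    (Iso.eq_inv_comp _).1 (counit_toAbP G F).symm
  have hg : (toAbP Λ X).map g ≫ e₃.hom = (_root_.ProEtS.pullPushAdjP i).unit.app ((toAbP Λ X).obj F) :=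
    ((Iso.eq_comp_inv _).1 (unit_toAbP B F).symm)
  have w : f ≫ g = 0 := by
    apply (toAbP Λ X).map_injective
    rw [Functor.map_comp, Functor.map_zero]
    refine Preadditive.IsIso.comp_right_eq_zero _ e₃.hom |>.1 ?_
    refine (Category.assoc _ _ _).trans ((congrArg (_ ≫ ·) hg).trans ?_)
    refine (congrArg (· ≫ _) hf).symm.trans ((Category.assoc _ _ _).trans ?_)
    exact (congrArg (e₁.hom ≫ ·) h).trans comp_zero
  refine ⟨ShortComplex.mk f g w, ?_, rfl, rfl, rfl⟩
  let e : (ShortComplex.mk f g w).map (toAbP Λ X) ≅ ShortComplex.mk _ _ h :=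
    ShortComplex.isoMk e₁ (Iso.refl _) e₃ (hf.trans (Category.comp_id _).symm)
      ((Category.id_comp _).trans hg.symm)
  have hS' : ((ShortComplex.mk f g w).map (toAbP Λ X)).ShortExact := (ShortComplex.shortExact_iff_of_iso e).2 hS
  haveI := preservesFiniteColimits_toAbP (Λ := Λ) (X := X)
  exact ShortComplex.ShortExact.mk' ((ShortComplex.exact_map_iff_of_faithful _ (toAbP Λ X)).1 hS'.exact)
    ((toAbP Λ X).mono_of_mono_map hS'.mono_f) ((toAbP Λ X).epi_of_epi_map hS'.epi_g)

end Groth.Agent.EtModWLib.ClosedOpenMod
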