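import Groth.Agent.EtModWLib.PullTriv

/-!
# Inverse images along composites
-/

universe u

open CategoryTheory CategoryTheory.Limits AlgebraicGeometry Opposite

namespace Groth.Agent.EtModWLib

open Groth.Agent

variable {Λ : Type (u + 1)} [CommRing Λ] {X Y Z : Scheme.{u}}

set_option backward.isDefEq.respectTransparency.types false in
/-- Direct images compose. -/
noncomputable def pushComp (f : X ⟶ Y) (g : Z ⟶ X) :
    EtModW.push Λ g ⋙ EtModW.push Λ f ≅ EtModW.push Λ (g ≫ f) :=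
  Functor.sheafPushforwardContinuousComp' (F := EtCoh.bc f) (G := EtCoh.bc g) (FG := EtCoh.bc (g ≫ f))
    ((MorphismProperty.Over.pullbackComp (P := EtCoh.etaleMP) (Q := ⊤) g f).symm :
      EtCoh.bc f ⋙ EtCoh.bc g ≅ EtCoh.bc (g ≫ f))
    (ModuleCat.{u + 1} Λ) Y.smallEtaleTopology X.smallEtaleTopology Z.smallEtaleTopology

/-- Inverse images compose. -/
noncomputable def pullComp (f : X ⟶ Y) (g : Z ⟶ X) :
    EtModW.pull Λ f ⋙ EtModW.pull Λ g ≅ EtModW.pull Λ (g ≫ f) :=
  Adjunction.leftAdjointUniq (((pullPushAdj f).comp (pullPushAdj g)).ofNatIsoRight (pushComp f g))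
    (pullPushAdj (g ≫ f))

/-- Inverse images along equal morphisms agree. -/
noncomputable def pullCongr {f f' : X ⟶ Y} (h : f = f') : EtModW.pull Λ f ≅ EtModW.pull Λ f' :=
  eqToIso (by rw [h])

theorem isFTLocConst_pull_comp (f : X ⟶ Y) (g : Z ⟶ X) {G : EtModW.Mod Λ Y}
    (h : EtModW.IsFTLocConst Λ ((EtModW.pull Λ f).obj G)) :
    EtModW.IsFTLocConst Λ ((EtModW.pull Λ (g ≫ f)).obj G) :=
  isFTLocConst_of_iso ((pullComp f g).app G) (isFTLocConst_pull g h)

end Groth.Agent.EtModWLib
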