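import Groth.Agent.EtModWLib.ConsSerre
import Groth.Agent.EtModWLib.Lisse
import Groth.Agent.EtModWLib.NoethObj
import Groth.Agent.ARLib.Noeth

/-!
# Components of systems isomorphic up to translation to constructible ones
-/

universe u

open CategoryTheory CategoryTheory.Limits AlgebraicGeometry Opposite ARSys

namespace Groth.Agent.EtModWLib

open Groth.Agent Groth.Agent.ARLib

variable {Λ : Type (u + 1)} [CommRing Λ] {X : Scheme.{u}}

/-- Finite sums of copies of a constructible sheaf are constructible. -/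
theorem isConstructible_copies {G : EtModW.Mod Λ X} (hG : EtModW.IsConstructible Λ G) (k : ℕ) :
    EtModW.IsConstructible Λ (⨁ fun _ : Fin k => G) := by
  intro U hU
  obtain ⟨n, T, g, hg, hc, hd, hu, hF⟩ := hG U hU
  exact ⟨n, T, g, hg, hc, hd, hu, fun i =>
    isFTLocConst_of_iso ((EtModW.pull Λ (g i)).mapBiproduct _).symm (isFTLocConst_biproduct _ fun _ => hF i)⟩

/-- Retracts of constructible sheaves are constructible. -/
theorem isConstructible_retract {Q Y : EtModW.Mod Λ X} (r : Q ⟶ Y) (s : Y ⟶ Q) (h : s ≫ r = 𝟙 Y)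
    (hQ : EtModW.IsConstructible Λ Q) : EtModW.IsConstructible Λ Y := by
  have w : (𝟙 Q - r ≫ s) ≫ r = 0 := by
    rw [Preadditive.sub_comp, Category.assoc, h, Category.id_comp, Category.comp_id, sub_self]
  haveI : IsSplitEpi r := IsSplitEpi.mk' ⟨s, h⟩
  have hc : IsColimit (CokernelCofork.ofπ r w) :=
    CokernelCofork.IsColimit.ofπ _ _ (fun φ _ => s ≫ φ)
      (fun φ hφ => by
        rw [Preadditive.sub_comp, Category.id_comp, sub_eq_zero, Category.assoc] at hφ
        exact hφ.symm)
      (fun φ _ m hm => by rw [← hm, ← Category.assoc, h, Category.id_comp])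
  exact isConstructible_of_iso ((cokernelIsCokernel _).coconePointUniqueUpToIso hc)
    (isConstructible_cokernel (𝟙 Q - r ≫ s) hQ hQ)

/-- The quotient of a constructible sheaf by a finitely generated ideal is constructible. -/
theorem isConstructible_quot {I : Ideal Λ} (hI : I.FG) {G Q : EtModW.Mod Λ X} {p : G ⟶ Q}
    (hp : IsQuot I p) (hG : EtModW.IsConstructible Λ G) : EtModW.IsConstructible Λ Q := by
  obtain ⟨n, g, rfl⟩ := Submodule.fg_iff_exists_fin_generating_family.1 hI
  haveI := quot_epi hp
  let d := biproduct.desc fun i : Fin n => g i • 𝟙 G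
  have hg : ∀ i, g i • p = 0 := fun i =>
    killed_smul hp.1 p _ (Submodule.subset_span ⟨i, rfl⟩)
  have w : d ≫ p = 0 := biproduct.hom_ext' _ _ fun i => by
    rw [biproduct.ι_desc_assoc, Linear.smul_comp, Category.id_comp, hg, comp_zero]
  have hkill : ∀ {W : EtModW.Mod Λ X} (φ : G ⟶ W), d ≫ φ = 0 → HomKilledBy (Submodule.span Λ (Set.range g)) φ := by
    intro W φ hφ a ha
    induction ha using Submodule.span_induction with
    | mem x hx =>
      obtain ⟨i, rfl⟩ := hx
      have h := biproduct.ι (fun _ : Fin n => G) i ≫= hφ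
      rwa [biproduct.ι_desc_assoc, Linear.smul_comp, Category.id_comp, comp_zero] at h
    | zero => rw [zero_smul]
    | add x y _ _ hx hy => rw [add_smul, hx, hy, add_zero]
    | smul c x _ hx => rw [smul_eq_mul, mul_smul, hx, smul_zero]
  have hc : IsColimit (CokernelCofork.ofπ p w) :=
    CokernelCofork.IsColimit.ofπ' _ _ fun φ hφ =>
      ⟨(quot_fac hp φ (hkill φ hφ)).choose, (quot_fac hp φ (hkill φ hφ)).choose_spec⟩
  exact isConstructible_of_iso ((cokernelIsCokernel _).coconePointUniqueUpToIso hc)
    (isConstructible_cokernel d (isConstructible_copies hG n) hG)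

variable [IsNoetherianRing Λ]

/-- An adic system isomorphic up to translation to a system with constructible components has
constructible components. -/
theorem isConstructible_of_arIso {I : Ideal Λ} {F Y : ARSys.PS (EtModW.Mod Λ X)} {u : Y ⟶ F}
    (hY : IsAdic I Y) (hu : IsARIso u) (hF : ∀ n : ℕ, EtModW.IsConstructible Λ (F.obj (op n))) (n : ℕ) :
    EtModW.IsConstructible Λ (Y.obj (op n)) := by
  obtain ⟨t, ⟨q⟩⟩ := exists_qinv hu
  obtain ⟨Q, p, hp⟩ := exists_quot_of_fg (IsNoetherian.noetherian (I ^ (n + 1))) (F.obj (op (n + t)))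
  haveI := quot_epi hp
  obtain ⟨r, hr⟩ := quot_fac hp (q.v n) (killed_smul (hY.1 n) (q.v n))
  have hquot := hY.2 n (n + t) (Nat.le_add_right n t)
  haveI := quot_epi hquot
  obtain ⟨s, hs⟩ := quot_fac hquot (u.app (op (n + t)) ≫ p) (killed_smul hp.1 _)
  refine isConstructible_retract r s ?_ (isConstructible_quot (IsNoetherian.noetherian _) hp (hF _))
  rw [← cancel_epi (tr Y (Nat.le_add_right n t)), ← Category.assoc, hs, Category.assoc, hr, q.uv,
    Category.comp_id]

/-- Systems adic up to translation with constructible components, inside the category of systems. -/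
theorem arAdicNoeth_of_isConstructible [IsNoetherian X] {I : Ideal Λ}
    {F : ARSys.PS (EtModW.Mod Λ X)} (hF : IsAdic I F)
    (hc : ∀ n : ℕ, EtModW.IsConstructible Λ (F.obj (op n))) : IsARAdicNoeth I F :=
  ⟨⟨hF.1, F, 𝟙 F, hF, isARIso_of_isIso _⟩, fun n => isNoetherianObject_of_isConstructible (hc n)⟩

/-- Constructibility of the components of kernels and cokernels. -/
theorem isConstructible_kernel_app {F G : ARSys.PS (EtModW.Mod Λ X)} (w : F ⟶ G)
    (hF : ∀ n : ℕ, EtModW.IsConstructible Λ (F.obj (op n)))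
    (hG : ∀ n : ℕ, EtModW.IsConstructible Λ (G.obj (op n))) (n : ℕ) :
    EtModW.IsConstructible Λ ((kernel w).obj (op n)) ∧ EtModW.IsConstructible Λ ((cokernel w).obj (op n)) :=
  let ev := (evaluation ℕᵒᵖ (EtModW.Mod Λ X)).obj (op n)
  ⟨isConstructible_of_iso (PreservesKernel.iso ev w).symm (isConstructible_kernel _ (hF n) (hG n)),
    isConstructible_of_iso (PreservesCokernel.iso ev w).symm (isConstructible_cokernel _ (hF n) (hG n))⟩

end Groth.Agent.EtModWLib
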