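import Groth.Agent.EtModWLib.Triv

/-!
# Constant sheaves of modules
-/

universe u

open CategoryTheory CategoryTheory.Limits AlgebraicGeometry Opposite

namespace Groth.Agent.EtModWLib

open Groth.Agent

variable {Λ : Type (u + 1)} [CommRing Λ] {X : Scheme.{u}}
variable (M : Type (u + 1)) [AddCommGroup M] [Module Λ M]

/-- The canonical map from a module to the sections of its constant sheaf. -/
noncomputable def constSect (U : X.Etale) : M →ₗ[Λ] (EtModW.constMod Λ X M).obj.obj (op U) :=
  ((toSheafify X.smallEtaleTopology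
    ((Functor.const X.Etaleᵒᵖ).obj (ModuleCat.of Λ M))).app (op U)).hom

theorem bijective_const_fiber {Ω : Type u} [Field Ω] [IsSepClosed Ω]
    (ξ : Spec (CommRingCat.of Ω) ⟶ X) (U : X.Etale) (φ : (Scheme.pointSmallEtale ξ).fiber.obj U) :
    Function.Bijective fun x : M => (Scheme.pointSmallEtale ξ).toPresheafFiber U φ
      ((Functor.const X.Etaleᵒᵖ).obj (ModuleCat.of Λ M)) x := by
  let Φ := Scheme.pointSmallEtale ξ
  refine ⟨fun x y e => ?_, fun p => ?_⟩
  · obtain ⟨V, g, v, -, h⟩ := (Φ.toPresheafFiber_eq_iff' U φ _ _).1 e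
    exact h
  · obtain ⟨V, ψ, z, rfl⟩ := Φ.toPresheafFiber_jointly_surjective p
    obtain ⟨W, w, a, b, ha, hb⟩ := exists_refine φ ψ
    refine ⟨z, ?_⟩
    show Φ.toPresheafFiber U φ ((Functor.const X.Etaleᵒᵖ).obj (ModuleCat.of Λ M)) z =
      Φ.toPresheafFiber V ψ ((Functor.const X.Etaleᵒᵖ).obj (ModuleCat.of Λ M)) z
    rw [← ha, ← hb]
    exact (Φ.toPresheafFiber_w_apply a w ((Functor.const X.Etaleᵒᵖ).obj (ModuleCat.of Λ M)) z).symm.trans
      (Φ.toPresheafFiber_w_apply b w ((Functor.const X.Etaleᵒᵖ).obj (ModuleCat.of Λ M)) z)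

/-- Constant sheaves are trivialised everywhere. -/
theorem isTriv_constSect (U : X.Etale) :
    IsTriv (EtModW.constMod Λ X M) U M (constSect M U) := by
  intro Ω _ _ ξ φ
  let Φ := Scheme.pointSmallEtale ξ
  let η : (Functor.const X.Etaleᵒᵖ).obj (ModuleCat.of Λ M) ⟶ (EtModW.constMod Λ X M).obj :=
    toSheafify X.smallEtaleTopology _
  have : IsIso (Φ.presheafFiber.map η) :=
    Φ.W_isInvertedBy_presheafFiber' η (X.smallEtaleTopology.W_toSheafify _)
  have hc : (fun x => germ ξ (EtModW.constMod Λ X M) U φ (constSect M U x)) =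
      Φ.presheafFiber.map η ∘ fun x : M => Φ.toPresheafFiber U φ
        ((Functor.const X.Etaleᵒᵖ).obj (ModuleCat.of Λ M)) x :=
    funext fun x => (Φ.toPresheafFiber_naturality_apply η U φ x).symm
  rw [hc]
  exact (ConcreteCategory.bijective_of_isIso (Φ.presheafFiber.map η)).comp (bijective_const_fiber M ξ U φ)

theorem constMap_constSect {N : Type (u + 1)} [AddCommGroup N] [Module Λ N] (h : M →ₗ[Λ] N)
    (U : X.Etale) (x : M) :
    ((constantSheaf X.smallEtaleTopology (ModuleCat.{u + 1} Λ)).map (ModuleCat.ofHom h)).hom.app (op U)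
      (constSect M U x) = constSect N U (h x) :=
  congrArg (fun k => k.app (op U) x) (toSheafify_naturality X.smallEtaleTopology
    ((Functor.const X.Etaleᵒᵖ).map (ModuleCat.ofHom h))).symm

theorem res_constSect {U V : X.Etale} (g : V ⟶ U) (x : M) :
    (EtModW.constMod Λ X M).obj.map g.op (constSect M U x) = constSect M V x :=
  (congrArg (fun k => k x) ((toSheafify X.smallEtaleTopology
    ((Functor.const X.Etaleᵒᵖ).obj (ModuleCat.of Λ M))).naturality g.op)).symm

end Groth.Agent.EtModWLib
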