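import Groth.Agent.EtModWLib.ExtZero
import Groth.Agent.EtModWLib.GenEpi
import Groth.Agent.EtModWLib.ConsSerre
import Groth.Agent.EtModWLib.Lisse
import Groth.Agent.EtaleSite.OpenImm
import Mathlib.Algebra.Category.ModuleCat.Biproducts
import Groth.Agent.EtModWLib.ConstMod
import Mathlib.RingTheory.Flat.Basic

/-!
# `j_! Λ` is constructible with flat stalks
-/

set_option linter.style.haveILetI false

universe u

open CategoryTheory CategoryTheory.Limits AlgebraicGeometry Opposite Topology

noncomputable section

namespace Groth.Agent.EtModWLib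

open Groth.Agent
open Groth.Agent.EtaleSite (PtLift)

variable {Λ : Type (u + 1)} [CommRing Λ] {U X : Scheme.{u}}

theorem isFTLocConst_constΛ (U : Scheme.{u}) : EtModW.IsFTLocConst Λ (EtSix.constΛ Λ U) := by
  refine isFTLocConst_of_isTriv fun Ω _ _ ξ => ?_
  obtain ⟨φ, -⟩ := EtaleSite.exists_fiber_point ξ (EtCoh.top U) (ξ default) rfl
  exact ⟨EtCoh.top U, φ, Λ, inferInstance, inferInstance, inferInstance, _, isTriv_constSect Λ (EtCoh.top U)⟩

/-- A morphism of schemes from a qc scheme to a qs scheme is quasi-compact. -/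
theorem quasiCompact_of_qcqs [CompactSpace U] [QuasiSeparatedSpace X] (j : U ⟶ X) : QuasiCompact j := by
  haveI : QuasiCompact (j ≫ terminal.from X) := by
    rw [terminal.comp_from]
    exact (compactSpace_iff_quasiCompact _).mp inferInstance
  haveI : QuasiSeparated (terminal.from X) :=
    (quasiSeparatedSpace_iff_quasiSeparated X).mp inferInstance
  exact QuasiCompact.of_comp j (terminal.from X)

/-- A global partition into strata with locally constant restrictions gives constructibility. -/
theorem isConstructible_of_partition [QuasiSeparatedSpace X] {F : EtModW.Mod Λ X} {n : ℕ}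
    (T : Fin n → Scheme.{u}) (g : ∀ i, T i ⟶ X) (h₁ : ∀ i, IsImmersion (g i))
    (h₂ : ∀ i, IsConstructible (Set.range (g i)))
    (h₃ : Pairwise fun i j => Disjoint (Set.range (g i)) (Set.range (g j)))
    (h₄ : (⋃ i, Set.range (g i)) = Set.univ)
    (h₅ : ∀ i, EtModW.IsFTLocConst Λ ((EtModW.pull Λ (g i)).obj F)) : EtModW.IsConstructible Λ F := by
  intro V hV
  have hr : ∀ i, Set.range (pullback.fst (g i) V.ι ≫ g i) = Set.range (g i) ∩ (V : Set X) := fun i => by
    rw [show ⇑(pullback.fst (g i) V.ι ≫ g i) = g i ∘ pullback.fst (g i) V.ι from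
      funext fun _ => Scheme.Hom.comp_apply _ _ _, Set.range_comp, Scheme.Pullback.range_fst,
      Set.image_preimage_eq_inter_range, Scheme.Opens.range_ι, Set.inter_comm]
  refine adaptedStrata_of_fintype (fun i => pullback (g i) V.ι) (fun i => pullback.fst (g i) V.ι ≫ g i)
    (fun i => ?_) (fun i => ?_) (fun a b hab => ?_) ?_ (fun i => ?_)
  · haveI := h₁ i
    infer_instance
  · rw [hr, Set.preimage_inter, Subtype.coe_preimage_self, Set.inter_univ]
    exact (h₂ i).preimage_of_isOpenEmbedding V.2.isOpenEmbedding_subtypeVal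
  · simp only [hr]
    exact (h₃ hab).mono Set.inter_subset_left Set.inter_subset_left
  · rw [Set.iUnion_congr hr, ← Set.iUnion_inter, h₄, Set.univ_inter]
  · exact isFTLocConst_pull_comp (g i) (pullback.fst (g i) V.ι) (h₅ i)

/-- `j_!` of a locally constant sheaf is constructible. -/
theorem isConstructible_extZero_of_ftlc [CompactSpace X] [QuasiSeparatedSpace X] [CompactSpace U]
    [QuasiSeparatedSpace U] (j : U ⟶ X) [Etale j] [EtShriek.JCont j] {F : EtModW.Mod Λ U}
    (hF : EtModW.IsFTLocConst Λ F) : EtModW.IsConstructible Λ ((EtSix.extZeroMod Λ j).obj F) := by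
  haveI := quasiCompact_of_qcqs j
  obtain ⟨n, T, g, hg, hc, hd, hu, hfin⟩ := EtaleStrat.exists_finite_partition j
  refine isConstructible_of_partition T g hg hc hd hu fun i => ?_
  haveI := hfin i
  exact isFTLocConst_pull_extZero j (g i) F hF

theorem isConstructible_extZero_constΛ [CompactSpace X] [QuasiSeparatedSpace X] [CompactSpace U]
    [QuasiSeparatedSpace U] (j : U ⟶ X) [Etale j] [EtShriek.JCont j] :
    EtModW.IsConstructible Λ ((EtSix.extZeroMod Λ j).obj (EtSix.constΛ Λ U)) :=
  isConstructible_extZero_of_ftlc j (isFTLocConst_constΛ U)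

theorem isConstructible_constΛ (X : Scheme.{u}) : EtModW.IsConstructible Λ (EtSix.constΛ Λ X) := by
  intro V hV
  refine adaptedStrata_of_fintype (fun _ : Unit => (V : Scheme.{u})) (fun _ => V.ι) (fun _ => inferInstance)
    (fun _ => ?_) (fun a b hab => absurd (Subsingleton.elim a b) hab) ?_
    (fun _ => isFTLocConst_pull V.ι (isFTLocConst_constΛ X))
  · rw [Scheme.Opens.range_ι, Subtype.coe_preimage_self]
    exact IsConstructible.univ
  · rw [Set.iUnion_const, Scheme.Opens.range_ι]

/-- The stalks of `j_! Λ` are finite free, in particular flat. -/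
theorem flat_stalk_extZero_constΛ [CompactSpace X] [QuasiSeparatedSpace X] [CompactSpace U]
    [QuasiSeparatedSpace U] (j : U ⟶ X) [Etale j] [EtShriek.JCont j] {Ω : Type u} [Field Ω] [IsSepClosed Ω]
    (ξ : Spec (CommRingCat.of Ω) ⟶ X) :
    Module.Flat Λ ↑((EtModW.stalk Λ ξ).obj ((EtSix.extZeroMod Λ j).obj (EtSix.constΛ Λ U))) := by
  classical
  haveI := quasiCompact_of_qcqs j
  haveI : Finite (PtLift j ξ) := by
    obtain ⟨n, T, g, hg, -, -, hu, hfin⟩ := EtaleStrat.exists_finite_partition j
    obtain ⟨i, t, ht⟩ := Set.mem_iUnion.1 ((congrArg (ξ default ∈ ·) hu).mpr trivial)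
    haveI := hg i
    haveI := hfin i
    obtain ⟨η, rfl⟩ := exists_lift_of_isImmersion (g i) ξ t ht
    exact EtConsAb.finite_ptLift j (g i) η
  cases nonempty_fintype (PtLift j ξ)
  let F := EtSix.constΛ Λ U
  choose φ hφ using fun v : PtLift j ξ => EtaleSite.exists_fiber_point v.1 (EtCoh.top U) (v.1 default) rfl
  let e := fun v : PtLift j ξ => (isTriv_constSect (Λ := Λ) Λ (EtCoh.top U)).stalkEquiv (φ v)
  let m : (PtLift j ξ → Λ) →ₗ[Λ] ↑((EtModW.stalk Λ ξ).obj ((EtSix.extZeroMod Λ j).obj F)) :=
    ∑ v, ((stalkIncl j ξ F v).hom.comp (e v).toLinearMap).comp (LinearMap.proj v)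
  have hm : Function.Bijective m := by
    refine bijective_of_lifts j F ξ id Function.bijective_id (fun _ => Λ) e m fun v x => ?_
    simp only [m, LinearMap.sum_apply, LinearMap.comp_apply, LinearMap.proj_apply]
    rw [Finset.sum_eq_single v (fun w _ hw => by rw [Pi.single_eq_of_ne hw, map_zero, map_zero])
      (fun h => absurd (Finset.mem_univ v) h), Pi.single_eq_same]
    rfl
  exact Module.Flat.of_linearEquiv (LinearEquiv.ofBijective m hm).symm

end Groth.Agent.EtModWLib

namespace Groth.Agent.EtModWLib

open Groth.Agent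

variable {Λ : Type (u + 1)} [CommRing Λ] [IsNoetherianRing Λ] {X : Scheme.{u}}

/-- Finite sums of constructible sheaves are constructible. -/
theorem isConstructible_biproduct : ∀ {m : ℕ} (F : Fin m → EtModW.Mod Λ X),
    (∀ i, EtModW.IsConstructible Λ (F i)) → EtModW.IsConstructible Λ (⨁ F) := by
  intro m
  induction m with
  | zero =>
    intro F _ V hV
    have h0 : IsZero (⨁ F) := (IsZero.iff_id_eq_zero _).2 (biproduct.hom_ext _ _ fun i => i.elim0)
    exact isConstructible_of_isZero h0 (isConstructible_constΛ X) V hV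
  | succ m ih =>
    intro F hF
    let S : ShortComplex (EtModW.Mod Λ X) := ShortComplex.mk (biproduct.ι F 0)
      (biproduct.lift fun i : Fin m => biproduct.π F i.succ) (biproduct.hom_ext _ _ fun i => by
        rw [Category.assoc, biproduct.lift_π, zero_comp, biproduct.ι_π_ne F (Fin.succ_ne_zero i).symm])
    let σ : S.Splitting :=
      { r := biproduct.π F 0
        s := biproduct.desc fun i : Fin m => biproduct.ι F i.succ
        f_r := biproduct.ι_π_self F 0
        s_g := by
          refine biproduct.hom_ext' _ _ fun i => biproduct.hom_ext _ _ fun k => ?_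
          simp only [S, biproduct.ι_desc_assoc, Category.assoc, biproduct.lift_π, Category.comp_id]
          by_cases h : i = k
          · subst h
            simp
          · rw [biproduct.ι_π_ne F (fun e => h (Fin.succ_injective _ e)),
              biproduct.ι_π_ne _ h]
        id := by
          refine biproduct.hom_ext' _ _ fun i => ?_
          refine Fin.cases ?_ (fun k => ?_) i
          · simp only [S, Preadditive.comp_add, biproduct.ι_π_self_assoc, Category.comp_id]
            rw [add_eq_left]
            refine (Category.assoc _ _ _).symm.trans ?_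
            rw [S.zero, zero_comp]
          · simp only [S, Preadditive.comp_add, Category.comp_id]
            rw [biproduct.ι_π_ne_assoc F (Fin.succ_ne_zero k), zero_comp, zero_add, ← Category.assoc]
            have : biproduct.ι F k.succ ≫ biproduct.lift (fun i : Fin m => biproduct.π F i.succ) =
                biproduct.ι (fun i : Fin m => F i.succ) k := by
              refine biproduct.hom_ext _ _ fun l => ?_
              rw [Category.assoc, biproduct.lift_π]
              by_cases h : k = l
              · subst h; simp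
              · rw [biproduct.ι_π_ne F (fun e => h (Fin.succ_injective _ e)), biproduct.ι_π_ne _ h]
            rw [this, biproduct.ι_desc] }
    exact isConstructible_extension S σ.shortExact (hF 0) (ih _ fun i => hF i.succ)

omit [IsNoetherianRing Λ] in
/-- Finite sums of sheaves with flat stalks have flat stalks. -/
theorem flat_stalk_biproduct {m : ℕ} (F : Fin m → EtModW.Mod Λ X) {Ω : Type u} [Field Ω] [IsSepClosed Ω]
    (ξ : Spec (CommRingCat.of Ω) ⟶ X) (h : ∀ i, Module.Flat Λ ↑((EtModW.stalk Λ ξ).obj (F i))) :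
    Module.Flat Λ ↑((EtModW.stalk Λ ξ).obj (⨁ F)) := by
  haveI : Module.Flat Λ (Π i, ↑((EtModW.stalk Λ ξ).obj (F i))) :=
    Module.Flat.of_linearEquiv (DFinsupp.linearEquivFunOnFintype
      (R := Λ) (M := fun i => ↑((EtModW.stalk Λ ξ).obj (F i)))).symm
  haveI : Module.Flat Λ ↑(ModuleCat.of Λ ((j : Fin m) → ↑(((EtModW.stalk Λ ξ).obj ∘ F) j))) :=
    ‹Module.Flat Λ (Π i, ↑((EtModW.stalk Λ ξ).obj (F i)))›
  exact Module.Flat.of_linearEquiv
    ((EtModW.stalk Λ ξ).mapBiproduct F ≪≫ ModuleCat.biproductIsoPi _).toLinearEquiv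

/-- A quotient of a sheaf generated by finitely many sections is the image of a constructible sheaf
with flat stalks. -/
theorem exists_flat_constructible_epi [CompactSpace X] [QuasiSeparatedSpace X] {Z F : EtModW.Mod Λ X}
    (π : Z ⟶ F) [Epi π] (hF : EtModW.IsConstructible Λ F) :
    ∃ (K : EtModW.Mod Λ X) (w : K ⟶ Z), EtModW.IsConstructible Λ K ∧
      (∀ (Ω : Type u) [Field Ω] [IsSepClosed Ω] (ξ : Spec (CommRingCat.of Ω) ⟶ X),
        Module.Flat Λ ↑((EtModW.stalk Λ ξ).obj K)) ∧ Epi (w ≫ π) := by
  obtain ⟨m, W, s, hW, hgen⟩ := exists_finite_generators π hF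
  haveI : ∀ k, Etale (W k).hom := fun k => (W k).prop
  haveI : ∀ k, EtShriek.JCont (W k).hom := fun k => inferInstance
  haveI : ∀ k, CompactSpace (W k).left := fun k => haveI := hW k; inferInstance
  haveI : ∀ k, QuasiSeparatedSpace (W k).left := fun k => haveI := hW k; inferInstance
  obtain ⟨ψ, hψ⟩ := exists_sum_extZero_epi W π s hgen
  let G : Fin m → EtModW.Mod Λ X := fun k => ((EtSix.extZeroMod Λ (W k).hom).obj (EtSix.constΛ Λ (W k).left) : EtModW.Mod Λ X)
  let ψ' : (∐ G) ⟶ Z := ψ
  haveI : Epi (ψ' ≫ π) := hψ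
  refine ⟨⨁ G, biproduct.desc fun k => Sigma.ι G k ≫ ψ',
    isConstructible_biproduct G fun k => isConstructible_extZero_constΛ (U := (W k).left) _,
    fun Ω _ _ ξ => flat_stalk_biproduct G ξ fun k =>
      flat_stalk_extZero_constΛ (U := (W k).left) _ ξ, ?_⟩
  refine epi_of_epi_fac (f := Sigma.desc (biproduct.ι G)) (h := ψ' ≫ π) (Sigma.hom_ext _ _ fun k => ?_)
  rw [Sigma.ι_desc_assoc, biproduct.ι_desc_assoc, Category.assoc]

end Groth.Agent.EtModWLib

namespace Groth.Agent.EtModWLib

open Groth.Agent

variable {Λ : Type (u + 1)} [CommRing Λ] [IsNoetherianRing Λ] {X : Scheme.{u}}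

/-- Cohomology of a complex of constructible sheaves is constructible. -/
theorem isConstructible_homology (C : CochainComplex (EtModW.Mod Λ X) ℤ)
    (hC : ∀ i, EtModW.IsConstructible Λ (C.X i)) (i : ℤ) : EtModW.IsConstructible Λ (C.homology i) := by
  have hcyc : EtModW.IsConstructible Λ (C.cycles i) :=
    isConstructible_of_iso
      ((kernelIsKernel (C.d i (i + 1))).conePointUniqueUpToIso (C.cyclesIsKernel i (i + 1) (by simp)))
      (isConstructible_kernel _ (hC i) (hC (i + 1)))
  exact isConstructible_of_iso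
    ((cokernelIsCokernel (C.toCycles (i - 1) i)).coconePointUniqueUpToIso
      (C.homologyIsCokernel (i - 1) i (by simp)))
    (isConstructible_cokernel _ (hC (i - 1)) hcyc)

end Groth.Agent.EtModWLib
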