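import Groth.Agent.EtModWLib.Comp
import Mathlib.AlgebraicGeometry.IdealSheaf.Subscheme
import Mathlib.AlgebraicGeometry.Morphisms.Immersion
import Mathlib.AlgebraicGeometry.Morphisms.QuasiSeparated
import Mathlib.AlgebraicGeometry.PullbackCarrier

/-!
# Constructible sheaves of modules: inverse images
-/

universe u

open CategoryTheory CategoryTheory.Limits AlgebraicGeometry Opposite Topology

namespace Groth.Agent.EtModWLib

open Groth.Agent

variable {Λ : Type (u + 1)} [CommRing Λ] {X Y : Scheme.{u}}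

/-- The residue field map of a preimmersion is an isomorphism. -/
theorem isIso_residueFieldMap {T : Scheme.{u}} (g : T ⟶ X) [IsPreimmersion g] (t : T) :
    IsIso (g.residueFieldMap t) := by
  rw [ConcreteCategory.isIso_iff_bijective]
  refine ⟨RingHom.injective (g.residueFieldMap t).hom, fun z => ?_⟩
  obtain ⟨w, rfl⟩ := T.residue_surjective t z
  obtain ⟨v, rfl⟩ := g.stalkMap_surjective t w
  exact ⟨X.residue (g t) v, congrArg (fun k => k v) (Scheme.residue_residueFieldMap g t)⟩

/-- A point in the image of an immersion lifts along it. -/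
theorem exists_lift_of_isImmersion {T : Scheme.{u}} (g : T ⟶ X) [IsImmersion g] {Ω : Type u} [Field Ω]
    (ξ : Spec (CommRingCat.of Ω) ⟶ X) (t : T) (ht : g t = ξ default) :
    ∃ η : Spec (CommRingCat.of Ω) ⟶ T, η ≫ g = ξ := by
  obtain ⟨p, hp⟩ : ∃ p : Σ x, X.residueField x ⟶ CommRingCat.of Ω,
      Spec.map p.2 ≫ X.fromSpecResidueField p.1 = ξ :=
    ⟨_, (Scheme.SpecToEquivOfField Ω X).symm_apply_apply ξ⟩
  obtain ⟨x, a⟩ := p
  have hx : g t = x := by
    rw [ht, ← hp, Scheme.Hom.comp_apply]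
    exact Scheme.fromSpecResidueField_apply _ _
  subst hx
  have := isIso_residueFieldMap g t
  refine ⟨Spec.map (inv (g.residueFieldMap t) ≫ a) ≫ T.fromSpecResidueField t, ?_⟩
  rw [← hp, Category.assoc, ← g.SpecMap_residueFieldMap_fromSpecResidueField, ← Spec.map_comp_assoc,
    IsIso.hom_inv_id_assoc]

/-- A finite type indexed version of an adapted stratification. -/
theorem adaptedStrata_of_fintype {F : EtModW.Mod Λ X} {S : Set X} {ι : Type*} [Finite ι]
    (T : ι → Scheme.{u}) (g : ∀ i, T i ⟶ X) (h₁ : ∀ i, IsImmersion (g i))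
    (h₂ : ∀ i, IsConstructible ((Subtype.val : S → X) ⁻¹' Set.range (g i)))
    (h₃ : Pairwise (fun i j => Disjoint (Set.range (g i)) (Set.range (g j))))
    (h₄ : (⋃ i, Set.range (g i)) = S)
    (h₅ : ∀ i, EtModW.IsFTLocConst Λ ((EtModW.pull Λ (g i)).obj F)) :
    EtModW.AdaptedStrata Λ F S := by
  cases nonempty_fintype ι
  let e := (Fintype.equivFin ι).symm
  refine ⟨Fintype.card ι, fun k => T (e k), fun k => g (e k), fun k => h₁ _, fun k => h₂ _,
    fun k l hkl => h₃ (fun h => hkl (e.injective h)), ?_, fun k => h₅ _⟩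
  rw [← h₄]
  exact Equiv.iSup_comp (g := fun i => Set.range (g i)) e

theorem isRetrocompact_range_inclusion {U W : X.Opens} (hU : IsAffineOpen U) (hW : IsAffineOpen W)
    (h : W ≤ U) : IsRetrocompact (Set.range (Set.inclusion (SetLike.coe_subset_coe.2 h))) := by
  haveI : IsAffine U := hU
  haveI : IsAffine W := hW
  haveI : QuasiSeparatedSpace (U : Set X) := inferInstanceAs (QuasiSeparatedSpace U.toScheme)
  haveI : CompactSpace (U : Set X) := inferInstanceAs (CompactSpace U.toScheme)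
  haveI : CompactSpace (W : Set X) := inferInstanceAs (CompactSpace W.toScheme)
  refine (QuasiSeparatedSpace.isRetrocompact_iff_isCompact ?_).2 (isCompact_range (continuous_inclusion _))
  rw [Set.range_inclusion]
  exact W.2.preimage continuous_subtype_val

/-- Preimage of a constructible subset of an affine open in a smaller affine open. -/
theorem isConstructible_preimage_inter (f : X ⟶ Y) {U W : X.Opens} {V : Y.Opens}
    (hU : IsAffineOpen U) (hW : IsAffineOpen W) (hV : IsAffineOpen V) (hWU : W ≤ U)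
    (hWV : W ≤ f ⁻¹ᵁ V) (R : Set Y) (hR : IsConstructible ((Subtype.val : ↥(V : Set Y) → Y) ⁻¹' R)) :
    IsConstructible ((Subtype.val : ↥(U : Set X) → X) ⁻¹' (↑W ∩ f ⁻¹' R)) := by
  haveI : IsAffine W := hW
  haveI : IsAffine V := hV
  let φ : W.toScheme ⟶ V.toScheme := f.resLE V W hWV
  haveI : QuasiSeparatedSpace (W : Set X) := inferInstanceAs (QuasiSeparatedSpace W.toScheme)
  haveI : CompactSpace (W : Set X) := inferInstanceAs (CompactSpace W.toScheme)
  haveI : CompactSpace (V : Set Y) := inferInstanceAs (CompactSpace V.toScheme)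
  let ψ : ↥(W : Set X) → ↥(V : Set Y) := fun x => ⟨f x.1, hWV x.2⟩
  have hψ : ψ = φ := funext fun x => Subtype.ext
    (congrArg (fun k : W.toScheme ⟶ Y => k x) (f.resLE_comp_ι hWV)).symm
  have hc : Continuous ψ := (f.continuous.comp continuous_subtype_val).subtype_mk _
  have h1 : IsConstructible (ψ ⁻¹' (Subtype.val ⁻¹' R)) := by
    refine hR.preimage hc fun s hso hsc => ?_
    refine (QuasiSeparatedSpace.isRetrocompact_iff_isCompact (hso.preimage hc)).2 ?_
    rw [hψ]
    have hs : IsCompact s := by simpa using hsc isCompact_univ isOpen_univ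
    exact φ.isCompact_preimage (U := ⟨s, hso⟩) hs
  have h2 := h1.image_of_isOpenEmbedding (IsOpenEmbedding.inclusion (SetLike.coe_subset_coe.2 hWU)
    (W.2.preimage continuous_subtype_val)) (isRetrocompact_range_inclusion hU hW hWU)
  convert h2 using 1
  ext x
  constructor
  · rintro ⟨hx, hx'⟩
    exact ⟨⟨x.1, hx⟩, hx', rfl⟩
  · rintro ⟨y, hy, rfl⟩
    exact ⟨y.2, hy⟩

/-- Inverse images of constructible sheaves are constructible. -/
theorem isConstructible_pull (f : X ⟶ Y) {G : EtModW.Mod Λ Y} (hG : EtModW.IsConstructible Λ G) :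
    EtModW.IsConstructible Λ ((EtModW.pull Λ f).obj G) := by
  classical
  intro U hU
  have hex : ∀ x : U, ∃ (V : Y.Opens) (W : X.Opens),
      IsAffineOpen V ∧ IsAffineOpen W ∧ x.1 ∈ W ∧ W ≤ U ∧ W ≤ f ⁻¹ᵁ V := by
    intro x
    obtain ⟨V, hV, hxV, -⟩ := exists_isAffineOpen_mem_and_subset (show f x.1 ∈ (⊤ : Y.Opens) from trivial)
    obtain ⟨W, hW, hxW, hWle⟩ := exists_isAffineOpen_mem_and_subset
      (show x.1 ∈ U ⊓ f ⁻¹ᵁ V from ⟨x.2, hxV⟩)
    exact ⟨V, W, hV, hW, hxW, fun y hy => (hWle hy).1, fun y hy => (hWle hy).2⟩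
  choose V W hV hW hxW hWU hWV using hex
  obtain ⟨s, hs⟩ := hU.isCompact.elim_finite_subcover (fun x : U => (W x : Set X))
    (fun x => (W x).2) (fun x hx => Set.mem_iUnion.2 ⟨⟨x, hx⟩, hxW ⟨x, hx⟩⟩)
  choose n T g hg hc hd hu hF using fun x : s => hG (V x.1) (hV x.1)
  let e := s.equivFin
  let prev : Fin s.card → Set X := fun j => ⋃ l, ⋃ (_ : l < j), (W (e.symm l).1 : Set X)
  let Z : ∀ j : Fin s.card, TopologicalSpace.Closeds (W (e.symm j).1).toScheme := fun j =>
    ⟨(Subtype.val ⁻¹' prev j)ᶜ, (isOpen_iUnion fun l => isOpen_iUnion fun _ => (W _).2).preimage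
      continuous_subtype_val |>.isClosed_compl⟩
  let a : ∀ j : Fin s.card, (Scheme.IdealSheafData.vanishingIdeal (Z j)).subscheme ⟶ X := fun j =>
    (Scheme.IdealSheafData.vanishingIdeal (Z j)).subschemeι ≫ (W (e.symm j).1).ι
  have ha : ∀ j, Set.range (a j) = (W (e.symm j).1 : Set X) \ prev j := fun j => by
    rw [show ⇑(a j) = (W (e.symm j).1).ι ∘ (Scheme.IdealSheafData.vanishingIdeal (Z j)).subschemeι
      from funext fun _ => Scheme.Hom.comp_apply _ _ _, Set.range_comp,
      Scheme.IdealSheafData.range_subschemeι, Scheme.IdealSheafData.coe_support_vanishingIdeal]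
    ext x
    constructor
    · rintro ⟨y, hy, rfl⟩
      exact ⟨y.2, hy⟩
    · rintro ⟨hx, hx'⟩
      exact ⟨⟨x, hx⟩, hx', rfl⟩
  let T' : (Σ j : Fin s.card, Fin (n (e.symm j))) → Scheme.{u} := fun k =>
    pullback (a k.1 ≫ f) (g (e.symm k.1) k.2)
  let g' : ∀ k, T' k ⟶ X := fun k => pullback.fst (a k.1 ≫ f) (g (e.symm k.1) k.2) ≫ a k.1
  have hr : ∀ k, Set.range (g' k) = ((W (e.symm k.1).1 : Set X) \ prev k.1) ∩
      f ⁻¹' Set.range (g (e.symm k.1) k.2) := fun k => by
    rw [show ⇑(g' k) = a k.1 ∘ pullback.fst (a k.1 ≫ f) (g (e.symm k.1) k.2)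
      from funext fun _ => Scheme.Hom.comp_apply _ _ _, Set.range_comp,
      Scheme.Pullback.range_fst,
      show ⇑(a k.1 ≫ f) = f ∘ a k.1 from funext fun _ => Scheme.Hom.comp_apply _ _ _,
      Set.preimage_comp, Set.image_preimage_eq_inter_range, ha, Set.inter_comm]
  refine adaptedStrata_of_fintype T' g' (fun k => ?_) (fun k => ?_) ?_ ?_ (fun k => ?_)
  · haveI := hg (e.symm k.1) k.2
    infer_instance
  · rw [hr, Set.inter_comm, ← Set.inter_sdiff_assoc, Set.preimage_sdiff, Set.inter_comm]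
    refine IsConstructible.sdiff (isConstructible_preimage_inter f hU (hW _) (hV _) (hWU _) (hWV _) _
      (hc (e.symm k.1) k.2)) ?_
    simp only [prev, Set.preimage_iUnion]
    refine IsConstructible.iUnion fun l => IsConstructible.iUnion fun _ => ?_
    haveI : QuasiSeparatedSpace (U : Set X) :=
      haveI : IsAffine U := hU
      inferInstanceAs (QuasiSeparatedSpace U.toScheme)
    have h := isRetrocompact_range_inclusion hU (hW (e.symm l).1) (hWU (e.symm l).1)
    rw [Set.range_inclusion] at h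
    exact h.isConstructible ((W (e.symm l).1).2.preimage continuous_subtype_val)
  · rintro ⟨j, i⟩ ⟨l, m⟩ hne
    rw [Set.disjoint_left, hr, hr]
    rintro x ⟨⟨hxj, hxp⟩, hxi⟩ ⟨⟨hxl, hxq⟩, hxm⟩
    rcases lt_trichotomy j l with h | h | h
    · exact hxq (Set.mem_iUnion₂.2 ⟨j, h, hxj⟩)
    · subst h
      exact Set.disjoint_left.1 (hd (e.symm j) (i := i) (j := m) (fun h => hne (by rw [h]))) hxi hxm
    · exact hxp (Set.mem_iUnion₂.2 ⟨l, h, hxl⟩)
  · refine Set.Subset.antisymm (Set.iUnion_subset fun k => ?_) fun x hx => ?_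
    · rw [hr]
      exact fun x hx => hWU _ hx.1.1
    · obtain ⟨p, hp, hxp⟩ := Set.mem_iUnion₂.1 (hs hx)
      have hne : (Finset.univ.filter fun j => x ∈ W (e.symm j).1).Nonempty :=
        ⟨e ⟨p, hp⟩, by simpa using hxp⟩
      obtain ⟨j, hj, hmin⟩ := Finset.exists_min_image _ id hne
      simp only [Finset.mem_filter, Finset.mem_univ, true_and, id] at hj hmin
      have hxprev : x ∉ prev j := fun h => by
        obtain ⟨l, hl, hxl⟩ := Set.mem_iUnion₂.1 h
        exact absurd (hmin l hxl) (not_le.2 hl)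
      have : f x ∈ ⋃ i, Set.range (g (e.symm j) i) := by
        rw [hu]
        exact hWV _ hj
      obtain ⟨i, hi⟩ := Set.mem_iUnion.1 this
      exact Set.mem_iUnion.2 ⟨⟨j, i⟩, by rw [hr]; exact ⟨⟨hj, hxprev⟩, hi⟩⟩
  · have h := isFTLocConst_pull_comp (g (e.symm k.1) k.2)
      (pullback.snd (a k.1 ≫ f) (g (e.symm k.1) k.2)) (hF (e.symm k.1) k.2)
    refine isFTLocConst_of_iso ?_ h
    exact (pullCongr ((pullback.condition.symm).trans (Category.assoc _ _ _).symm)).app G ≪≫
      ((pullComp f (g' k)).app G).symm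

/-- Constructibility is invariant under isomorphisms. -/
theorem isConstructible_of_iso {F G : EtModW.Mod Λ X} (e : F ≅ G) (hF : EtModW.IsConstructible Λ F) :
    EtModW.IsConstructible Λ G := by
  intro U hU
  obtain ⟨n, T, g, h1, h2, h3, h4, h5⟩ := hF U hU
  exact ⟨n, T, g, h1, h2, h3, h4, fun i => isFTLocConst_of_iso ((EtModW.pull Λ (g i)).mapIso e) (h5 i)⟩

/-- Stalks of constructible sheaves are finite. -/
theorem finite_stalk_of_isConstructible {F : EtModW.Mod Λ X} (hF : EtModW.IsConstructible Λ F)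
    {Ω : Type u} [Field Ω] [IsSepClosed Ω] (ξ : Spec (CommRingCat.of Ω) ⟶ X) :
    Module.Finite Λ ↑((EtModW.stalk Λ ξ).obj F) := by
  obtain ⟨U, hU, hxU, -⟩ := exists_isAffineOpen_mem_and_subset
    (show ξ default ∈ (⊤ : X.Opens) from trivial)
  obtain ⟨n, T, g, h1, -, -, h4, h5⟩ := hF U hU
  obtain ⟨i, t, ht⟩ := Set.mem_iUnion.1 ((congrArg (ξ default ∈ ·) h4).mpr hxU)
  haveI := h1 i
  obtain ⟨η, hη⟩ := exists_lift_of_isImmersion (g i) ξ t ht
  subst hη
  haveI : Module.Finite Λ ↑((EtModW.pull Λ (g i) ⋙ EtModW.stalk Λ η).obj F) := finite_stalk (h5 i) η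
  exact Module.Finite.equiv (((stalkPullIso (Λ := Λ) (g i) η).app F).toLinearEquiv)

end Groth.Agent.EtModWLib
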