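import Groth.Agent.EtModWLib.ConsSys

/-!
# Adicity up to translation is detected by jointly conservative exact pullbacks
-/

universe u

open CategoryTheory CategoryTheory.Limits AlgebraicGeometry Opposite ARSys

namespace Groth.Agent.EtModWLib

open Groth.Agent Groth.Agent.ARLib

variable {Λ : Type (u + 1)} [CommRing Λ] {X : Scheme.{u}}

/-- A jointly surjective family detects zero morphisms. -/
theorem eq_zero_of_pull {ι : Type*} {T : ι → Scheme.{u}} (g : ∀ i, T i ⟶ X)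
    (hlift : ∀ (Ω : Type u) [Field Ω] [IsSepClosed Ω] (ξ : Spec (CommRingCat.of Ω) ⟶ X),
      ∃ i η, η ≫ g i = ξ)
    {F G : EtModW.Mod Λ X} (a : F ⟶ G) (h : ∀ i, (EtModW.pull Λ (g i)).map a = 0) : a = 0 := by
  refine hom_ext_of_stalk fun Ω _ _ ξ => ?_
  obtain ⟨i, η, rfl⟩ := hlift Ω ξ
  have e := (stalkPullIso (Λ := Λ) (g i) η).hom.naturality a
  have e' : (EtModW.pull Λ (g i) ⋙ EtModW.stalk Λ η).map a = 0 := by
    show (EtModW.stalk Λ η).map ((EtModW.pull Λ (g i)).map a) = 0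
    rw [h, Functor.map_zero]
  rw [e', zero_comp] at e
  rw [Functor.map_zero, ← cancel_epi ((stalkPullIso (Λ := Λ) (g i) η).hom.app F), comp_zero]
  exact e.symm

/-- Pullbacks of systems adic up to translation. -/
theorem arAdicCons_pull [IsNoetherianRing Λ] {T : Scheme.{u}} (g : T ⟶ X) {I : Ideal Λ}
    {F : ARSys.PS (EtModW.Mod Λ X)}
    (h : TermKilled I F ∧ ∃ (Y : ARSys.PS (EtModW.Mod Λ X)) (v : Y ⟶ F), IsAdic I Y ∧
      (∀ n : ℕ, EtModW.IsConstructible Λ (Y.obj (op n))) ∧ IsARIso v) :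
    TermKilled I (F ⋙ EtModW.pull Λ g) ∧ ∃ (Y : ARSys.PS (EtModW.Mod Λ T))
      (v : Y ⟶ (F ⋙ EtModW.pull Λ g)), IsAdic I Y ∧
      (∀ n : ℕ, EtModW.IsConstructible Λ (Y.obj (op n))) ∧ IsARIso v := by
  obtain ⟨hk, Y, v, hY, hYc, hv⟩ := h
  exact ⟨termKilled_map _ hk, Y ⋙ EtModW.pull Λ g, Functor.whiskerRight v _,
    isAdic_map _ hY, fun n => isConstructible_pull g (hYc n), isARIso_map _ hv⟩

variable [IsNoetherianRing Λ]

/-- Adicity up to translation is detected on a finite jointly surjective family. -/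
theorem arAdicCons_of_pull {ι : Type*} [Finite ι] {T : ι → Scheme.{u}} (g : ∀ i, T i ⟶ X)
    (hlift : ∀ (Ω : Type u) [Field Ω] [IsSepClosed Ω] (ξ : Spec (CommRingCat.of Ω) ⟶ X),
      ∃ i η, η ≫ g i = ξ)
    {I : Ideal Λ} {F : ARSys.PS (EtModW.Mod Λ X)}
    (hc : ∀ n : ℕ, EtModW.IsConstructible Λ (F.obj (op n))) (hk : TermKilled I F)
    (h : ∀ i, IsARAdic I (F ⋙ EtModW.pull Λ (g i))) :
    TermKilled I F ∧ ∃ (Y : ARSys.PS (EtModW.Mod Λ X)) (v : Y ⟶ F), IsAdic I Y ∧
      (∀ n : ℕ, EtModW.IsConstructible Λ (Y.obj (op n))) ∧ IsARIso v := by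
  have hI : I.FG := IsNoetherian.noetherian I
  choose r hr using fun i => (mlar_iff _).1 (mlar_of_arAdic (h i))
  obtain ⟨R, hR⟩ := Finite.exists_le r
  have hml : MLBound F R := by
    intro n s hs Z ψ hψ
    refine eq_zero_of_pull g hlift _ fun i => ?_
    have h1 : sm (F ⋙ EtModW.pull Λ (g i)) s n ≫ (EtModW.pull Λ (g i)).map ψ = 0 :=
      (((EtModW.pull Λ (g i)).map_comp _ _).symm.trans (congrArg _ hψ)).trans (Functor.map_zero _ _ _)
    have h2 := hr i n s ((hR i).trans hs) _ h1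
    rw [Functor.map_comp]
    show sm (F ⋙ EtModW.pull Λ (g i)) R n ≫ _ = 0
    rw [← tr_from_le (F ⋙ EtModW.pull Λ (g i)) (hR i), Category.assoc, h2, comp_zero]
  let W := imgSys F R
  have hWs : IsStrict W := imgSys_strict hml
  have hWu : IsARIso (imgIncl F R) := isARIso_of_bounds (imgIncl_bounds F R).1 (imgIncl_bounds F R).2
  have hWk : TermKilled I W := termKilled_of_mono (imgIncl F R) hk
  have hWi : ∀ i, ∃ s, ARCond I (W ⋙ EtModW.pull Λ (g i)) s := fun i => by
    refine arCond_of_arAdic (fun n m hnm => ?_) ?_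
    · have := hWs n m hnm
      exact inferInstanceAs (Epi ((EtModW.pull Λ (g i)).map (tr W hnm)))
    · exact arAdic_of_tgt _ (isARIso_map (EtModW.pull Λ (g i)) hWu) (termKilled_map _ hWk) (h i)
  choose s hs using hWi
  obtain ⟨S, hS⟩ := Finite.exists_le s
  have hcond : ARCond I W S := by
    intro k Z φ hφ V x hx
    refine eq_zero_of_pull g hlift _ fun i => ?_
    rw [Functor.map_comp]
    refine (hs i).mono (hS i) k _ (fun a ha => ?_) _ ?_
    · rw [← Functor.map_smul, hφ a ha, Functor.map_zero]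
    · exact ((EtModW.pull Λ (g i)).map_comp _ _).symm.trans ((congrArg _ hx).trans (Functor.map_zero _ _ _))
  obtain ⟨-, Y, v, hY, hv⟩ := arAdic_of_arCond (Or.inl hI) hWs hWk hcond
  have huv := isARIso_comp hv hWu
  exact ⟨hk, Y, v ≫ imgIncl F R, hY, fun n => isConstructible_of_arIso hY huv hc n, huv⟩

end Groth.Agent.EtModWLib
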