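import Groth.Agent.EtModWLib.Detect
import Groth.Agent.EtModWLib.Special

/-!
# Adicity up to translation of systems of locally constant sheaves is detected at one point
-/

universe w v u

open CategoryTheory CategoryTheory.Limits AlgebraicGeometry Opposite ARSys

namespace Groth.Agent.EtModWLib

open Groth.Agent Groth.Agent.ARLib

section

variable {A : Type w} [CommRing A] {C : Type u} [Category.{v} C] [Abelian C] [Linear A C]

theorem mlBound_of_iso {Y Z : PS C} (e : Y ≅ Z) {r : ℕ} (h : MLBound Y r) : MLBound Z r := by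
  intro n s hs T ψ hψ
  have h1 : sm Y s n ≫ e.hom.app (op n) ≫ ψ = 0 := by
    rw [sm, tr_nat_assoc]
    exact (congrArg _ hψ).trans comp_zero
  have h2 := h n s hs _ h1
  rw [sm, tr_nat_assoc] at h2
  rw [← cancel_epi (e.hom.app (op (n + r))), comp_zero]
  exact h2

theorem arCond_of_iso {J : Ideal A} {Y Z : PS C} (e : Y ≅ Z) {r : ℕ} (h : ARCond J Y r) :
    ARCond J Z r := by
  intro k W φ hφ T x hx
  have hx' : (x ≫ e.inv.app (op (k + 1))) ≫ tr Y (Nat.le_succ k) = 0 := by
    rw [Category.assoc, ← tr_nat, ← Category.assoc, hx, zero_comp]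
  have h2 := h k (e.hom.app (op (k + 1)) ≫ φ) (hom_killed_precomp _ hφ) _ hx'
  rwa [Category.assoc, Iso.inv_hom_id_app_assoc] at h2

end

variable {Λ : Type (u + 1)} [CommRing Λ] [IsNoetherianRing Λ] {X : Scheme.{u}} [IsNoetherian X]
  [ConnectedSpace ↥X]

/-- A system of locally constant sheaves on a connected scheme is adic up to translation if one of
its stalk systems is. -/
theorem arAdicCons_of_stalk {I : Ideal Λ} {F : ARSys.PS (EtModW.Mod Λ X)}
    (hc : ∀ n : ℕ, EtModW.IsConstructible Λ (F.obj (op n)))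
    (hl : ∀ n : ℕ, EtModW.IsFTLocConst Λ (F.obj (op n))) (hk : TermKilled I F)
    {Ω : Type u} [Field Ω] [IsSepClosed Ω] (s : Spec (CommRingCat.of Ω) ⟶ X)
    (h : IsARAdic I (F ⋙ EtModW.stalk Λ s)) :
    TermKilled I F ∧ ∃ (Y : ARSys.PS (EtModW.Mod Λ X)) (v : Y ⟶ F), IsAdic I Y ∧
      (∀ n : ℕ, EtModW.IsConstructible Λ (Y.obj (op n))) ∧ IsARIso v := by
  have hI : I.FG := IsNoetherian.noetherian I
  obtain ⟨R, hR⟩ := (mlar_iff _).1 (mlar_of_arAdic h)
  have hml : MLBound F R := by
    intro n t ht Z ψ hψ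
    refine hom_ext_of_stalk fun Ω' _ _ ξ => ?_
    obtain ⟨e⟩ := nonempty_iso_stalkSystems s hl ξ
    have h1 : sm (F ⋙ EtModW.stalk Λ ξ) t n ≫ (EtModW.stalk Λ ξ).map ψ = 0 :=
      (((EtModW.stalk Λ ξ).map_comp _ _).symm.trans (congrArg _ hψ)).trans (Functor.map_zero _ _ _)
    rw [Functor.map_comp, Functor.map_zero]
    exact mlBound_of_iso e hR n t ht _ h1
  let W := imgSys F R
  have hWs : IsStrict W := imgSys_strict hml
  have hWu : IsARIso (imgIncl F R) := isARIso_of_bounds (imgIncl_bounds F R).1 (imgIncl_bounds F R).2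
  have hWk : TermKilled I W := termKilled_of_mono (imgIncl F R) hk
  have hWl : ∀ n : ℕ, EtModW.IsFTLocConst Λ (W.obj (op n)) := fun n => by
    haveI : Mono ((imgIncl F R).app (op n)) := mono_app (imgIncl F R) n
    haveI : StrongEpi (imgP F R n) := strongEpi_of_epi _
    exact isFTLocConst_of_iso
      ((Abelian.imageIsoImage (sm F R n)) ≪≫ (image.isoStrongEpiMono _ _ (imgProj_incl F R n)).symm)
      (isFTLocConst_kernel _ (hl n) (isFTLocConst_cokernel (sm F R n) (hl (n + R)) (hl n)))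
  obtain ⟨S, hS⟩ := arCond_of_arAdic (fun n m hnm => by
    have := hWs n m hnm
    exact inferInstanceAs (Epi ((EtModW.stalk Λ s).map (tr W hnm))))
    (arAdic_of_tgt _ (isARIso_map (EtModW.stalk Λ s) hWu) (termKilled_map _ hWk) h)
  have hcond : ARCond I W S := by
    intro k Z φ hφ V x hx
    refine hom_ext_of_stalk fun Ω' _ _ ξ => ?_
    obtain ⟨e⟩ := nonempty_iso_stalkSystems s hWl ξ
    rw [Functor.map_comp, Functor.map_zero]
    refine arCond_of_iso e hS k _ (fun a ha => ?_) _ ?_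
    · rw [← Functor.map_smul, hφ a ha, Functor.map_zero]
    · exact ((EtModW.stalk Λ ξ).map_comp _ _).symm.trans ((congrArg _ hx).trans (Functor.map_zero _ _ _))
  obtain ⟨-, Y, v, hY, hv⟩ := arAdic_of_arCond (Or.inl hI) hWs hWk hcond
  have huv := isARIso_comp hv hWu
  exact ⟨hk, Y, v ≫ imgIncl F R, hY, fun n => isConstructible_of_arIso hY huv hc n, huv⟩

end Groth.Agent.EtModWLib
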