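import Groth.Agent.EtModWLib.PullPBc
import Groth.Agent.EtModWLib.ClosedOpenMod
import Groth.Agent.EtaleSite.OpenImm
import Groth.Agent.ProEtS.WC
import Groth.Prelude.Def_SixF2
import Mathlib.RingTheory.Spectrum.Prime.ConstructibleSet
import Mathlib.AlgebraicGeometry.Morphisms.Immersion

/-!
# Dévissage of pullbacks from the étale site along constructible stratifications
-/

set_option autoImplicit false
set_option linter.style.haveILetI false
set_option backward.isDefEq.respectTransparency.types false

universe u

open CategoryTheory CategoryTheory.Limits AlgebraicGeometry Opposite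

noncomputable section

namespace Groth.Agent.EtModWLib.Devissage

open Groth.Agent Groth.Agent.EtModWLib Groth.Agent.EtModWLib.PullPBc

attribute [local instance] Groth.Agent.ProEtS.Site.pCont Groth.Agent.ProEtS.Site.epsCont

variable {Λ : Type (u + 1)} [CommRing Λ] {X : Scheme.{u}}

theorem isZero_of_isEmpty [IsEmpty X] (F : EtModW.ModP Λ X) : IsZero F := by
  refine (IsZero.iff_id_eq_zero F).2 ?_
  apply Sheaf.hom_ext
  ext V x
  haveI : IsEmpty V.unop.left := ⟨fun v => IsEmpty.false (α := X) (V.unop.hom v)⟩
  haveI : Subsingleton (F.obj.obj V) := ProEtS.WC.subsingleton_of_isEmpty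
    ((sheafCompose (Scheme.ProEt.topology X) (forget AddCommGrpCat.{u + 1})).obj ((toAbP Λ X).obj F)) V.unop
  exact Subsingleton.elim _ _

theorem essImage_of_isEmpty [IsEmpty X] (F : EtModW.ModP Λ X) :
    (EtModW.epsPullMod Λ X).essImage F := by
  haveI : (EtModW.epsPullMod Λ X).Additive := epsAdjMod.left_adjoint_additive
  exact ⟨_, ⟨((EtModW.epsPullMod Λ X).map_isZero (HasZeroObject.zero (C := EtModW.Mod Λ X)).choose_spec).iso (isZero_of_isEmpty F)⟩⟩

/-- Pullbacks from the étale site glue from an open and its closed complement. -/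
theorem essImage_of_closed_open {U Z : Scheme.{u}} (i : Z ⟶ X) (j : U ⟶ X) [IsClosedImmersion i]
    [IsOpenImmersion j] [QuasiCompact j] (hc : Set.range j = (Set.range i)ᶜ) {F : EtModW.ModP Λ X}
    (hi : (EtModW.epsPullMod Λ Z).essImage ((pullPMod Λ i).obj F))
    (hj : (EtModW.epsPullMod Λ U).essImage ((pullPMod Λ j).obj F)) :
    (EtModW.epsPullMod Λ X).essImage F := by
  haveI hje : Etale j := inferInstance
  haveI : WeaklyEtale j := inferInstance
  haveI : _root_.ProEtS.JPCont j := ProEtS.Restr.jpCont j
  haveI : EtShriek.JCont j := EtaleSite.jCont_of_etale j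
  haveI : (MorphismProperty.Over.map (P := EtCoh.etaleMP.{u}) ⊤ (f := j) hje).IsContinuous
      U.smallEtaleTopology X.smallEtaleTopology := EtaleSite.jCont_of_etale j
  haveI : ((MorphismProperty.Over.map (P := EtCoh.etaleMP.{u}) ⊤ (f := j) hje).sheafPushforwardContinuous
      (ModuleCat.{u + 1} Λ) U.smallEtaleTopology X.smallEtaleTopology).IsRightAdjoint :=
    EtSix.isRightAdjoint_restrMod Λ j
  obtain ⟨S, hS, h₂, h₁, h₃⟩ := ClosedOpenMod.exists_shortExact i j hc F
  let P : ObjectProperty (EtModW.Mod Λ X) := ⊤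
  haveI : P.ContainsZero := ⟨⟨_, (HasZeroObject.zero (C := EtModW.Mod Λ X)).choose_spec, trivial⟩⟩
  haveI : P.IsClosedUnderKernels := ⟨fun _ _ => trivial⟩
  haveI : P.IsClosedUnderCokernels := ⟨fun _ _ => trivial⟩
  haveI : P.IsClosedUnderExtensions := ⟨fun _ _ _ => trivial⟩
  haveI : WSerre.IsWeakSerre P := {}
  haveI := isWeakSerre_image_epsPullMod P
  let Q : ObjectProperty (EtModW.ModP Λ X) :=
    fun G => ∃ E, P E ∧ Nonempty ((EtModW.epsPullMod Λ X).obj E ≅ G)
  have q₁ : Q S.X₁ := by
    obtain ⟨E, ⟨e⟩⟩ := hj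
    obtain ⟨e'⟩ := PullP.nonempty_extZero_epsPullMod (Λ := Λ) j (hje := hje) E
    rw [h₁]
    exact ⟨_, trivial, ⟨e' ≪≫ ((_root_.ProEtS.compP j).sheafPullback (ModuleCat.{u + 1} Λ)
      (Scheme.ProEt.topology U) (Scheme.ProEt.topology X)).mapIso (e ≪≫ ((restrPullIso j).app F).symm)⟩⟩
  have q₃ : Q S.X₃ := by
    obtain ⟨E, ⟨e⟩⟩ := hi
    obtain ⟨e'⟩ := PushP.nonempty_pushPMod_epsPullMod (Λ := Λ) i E
    rw [h₃]
    exact ⟨_, trivial, ⟨e' ≪≫ (PushP.pushPMod i Λ).mapIso e⟩⟩
  obtain ⟨E, -, ⟨e⟩⟩ := Q.prop_X₂_of_shortExact hS q₁ q₃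
  exact ⟨E, ⟨e ≪≫ eqToIso h₂⟩⟩

variable {κ : Type*} (T : κ → Scheme.{u}) (g : ∀ k, T k ⟶ X) [∀ k, IsImmersion (g k)]

/-- Devissage along a stratification by vanishing patterns of finitely many functions. -/
theorem essImage_of_strata (F : EtModW.ModP Λ X)
    (hg : ∀ k, (EtModW.epsPullMod Λ (T k)).essImage ((pullPMod Λ (g k)).obj F)) (n : ℕ) :
    ∀ (B : CommRingCat.{u}) (h : Spec B ⟶ X) (f : Fin n → B),
      (∀ p : Spec B, ∃ k, h p ∈ Set.range (g k)) →
      (∀ p q : PrimeSpectrum B, (∀ m, f m ∈ p.asIdeal ↔ f m ∈ q.asIdeal) →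
        ∀ k, h p ∈ Set.range (g k) → h q ∈ Set.range (g k)) →
      (EtModW.epsPullMod Λ (Spec B)).essImage ((pullPMod Λ h).obj F) := by
  induction n with
  | zero =>
    intro B h f hcov hsame
    -- reduce to the reduced scheme
    let q : B ⟶ CommRingCat.of (B ⧸ nilradical B) := CommRingCat.ofHom (Ideal.Quotient.mk _)
    let i := Spec.map q
    haveI : IsClosedImmersion i := IsClosedImmersion.spec_of_surjective q Ideal.Quotient.mk_surjective
    let a : B ⟶ CommRingCat.of (Localization.Away (0 : B)) := CommRingCat.ofHom (algebraMap B _)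
    let j := Spec.map a
    haveI : IsOpenImmersion j := Scheme.isOpenImmersion_SpecMap_localizationAway (0 : B)
    have hri : Set.range i = Set.univ := by
      refine (range_comap_of_surjective _ q.hom Ideal.Quotient.mk_surjective).trans ?_
      refine Set.eq_univ_of_forall fun p => ?_
      rw [PrimeSpectrum.mem_zeroLocus]
      simp only [q, CommRingCat.hom_ofHom, Ideal.mk_ker]
      exact nilradical_le_prime p.asIdeal
    have hrj : Set.range j = (Set.range i)ᶜ := by
      rw [hri, Set.compl_univ]
      refine (PrimeSpectrum.localization_away_comap_range (Localization.Away (0 : B)) (0 : B)).trans ?_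
      simp; rfl
    have hjE : IsEmpty (Spec (CommRingCat.of (Localization.Away (0 : B)))) := ⟨fun z => by
      have : j z ∈ Set.range j := ⟨z, rfl⟩
      rw [hrj, hri, Set.compl_univ] at this
      exact this⟩
    refine essImage_of_closed_open i j hrj ?_ (essImage_of_isEmpty _)
    refine Functor.essImage.ofIso ((pullCompIso i h).app F) ?_
    let h' := i ≫ h
    cases isEmpty_or_nonempty (Spec (CommRingCat.of (B ⧸ nilradical B))) with
    | inl hE => exact essImage_of_isEmpty _
    | inr hN =>
      obtain ⟨p₀⟩ := hN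
      obtain ⟨k, hk⟩ := hcov (i p₀)
      haveI : _root_.IsReduced (B ⧸ nilradical B) :=
        (Ideal.isRadical_iff_quotient_reduced _).mp (Ideal.radical_isRadical _)
      let fst := pullback.fst h' (g k)
      haveI : Surjective fst := ⟨fun p => by
        have : p ∈ Set.range fst := by
          rw [Scheme.Pullback.range_fst]
          exact hsame (i p₀) (i p) (fun m => m.elim0) k hk
        exact this⟩
      haveI : IsImmersion fst := MorphismProperty.pullback_fst _ _ inferInstance
      haveI : IsClosedImmersion fst := .of_isPreimmersion _ (by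
        rw [Set.range_eq_univ.2 ‹Surjective fst›.surj]; exact isClosed_univ)
      haveI := isIso_of_isClosedImmersion_of_surjective fst
      refine essImage_pullPMod_comp (inv fst ≫ pullback.snd h' (g k)) (g k) ?_ (hg k)
      rw [Category.assoc, ← pullback.condition, IsIso.inv_hom_id_assoc]
  | succ n ih =>
    intro B h f hcov hsame
    let I : Ideal B := Ideal.span {f 0}
    let q : B ⟶ CommRingCat.of (B ⧸ I) := CommRingCat.ofHom (Ideal.Quotient.mk _)
    let i := Spec.map q
    haveI : IsClosedImmersion i := IsClosedImmersion.spec_of_surjective q Ideal.Quotient.mk_surjective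
    let a : B ⟶ CommRingCat.of (Localization.Away (f 0)) := CommRingCat.ofHom (algebraMap B _)
    let j := Spec.map a
    haveI : IsOpenImmersion j := Scheme.isOpenImmersion_SpecMap_localizationAway (f 0)
    have hri : Set.range i = PrimeSpectrum.zeroLocus {f 0} := by
      refine (range_comap_of_surjective _ q.hom Ideal.Quotient.mk_surjective).trans ?_
      simp only [q, CommRingCat.hom_ofHom, Ideal.mk_ker]
      exact PrimeSpectrum.zeroLocus_span _
    have hrj : Set.range j = (Set.range i)ᶜ := by
      rw [hri]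
      refine (PrimeSpectrum.localization_away_comap_range (Localization.Away (f 0)) (f 0)).trans ?_
      exact PrimeSpectrum.basicOpen_eq_zeroLocus_compl _
    refine essImage_of_closed_open i j hrj ?_ ?_
    · refine Functor.essImage.ofIso ((pullCompIso i h).app F) ?_
      refine ih _ (i ≫ h) (fun m => q (f m.succ)) (fun p => hcov (i p)) fun p r hpr => hsame (i p) (i r) ?_
      intro m
      induction m using Fin.cases with
      | zero =>
        have hp : i p ∈ Set.range i := ⟨p, rfl⟩
        have hr : i r ∈ Set.range i := ⟨r, rfl⟩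
        rw [hri] at hp hr
        replace hp := Set.singleton_subset_iff.1 hp
        replace hr := Set.singleton_subset_iff.1 hr
        exact ⟨fun _ => hr, fun _ => hp⟩
      | succ m => exact hpr m
    · refine Functor.essImage.ofIso ((pullCompIso j h).app F) ?_
      refine ih _ (j ≫ h) (fun m => a (f m.succ)) (fun p => hcov (j p)) fun p r hpr => hsame (j p) (j r) ?_
      intro m
      induction m using Fin.cases with
      | zero =>
        have hp : j p ∈ Set.range j := ⟨p, rfl⟩
        have hr : j r ∈ Set.range j := ⟨r, rfl⟩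
        rw [hrj, hri] at hp hr
        replace hp := fun e => hp (Set.singleton_subset_iff.2 e)
        replace hr := fun e => hr (Set.singleton_subset_iff.2 e)
        exact ⟨fun h' => absurd h' hp, fun h' => absurd h' hr⟩
      | succ m => exact hpr m

end Groth.Agent.EtModWLib.Devissage
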