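import Groth.Agent.EtModWLib.Eps
import Groth.Agent.EtModWLib.Forget
import Groth.Agent.ProEtS.ExtLift.Push
import Groth.Agent.ProEtS.ExtLift.Abstract

/-!
# Extensions of pullbacks of sheaves of modules to the pro-étale site
-/

universe u

open CategoryTheory CategoryTheory.Limits AlgebraicGeometry Opposite

namespace Groth.Agent.EtModWLib

variable {Λ : Type (u + 1)} [CommRing Λ] {X : Scheme.{u}}

/-- The abelian sheaf underlying a pro-étale sheaf of modules. -/
noncomputable abbrev toAbP (Λ : Type (u + 1)) [CommRing Λ] (X : Scheme.{u}) :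
    EtModW.ModP Λ X ⥤ _root_.ProEtS.AbP X :=
  sheafCompose (Scheme.ProEt.topology X) (forget₂ (ModuleCat.{u + 1} Λ) AddCommGrpCat.{u + 1})

instance preservesFiniteLimits_toAbP : PreservesFiniteLimits (toAbP Λ X) := by
  have : PreservesFiniteLimits (sheafToPresheaf (Scheme.ProEt.topology X) (ModuleCat.{u + 1} Λ) ⋙
      (Functor.whiskeringRight X.ProEtᵒᵖ (ModuleCat.{u + 1} Λ) AddCommGrpCat.{u + 1}).obj
        (forget₂ (ModuleCat.{u + 1} Λ) AddCommGrpCat.{u + 1})) :=
    comp_preservesFiniteLimits _ _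
  have : PreservesFiniteLimits (toAbP Λ X ⋙ sheafToPresheaf _ _) :=
    preservesFiniteLimits_of_natIso (Iso.refl (sheafToPresheaf (Scheme.ProEt.topology X) (ModuleCat.{u + 1} Λ) ⋙
      (Functor.whiskeringRight X.ProEtᵒᵖ (ModuleCat.{u + 1} Λ) AddCommGrpCat.{u + 1}).obj
        (forget₂ (ModuleCat.{u + 1} Λ) AddCommGrpCat.{u + 1})))
  exact ⟨fun J _ _ => preservesLimitsOfShape_of_reflects_of_preserves (toAbP Λ X)
    (sheafToPresheaf (Scheme.ProEt.topology X) AddCommGrpCat.{u + 1})⟩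

instance additive_toAbP : (toAbP Λ X).Additive where

theorem epi_toAbP_map {F G : EtModW.ModP Λ X} (p : F ⟶ G) [Epi p] : Epi ((toAbP Λ X).map p) := by
  have : Sheaf.IsLocallySurjective p :=
    (Sheaf.isLocallySurjective_iff_epi' (ModuleCat.{u + 1} Λ) p).2 inferInstance
  have : Sheaf.IsLocallySurjective ((toAbP Λ X).map p) :=
    ⟨fun s => Presheaf.imageSieve_mem (Scheme.ProEt.topology X) p.hom s⟩
  exact (Sheaf.isLocallySurjective_iff_epi' AddCommGrpCat.{u + 1} _).1 inferInstance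

variable [_root_.ProEtS.EpsCont X]

/-- The abelian sheaf underlying the pullback of a sheaf of modules. -/
noncomputable def shfIsoToAbP (E : EtModW.Mod Λ X) :
    ProEtS.EpsElem.shf ((toAb Λ X).obj E) ≅ (toAbP Λ X).obj ((EtModW.epsPullMod Λ X).obj E) :=
  let fg := forget₂ (ModuleCat.{u + 1} Λ) AddCommGrpCat.{u + 1}
  (presheafToSheaf (Scheme.ProEt.topology X) AddCommGrpCat.{u + 1}).mapIso
      (fg.leftKanExtensionCompIsoOfPreserves E.obj (_root_.ProEtS.eps X).op).symm ≪≫
    (sheafComposeNatIso (Scheme.ProEt.topology X) fg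
      (sheafificationAdjunction (Scheme.ProEt.topology X) (ModuleCat.{u + 1} Λ))
      (sheafificationAdjunction (Scheme.ProEt.topology X) AddCommGrpCat.{u + 1})).app
        ((_root_.ProEtS.eps X).op.leftKanExtension E.obj) ≪≫
    (toAbP Λ X).mapIso ((Functor.sheafPullbackConstruction.sheafPullbackIso (_root_.ProEtS.eps X)
      (ModuleCat.{u + 1} Λ) X.smallEtaleTopology (Scheme.ProEt.topology X)).app E).symm

theorem epi_epsPushMod_map {S : ShortComplex (EtModW.ModP Λ X)} (hS : S.ShortExact)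
    (hK : (EtModW.epsPullMod Λ X).essImage S.X₁) :
    Epi (((_root_.ProEtS.eps X).sheafPushforwardContinuous (ModuleCat.{u + 1} Λ) X.smallEtaleTopology
      (Scheme.ProEt.topology X)).map S.g) := by
  obtain ⟨E, ⟨e₀⟩⟩ := hK
  have := hS.mono_f
  have := hS.epi_g
  have hm : Mono (S.map (toAbP Λ X)).f := (toAbP Λ X).map_mono S.f
  have he : Epi (S.map (toAbP Λ X)).g := epi_toAbP_map S.g
  have hex := hS.exact.map_of_mono_of_preservesKernel (toAbP Λ X) (inferInstance : Mono S.f) inferInstance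
  let e := shfIsoToAbP E ≪≫ (toAbP Λ X).mapIso e₀
  have : Sheaf.IsLocallySurjective (((_root_.ProEtS.eps X).sheafPushforwardContinuous (ModuleCat.{u + 1} Λ)
      X.smallEtaleTopology (Scheme.ProEt.topology X)).map S.g) :=
    ⟨fun b => @ProEtS.ExtLift.imageSieve_mem _ _ _ _ _ e (S.map (toAbP Λ X)).f (S.map (toAbP Λ X)).g
      (S.map (toAbP Λ X)).zero hex hm he _ b⟩
  exact (Sheaf.isLocallySurjective_iff_epi' (ModuleCat.{u + 1} Λ) _).1 inferInstance

theorem isWeakSerre_image_epsPullMod (P : ObjectProperty (EtModW.Mod Λ X)) [WSerre.IsWeakSerre P] :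
    WSerre.IsWeakSerre (fun F : EtModW.ModP Λ X =>
      ∃ E, P E ∧ Nonempty ((EtModW.epsPullMod Λ X).obj E ≅ F)) :=
  ProEtS.ExtLift.isWeakSerre_image epsAdjMod P fun _ hS hK => epi_epsPushMod_map hS hK

end Groth.Agent.EtModWLib
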