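import Groth.Agent.EtModWLib.Eps
import Groth.Agent.EtModWLib.Comp
import Groth.Agent.ARLib.Quot

/-!
# `ε⁻¹` commutes with inverse images; systems in its essential image
-/

universe u

open CategoryTheory CategoryTheory.Limits AlgebraicGeometry Opposite ARSys

namespace Groth.Agent.EtModWLib

open Groth.Agent Groth.Agent.ARLib

variable {Λ : Type (u + 1)} [CommRing Λ] {X T : Scheme.{u}} (g : T ⟶ X)

set_option backward.isDefEq.respectTransparency.types false in
/-- Base change commutes with the inclusion of the etale into the pro-etale site. -/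
noncomputable def bcEpsIso :
    _root_.ProEtS.eps X ⋙ _root_.ProEtS.bcP g ≅ EtCoh.bc g ⋙ _root_.ProEtS.eps T :=
  NatIso.ofComponents (fun V => Iso.refl _) fun f => by
    apply MorphismProperty.Over.Hom.ext
    refine (Category.comp_id _).trans ((Category.id_comp _).trans ?_).symm
    rfl

variable [_root_.ProEtS.EpsCont X] [_root_.ProEtS.EpsCont T] [_root_.ProEtS.PCont g]

instance isContinuous_bc_eps : (EtCoh.bc g ⋙ _root_.ProEtS.eps T).IsContinuous X.smallEtaleTopology
    (Scheme.ProEt.topology T) :=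
  Functor.isContinuous_comp _ _ _ T.smallEtaleTopology _

/-- The inverse image along `g` on pro-etale sheaves of modules. -/
noncomputable abbrev pullPMod : EtModW.ModP Λ X ⥤ EtModW.ModP Λ T :=
  (_root_.ProEtS.bcP g).sheafPullback (ModuleCat.{u + 1} Λ) (Scheme.ProEt.topology X) (Scheme.ProEt.topology T)

/-- `g⁻¹` commutes with `ε⁻¹`. -/
noncomputable def epsPullCommIso :
    EtModW.epsPullMod Λ X ⋙ pullPMod g ≅ EtModW.pull Λ g ⋙ EtModW.epsPullMod Λ T :=
  Adjunction.leftAdjointUniq
    ((epsAdjMod.comp ((_root_.ProEtS.bcP g).sheafAdjunctionContinuous (ModuleCat.{u + 1} Λ)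
        (Scheme.ProEt.topology X) (Scheme.ProEt.topology T))).ofNatIsoRight
      (Functor.sheafPushforwardContinuousComp' (F := _root_.ProEtS.eps X) (G := _root_.ProEtS.bcP g)
        (FG := EtCoh.bc g ⋙ _root_.ProEtS.eps T) (bcEpsIso g) (ModuleCat.{u + 1} Λ)
        X.smallEtaleTopology (Scheme.ProEt.topology X) (Scheme.ProEt.topology T)))
    (((pullPushAdj g).comp epsAdjMod).ofNatIsoRight
      (Functor.sheafPushforwardContinuousComp' (F := EtCoh.bc g) (G := _root_.ProEtS.eps T)
        (FG := EtCoh.bc g ⋙ _root_.ProEtS.eps T) (Iso.refl _) (ModuleCat.{u + 1} Λ)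
        X.smallEtaleTopology T.smallEtaleTopology (Scheme.ProEt.topology T)))

/-- A fully faithful exact linear functor reflects quotients. -/
theorem isQuot_of_map {I : Ideal Λ} {E E' : EtModW.Mod Λ X} {f : E ⟶ E'}
    (h : IsQuot I ((EtModW.epsPullMod Λ X).map f)) : IsQuot I f := by
  refine ⟨fun a ha => (EtModW.epsPullMod Λ X).map_injective ?_, fun Y φ hφ => ?_⟩
  · rw [Functor.map_smul, CategoryTheory.Functor.map_id, h.1 a ha, Functor.map_zero]
  · obtain ⟨ψ, hψ, hu⟩ := h.2 _ ((EtModW.epsPullMod Λ X).map φ) fun a ha => by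
      rw [← Functor.map_smul, hφ a ha, Functor.map_zero]
    refine ⟨(EtModW.epsPullMod Λ X).preimage ψ, (EtModW.epsPullMod Λ X).map_injective ?_, fun χ hχ => ?_⟩
    · rw [Functor.map_comp, Functor.map_preimage]
      exact hψ
    · refine (EtModW.epsPullMod Λ X).map_injective ?_
      rw [Functor.map_preimage]
      exact hu _ ((Functor.map_comp _ _ _).symm.trans (congrArg _ hχ))

omit g in
/-- The tower of an adic pro-etale sheaf comes from an adic system of etale sheaves. -/
theorem exists_system {I : Ideal Λ} {F : EtModW.ModP Λ X} {Q : ℕᵒᵖ ⥤ EtModW.ModP Λ X}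
    {p : (Functor.const ℕᵒᵖ).obj F ⟶ Q} (hQ : ∀ n : ℕ, IsQuot (I ^ (n + 1)) (p.app (op n)))
    {P : EtModW.Mod Λ X → Prop}
    (hc : ∀ n : ℕ, ∃ E : EtModW.Mod Λ X, P E ∧ Nonempty ((EtModW.epsPullMod Λ X).obj E ≅ Q.obj (op n))) :
    ∃ (G : ARSys.PS (EtModW.Mod Λ X)), IsAdic I G ∧ (∀ n : ℕ, P (G.obj (op n))) ∧
      Nonempty (G ⋙ EtModW.epsPullMod Λ X ≅ Q) := by
  choose E hE e using hc
  let e' := fun n : ℕᵒᵖ => (e n.unop).some
  let L := EtModW.epsPullMod Λ X
  let G : ARSys.PS (EtModW.Mod Λ X) :=
    { obj := fun n => E n.unop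
      map := fun {a b} f => L.preimage ((e' a).hom ≫ Q.map f ≫ (e' b).inv)
      map_id := fun a => L.map_injective (by
        rw [Functor.map_preimage, CategoryTheory.Functor.map_id, CategoryTheory.Functor.map_id,
          Category.id_comp]
        exact (e' a).hom_inv_id)
      map_comp := fun {a b c} f f' => L.map_injective (by
        rw [Functor.map_comp L, Functor.map_preimage, Functor.map_preimage, Functor.map_preimage,
          Functor.map_comp]
        simp only [Category.assoc, Iso.inv_hom_id_assoc]) }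
  let η : G ⋙ L ≅ Q := NatIso.ofComponents (fun n => e' n) fun {a b} f => by
    show L.map (L.preimage _) ≫ _ = _
    rw [Functor.map_preimage, Category.assoc, Category.assoc, Iso.inv_hom_id, Category.comp_id]
  refine ⟨G, ⟨fun n a ha => L.map_injective ?_, fun n m h => isQuot_of_map ?_⟩, fun n => hE n, ⟨η⟩⟩
  · rw [Functor.map_smul, CategoryTheory.Functor.map_id, Functor.map_zero]
    exact killed_iso (η.app (op n)).symm (hQ n).1 a ha
  · haveI := quot_epi (hQ m)
    have hq : IsQuot (I ^ (n + 1)) (tr Q h) := by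
      refine quot_of_epi_comp (p.app (op m)) ?_
      have := p.naturality (homOfLE h).op
      rw [show ((Functor.const ℕᵒᵖ).obj F).map (homOfLE h).op = 𝟙 F from rfl] at this
      exact ((Category.id_comp _).symm.trans this) ▸ hQ n
    show IsQuot (I ^ (n + 1)) (L.map (L.preimage _))
    rw [Functor.map_preimage]
    exact quot_iso_left _ (quot_iso_right hq (e' (op n)).symm)

end Groth.Agent.EtModWLib
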