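import Groth.Agent.EtModWLib.EpsExt
import Groth.Agent.ProEtS.ExtLift.AffSys
import Groth.Agent.ProEtS.SectLim

/-!
# Sheaves of modules from the étale site recognised on limits of affine étale objects
-/

set_option autoImplicit false
set_option linter.style.haveILetI false
set_option backward.isDefEq.respectTransparency.types false

universe u

open CategoryTheory CategoryTheory.Limits AlgebraicGeometry Opposite

noncomputable section

namespace Groth.Agent.EtModWLib.EpsStage

open Groth.Agent Groth.Agent.EtModWLib Groth.Agent.ProEtS.ExtLift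

local notation "ε" => _root_.ProEtS.eps

variable {Λ : Type (u + 1)} [CommRing Λ] {X : Scheme.{u}}

/-- Sections of `R` on limits come uniquely from the stages. -/
def HasStages (R : EtModW.ModP Λ X) : Prop :=
  ∀ S : AffSys X,
    (∀ d : R.obj.obj (op S.c.pt), ∃ (i : S.I) (z : R.obj.obj (op ((ε X).obj (S.Y.obj i)))),
      R.obj.map (S.c.π.app i).op z = d) ∧
    ∀ (i : S.I) (z : R.obj.obj (op ((ε X).obj (S.Y.obj i)))), R.obj.map (S.c.π.app i).op z = 0 →
      ∃ (k : S.I) (a : k ⟶ i), R.obj.map ((ε X).map (S.Y.map a)).op z = 0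

variable [_root_.ProEtS.EpsCont X]

/-- Sections of a pullback from the étale site on limits of qcqs objects. -/
theorem exists_stage (E : EtModW.Mod Λ X) {I : Type u} [SmallCategory I] [IsCofiltered I]
    (D : I ⥤ X.ProEt) [∀ (i j : I) (a : i ⟶ j), IsAffineHom (D.map a).left]
    [∀ i, CompactSpace ↥(D.obj i).left] [∀ i, QuasiSeparatedSpace ↥(D.obj i).left]
    (c : Cone D) (hc : IsLimit ((Scheme.ProEt.forget X ⋙ Over.forget X).mapCone c)) :
    (∀ d : ((EtModW.epsPullMod Λ X).obj E).obj.obj (op c.pt),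
      ∃ (i : I) (z : ((EtModW.epsPullMod Λ X).obj E).obj.obj (op (D.obj i))),
        ((EtModW.epsPullMod Λ X).obj E).obj.map (c.π.app i).op z = d) ∧
    ∀ (i : I) (z : ((EtModW.epsPullMod Λ X).obj E).obj.obj (op (D.obj i))),
      ((EtModW.epsPullMod Λ X).obj E).obj.map (c.π.app i).op z = 0 →
      ∃ (k : I) (a : k ⟶ i), ((EtModW.epsPullMod Λ X).obj E).obj.map (D.map a).op z = 0 := by
  let A := (toAb Λ X).obj E
  let G := (toAbP Λ X).obj ((EtModW.epsPullMod Λ X).obj E)
  let e : ProEtS.EpsElem.shf A ≅ G := shfIsoToAbP E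
  have hb : ∀ V, Function.Bijective (e.hom.hom.app V) := fun V =>
    (ConcreteCategory.isIso_iff_bijective _).1
      (((sheafToPresheaf _ _).mapIso e).app V).isIso_hom
  have hn : ∀ {V W : (X.ProEt)ᵒᵖ} (f : V ⟶ W) (x : (ProEtS.EpsElem.shf A).obj.obj V),
      e.hom.hom.app W ((ProEtS.EpsElem.shf A).obj.map f x) = G.obj.map f (e.hom.hom.app V x) :=
    fun f x => NatTrans.naturality_apply e.hom.hom f x
  refine ⟨fun d => ?_, fun i z hz => ?_⟩
  · obtain ⟨d', hd⟩ := (hb _).2 d
    obtain ⟨i, z, hz⟩ := ProEtS.SectLim.exists_stage A D c hc d'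
    exact ⟨i, e.hom.hom.app _ z, (hn _ z).symm.trans ((congrArg (e.hom.hom.app _) hz).trans hd)⟩
  · obtain ⟨z', hz'⟩ := (hb _).2 z
    obtain ⟨k, a, ha⟩ := ProEtS.SectLim.exists_eq_zero A D c hc z'
      ((hb _).1 ((hn _ z').trans (Eq.trans ((congrArg (G.obj.map (c.π.app i).op) hz').trans hz) (map_zero _).symm)))
    refine ⟨k, a, ?_⟩
    refine (congrArg (G.obj.map (D.map a).op) hz').symm.trans ((hn _ z').symm.trans ?_)
    exact (congrArg (e.hom.hom.app _) ha).trans (map_zero _)

theorem isAffine_stage (S : AffSys X) (i : S.I) : IsAffine ((S.Y ⋙ ε X).obj i).left :=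
  S.isAffine_Y i

theorem hasStages_epsPullMod (E : EtModW.Mod Λ X) : HasStages ((EtModW.epsPullMod Λ X).obj E) :=
  fun S => by
    haveI := isAffine_stage S
    haveI : ∀ i, CompactSpace ↥((S.Y ⋙ ε X).obj i).left := fun i => inferInstance
    haveI : ∀ i, QuasiSeparatedSpace ↥((S.Y ⋙ ε X).obj i).left := fun i => inferInstance
    haveI : ∀ (i j : S.I) (a : i ⟶ j), IsAffineHom ((S.Y ⋙ ε X).map a).left := fun i j a => inferInstance
    exact exists_stage E (S.Y ⋙ ε X) S.c S.isLimit

/-- A sheaf whose sections on limits come from the stages is a pullback from the étale site. -/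
theorem isIso_counit_of_hasStages (R : EtModW.ModP Λ X) (hR : HasStages R) :
    IsIso ((epsAdjMod (Λ := Λ) (X := X)).counit.app R) := by
  let P := ((_root_.ProEtS.eps X).sheafPushforwardContinuous (ModuleCat.{u + 1} Λ) X.smallEtaleTopology
    (Scheme.ProEt.topology X)).obj R
  let θ := (epsAdjMod (Λ := Λ) (X := X)).counit.app R
  let L := (EtModW.epsPullMod Λ X).obj P
  have hY : ∀ U : X.Etale, Function.Bijective (θ.hom.app (op ((ε X).obj U))) := fun U => by
    have htri := (epsAdjMod (Λ := Λ) (X := X)).right_triangle_components R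
    let η := (epsAdjMod (Λ := Λ) (X := X)).unit.app P
    have hη : Function.Bijective (η.hom.app (op U)) := by
      have : IsIso ((sheafToPresheaf _ _ ⋙ (evaluation X.Etaleᵒᵖ (ModuleCat.{u + 1} Λ)).obj (op U)).map η) :=
        inferInstance
      exact ConcreteCategory.bijective_of_isIso (η.hom.app (op U))
    have hid : ∀ y : R.obj.obj (op ((ε X).obj U)), θ.hom.app (op ((ε X).obj U)) (η.hom.app (op U) y) = y :=
      fun y => congrArg (fun k => k.hom.app (op U) y) htri
    refine ⟨fun a b h => ?_, fun y => ⟨_, hid y⟩⟩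
    obtain ⟨a', rfl⟩ := hη.2 a
    obtain ⟨b', rfl⟩ := hη.2 b
    exact congrArg _ ((hid a').symm.trans (h.trans (hid b')))
  have hn : ∀ {V W : X.ProEt} (f : W ⟶ V) (x : L.obj.obj (op V)),
      θ.hom.app (op W) (L.obj.map f.op x) = R.obj.map f.op (θ.hom.app (op V) x) :=
    fun f x => NatTrans.naturality_apply θ.hom f.op x
  have hbij : ∀ S : AffSys X, Function.Bijective (θ.hom.app (op S.c.pt)) := fun S => by
    obtain ⟨hL, hLz⟩ := hasStages_epsPullMod P S
    obtain ⟨hr, hrz⟩ := hR S
    refine ⟨(injective_iff_map_eq_zero _).2 fun x hx => ?_, fun y => ?_⟩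
    · obtain ⟨i, z, rfl⟩ := hL x
      obtain ⟨k, a, ha⟩ := hrz i (θ.hom.app _ z) ((hn _ z).symm.trans hx)
      have h0 : L.obj.map ((ε X).map (S.Y.map a)).op z = 0 :=
        (hY _).1 ((hn _ z).trans (ha.trans (map_zero _).symm))
      refine (congrArg (fun f : S.c.pt ⟶ (ε X).obj (S.Y.obj i) => L.obj.map f.op z) (S.c.w a)).symm.trans ?_
      refine (ProEtS.EpsElem.map_comp_apply ((toAbP Λ X).obj L).obj (S.c.π.app k) ((ε X).map (S.Y.map a)) z).trans ?_
      exact (congrArg (L.obj.map (S.c.π.app k).op) h0).trans (map_zero _)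
    · obtain ⟨i, z, rfl⟩ := hr y
      obtain ⟨z', rfl⟩ := (hY _).2 z
      exact ⟨L.obj.map (S.c.π.app i).op z', hn _ z'⟩
  haveI : Presheaf.IsLocallyInjective (Scheme.ProEt.topology X) θ.hom := ⟨fun {Wop} s t hst => by
    obtain ⟨W⟩ := Wop
    obtain ⟨ι, S, g, hmem⟩ := exists_affSys_cover W
    refine GrothendieckTopology.superset_covering _ ?_ hmem
    rw [Sieve.ofArrows, Sieve.generate_le_iff]
    rintro A f ⟨k⟩
    exact (hbij (S k)).1 ((hn (g k) s).trans ((congrArg _ hst).trans (hn (g k) t).symm))⟩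
  haveI : Presheaf.IsLocallySurjective (Scheme.ProEt.topology X) θ.hom := ⟨fun {W} s => by
    obtain ⟨ι, S, g, hmem⟩ := exists_affSys_cover W
    refine GrothendieckTopology.superset_covering _ ?_ hmem
    rw [Sieve.ofArrows, Sieve.generate_le_iff]
    rintro A f ⟨k⟩
    exact (hbij (S k)).2 _⟩
  exact (Sheaf.isLocallyBijective_iff_isIso θ).1 ⟨‹_›, ‹_›⟩

end Groth.Agent.EtModWLib.EpsStage
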