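import Groth.Agent.EtModWLib.LocalEss
import Groth.Agent.ProEtS.Affine
import Mathlib.AlgebraicGeometry.Limits

/-!
# Being a pullback from the étale site is local for pro-étale covers
-/

set_option autoImplicit false
set_option linter.style.haveILetI false
set_option backward.isDefEq.respectTransparency.types false

universe u

open CategoryTheory CategoryTheory.Limits AlgebraicGeometry Opposite

noncomputable section

namespace Groth.Agent.EtModWLib.EssLocal

open Groth.Agent Groth.Agent.EtModWLib Groth.Agent.EtModWLib.PullPBc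

attribute [local instance] Groth.Agent.ProEtS.Site.pCont Groth.Agent.ProEtS.Site.epsCont

variable {Λ : Type (u + 1)} [CommRing Λ] {X : Scheme.{u}}

theorem essImage_kernel {A B : EtModW.ModP Λ X} (f : A ⟶ B) (hA : (EtModW.epsPullMod Λ X).essImage A)
    (hB : (EtModW.epsPullMod Λ X).essImage B) : (EtModW.epsPullMod Λ X).essImage (kernel f) := by
  obtain ⟨a, ⟨eA⟩⟩ := hA
  obtain ⟨b, ⟨eB⟩⟩ := hB
  obtain ⟨g, hg⟩ := (EtModW.epsPullMod Λ X).map_surjective (eA.hom ≫ f ≫ eB.inv)
  exact ⟨kernel g, ⟨PreservesKernel.iso (EtModW.epsPullMod Λ X) g ≪≫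
    kernel.mapIso _ _ eA eB (by rw [hg]; simp)⟩⟩

theorem essImage_cokernel {A B : EtModW.ModP Λ X} (f : A ⟶ B) (hA : (EtModW.epsPullMod Λ X).essImage A)
    (hB : (EtModW.epsPullMod Λ X).essImage B) : (EtModW.epsPullMod Λ X).essImage (cokernel f) := by
  obtain ⟨a, ⟨eA⟩⟩ := hA
  obtain ⟨b, ⟨eB⟩⟩ := hB
  obtain ⟨g, hg⟩ := (EtModW.epsPullMod Λ X).map_surjective (eA.hom ≫ f ≫ eB.inv)
  exact ⟨cokernel g, ⟨PreservesCokernel.iso (EtModW.epsPullMod Λ X) g ≪≫
    cokernel.mapIso _ _ eA eB (by rw [hg]; simp)⟩⟩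

variable {A : Scheme.{u}} (p : A ⟶ X) [WeaklyEtale p] [_root_.ProEtS.JPCont p]

/-- A quasi-compact surjection is a cover. -/
theorem generate_singleton_mem {U V : X.ProEt} (g : V ⟶ U) [Surjective g.left] [QuasiCompact g.left] :
    Sieve.generate (Presieve.singleton g) ∈ Scheme.ProEt.topology X U := by
  rw [ProEtS.Site.mem_topology_iff]
  refine GrothendieckTopology.superset_covering _ ?_ (Precoverage.generate_mem_toGrothendieck
    (Scheme.Hom.singleton_mem_propQCPrecoverage (P := @WeaklyEtale) (f := g.left) (ProEtS.EpsElem.weaklyEtale_left g)))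
  rintro Z l ⟨_, a, _, ⟨⟩, hl⟩
  exact ⟨V, g, a, ⟨_, 𝟙 _, g, Presieve.singleton.mk, Category.id_comp _⟩, hl⟩

theorem mono_unit [Surjective p] [QuasiCompact p] (F : EtModW.ModP Λ X) :
    Mono (((S0742.compBcAdj p).sheafPushforwardContinuous (E := ModuleCat.{u + 1} Λ)
      (Scheme.ProEt.topology A) (Scheme.ProEt.topology X)).unit.app F) := by
  let θ := ((S0742.compBcAdj p).sheafPushforwardContinuous (E := ModuleCat.{u + 1} Λ)
    (Scheme.ProEt.topology A) (Scheme.ProEt.topology X)).unit.app F
  have : ∀ W, Mono (θ.hom.app W) := fun W => by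
    refine (ModuleCat.mono_iff_injective _).2 ?_
    intro s t hst
    let g := (S0742.compBcAdj p).counit.app W.unop
    haveI : Surjective g.left := by
      show Surjective (pullback.fst W.unop.hom p)
      exact MorphismProperty.pullback_fst _ _ ‹Surjective p›
    haveI : QuasiCompact g.left := by
      show QuasiCompact (pullback.fst W.unop.hom p)
      exact MorphismProperty.pullback_fst _ _ ‹QuasiCompact p›
    have hs : F.obj.map g.op s = F.obj.map g.op t := hst
    refine F.property.isSeparated _ _ (generate_singleton_mem g) s t ?_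
    rintro B f ⟨_, k, _, ⟨⟩, rfl⟩
    simp only [op_comp, Functor.map_comp, ConcreteCategory.comp_apply]
    exact congrArg _ hs
  have : Mono ((sheafToPresheaf _ _).map θ) := NatTrans.mono_of_mono_app θ.hom
  exact (sheafToPresheaf _ _).mono_of_mono_map this

/-- Descent of pullbacks from the étale site along an affine weakly étale surjection. -/
theorem essImage_of_cover [Surjective p] [IsAffineHom p] (G : EtModW.ModP Λ X)
    (h : (EtModW.epsPullMod Λ A).essImage ((pullPMod Λ p).obj G)) :
    (EtModW.epsPullMod Λ X).essImage G := by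
  let R := (_root_.ProEtS.compP p).sheafPushforwardContinuous (ModuleCat.{u + 1} Λ) (Scheme.ProEt.topology A)
    (Scheme.ProEt.topology X)
  let T := PushP.pushPMod p Λ
  let adj : R ⊣ T := (S0742.compBcAdj p).sheafPushforwardContinuous (E := ModuleCat.{u + 1} Λ)
    (Scheme.ProEt.topology A) (Scheme.ProEt.topology X)
  have hT : ∀ H, (EtModW.epsPullMod Λ A).essImage H → (EtModW.epsPullMod Λ X).essImage (T.obj H) := by
    rintro H ⟨E, ⟨e⟩⟩
    obtain ⟨e'⟩ := PushP.nonempty_pushPMod_epsPullMod (Λ := Λ) p E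
    exact ⟨_, ⟨e' ≪≫ T.mapIso e⟩⟩
  have hR : ∀ H, (EtModW.epsPullMod Λ X).essImage H → (EtModW.epsPullMod Λ A).essImage (R.obj H) :=
    fun H hH => Functor.essImage.ofIso ((restrPullIso p).app H).symm (essImage_pullPMod p hH)
  have hG : (EtModW.epsPullMod Λ A).essImage (R.obj G) := Functor.essImage.ofIso ((restrPullIso p).app G).symm h
  let η := adj.unit.app G
  haveI : Mono η := mono_unit p G
  haveI : PreservesColimitsOfSize.{0, 0} R := adj.leftAdjoint_preservesColimits
  haveI : R.PreservesZeroMorphisms := ⟨fun _ _ => rfl⟩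
  have hQ : (EtModW.epsPullMod Λ A).essImage (R.obj (cokernel η)) :=
    Functor.essImage.ofIso (PreservesCokernel.iso R η).symm (essImage_cokernel _ hG (hR _ (hT _ hG)))
  let g := cokernel.π η ≫ adj.unit.app (cokernel η)
  haveI : Mono (adj.unit.app (cokernel η)) := mono_unit p _
  let e : G ≅ kernel g := (Abelian.monoIsKernelOfCokernel _ (cokernelIsCokernel η)).conePointUniqueUpToIso (limit.isLimit _) ≪≫
    (kernelCompMono (cokernel.π η) (adj.unit.app (cokernel η))).symm
  exact Functor.essImage.ofIso e.symm (essImage_kernel g (hT _ hG) (hT _ hQ))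

/-- Over an affine open, a cover is refined by finitely many affine schemes weakly étale over it. -/
theorem exists_affine_refinement {κ : Type u} (V : κ → X.ProEt) (hV : EtModW.CoversP V) {U : X.Opens}
    (hU : IsAffineOpen U) :
    ∃ (n : ℕ) (W : Fin n → Scheme.{u}) (g : ∀ i, W i ⟶ Spec Γ(X, U)) (k : Fin n → κ)
      (q : ∀ i, W i ⟶ (V (k i)).left),
      (∀ i, IsAffine (W i)) ∧ (∀ i, WeaklyEtale (g i)) ∧ (∀ x, ∃ i, x ∈ Set.range (g i)) ∧
        ∀ i, q i ≫ (V (k i)).hom = g i ≫ hU.fromSpec := by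
  let j := hU.fromSpec
  haveI : WeaklyEtale j := inferInstance
  let O : X.ProEt := Scheme.ProEt.mk j
  haveI : IsAffine O.left := inferInstanceAs (IsAffine (Spec _))
  let t : O ⟶ _root_.ProEtS.topP X := MorphismProperty.Over.homMk j (Category.comp_id j) trivial
  obtain ⟨n, W, g, hW, hS, hw, hcov⟩ := ProEtS.Affine.exists_affine_cover
    (GrothendieckTopology.pullback_stable _ t hV)
  have hk : ∀ i, ∃ k, ∃ q : (W i).left ⟶ (V k).left, q ≫ (V k).hom = (g i).left ≫ j := fun i => by
    obtain ⟨Z, a, b, hb, hab⟩ := hS i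
    cases hb with
    | mk k =>
      exact ⟨k, a.left, (congrArg (fun m => m.left) hab :)⟩
  choose k q hq using hk
  exact ⟨n, fun i => (W i).left, fun i => (g i).left, k, q, hW, hw, hcov, hq⟩

/-- Being a pullback from the étale site is local for covers of the pro-étale site. -/
theorem essImage_of_coversP {κ : Type u} (V : κ → X.ProEt) (hV : EtModW.CoversP V) (G : EtModW.ModP Λ X)
    (h : ∀ k, (EtModW.epsPullMod Λ (V k).left).essImage ((pullPMod Λ (V k).hom).obj G)) :
    (EtModW.epsPullMod Λ X).essImage G := by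
  refine LocalEss.essImage_of_openCover (κ := X.affineOpens) _ (fun U => U.2.fromSpec) (fun x => ?_) G fun U => ?_
  · obtain ⟨U, hU⟩ := ProEtS.Covers.affineOpens_cover X x
    exact ⟨U, by rw [U.2.range_fromSpec]; exact hU⟩
  let j := U.2.fromSpec
  obtain ⟨n, W, g, k, q, hW, hw, hcov, hq⟩ := exists_affine_refinement V hV U.2
  haveI := hW
  let S := ∐ fun i => W i
  let π : S ⟶ Spec Γ(X, U.1) := Sigma.desc fun i => g i
  have hπ : ∀ i, Sigma.ι W i ≫ π = g i := fun i => Sigma.ι_desc _ _
  haveI : IsAffine S := inferInstance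
  haveI : Surjective π := ⟨fun x => by
    obtain ⟨i, w, hwx⟩ := hcov x
    exact ⟨Sigma.ι W i w, (Scheme.Hom.comp_apply _ _ _).symm.trans ((congrArg (fun m => m w) (hπ i)).trans hwx)⟩⟩
  haveI : WeaklyEtale π := IsZariskiLocalAtSource.sigmaDesc (P := @WeaklyEtale) fun i => hw i
  haveI : _root_.ProEtS.JPCont π := ProEtS.Restr.jpCont π
  haveI : IsAffineHom π := inferInstance
  refine essImage_of_cover π _ ?_
  refine LocalEss.essImage_of_openCover _ (fun i => Sigma.ι W i) (fun x => ?_) _ fun i => ?_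
  · obtain ⟨i, y, hy⟩ := (sigmaOpenCover fun i => W i).exists_eq x
    exact ⟨i, y, hy⟩
  refine Functor.essImage.ofIso ((pullCompIso _ π).app ((pullPMod Λ j).obj G)) ?_
  refine Functor.essImage.ofIso ((pullCompIso _ j).app G) ?_
  exact essImage_pullPMod_comp (q i) (V (k i)).hom ((hq i).trans (congrArg (· ≫ j) (hπ i)).symm) (h (k i))

end Groth.Agent.EtModWLib.EssLocal
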