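import Groth.Agent.EtModWLib.Serre
import Mathlib.RingTheory.Noetherian.Basic
import Mathlib.Topology.Sober

/-!
# Subsheaves of locally constant sheaves spread out from the generic point
-/

universe u

open CategoryTheory CategoryTheory.Limits AlgebraicGeometry Opposite

namespace Groth.Agent.EtModWLib

open Groth.Agent

variable {Λ : Type (u + 1)} [CommRing Λ] [IsNoetherianRing Λ] {X : Scheme.{u}}

/-- The sections of a trivialised sheaf whose germs lie in a subsheaf. -/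
noncomputable def genericPart {G R : EtModW.Mod Λ X} (i : R ⟶ G) {U : X.Etale} {M : Type (u + 1)}
    [AddCommGroup M] [Module Λ M] (m : M →ₗ[Λ] G.obj.obj (op U)) {Ω : Type u} [Field Ω] [IsSepClosed Ω]
    {ξ : Spec (CommRingCat.of Ω) ⟶ X} (φ : (Scheme.pointSmallEtale ξ).fiber.obj U) : Submodule Λ M :=
  (LinearMap.range ((EtModW.stalk Λ ξ).map i).hom).comap ((germ ξ G U φ).hom.comp m)

theorem mem_genericPart {G R : EtModW.Mod Λ X} (i : R ⟶ G) {U : X.Etale} {M : Type (u + 1)}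
    [AddCommGroup M] [Module Λ M] (m : M →ₗ[Λ] G.obj.obj (op U)) {Ω : Type u} [Field Ω] [IsSepClosed Ω]
    {ξ : Spec (CommRingCat.of Ω) ⟶ X} (φ : (Scheme.pointSmallEtale ξ).fiber.obj U) (z : M) :
    z ∈ genericPart i m φ ↔ ∃ q, (EtModW.stalk Λ ξ).map i q = germ ξ G U φ (m z) :=
  Iff.rfl

/-- A subsheaf of a finite type locally constant sheaf on an irreducible scheme contains, over an
open neighbourhood of the generic point, all subsheaves having the same generic stalk. -/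
theorem exists_open_exhaust [IrreducibleSpace ↥X] {Ω : Type u} [Field Ω] [IsSepClosed Ω]
    (η : Spec (CommRingCat.of Ω) ⟶ X) (hη : η default = genericPoint ↥X)
    {R G : EtModW.Mod Λ X} (i : R ⟶ G) (hG : EtModW.IsFTLocConst Λ G) :
    ∃ O : X.Opens, genericPoint ↥X ∈ O ∧ ∀ ⦃R' : EtModW.Mod Λ X⦄ (a : R ⟶ R') (i' : R' ⟶ G),
      Mono i' → a ≫ i' = i → Function.Surjective ((EtModW.stalk Λ η).map a) →
      ∀ (Ω' : Type u) [Field Ω'] [IsSepClosed Ω'] (ξ : Spec (CommRingCat.of Ω') ⟶ X),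
        ξ default ∈ O → Function.Surjective ((EtModW.stalk Λ ξ).map a) := by
  obtain ⟨U, φ₁, M, iM₁, iM₂, iM₃, m, hm⟩ := exists_isTriv hG η
  -- a point of `U` over the generic point at which the generic part is maximal
  obtain ⟨N, ⟨φ, rfl⟩, hmax⟩ := set_has_maximal_iff_noetherian.2 inferInstance
    (Set.range fun φ : (Scheme.pointSmallEtale η).fiber.obj U => genericPart i m φ) ⟨_, φ₁, rfl⟩
  obtain ⟨r, z, hz⟩ := Submodule.fg_iff_exists_fin_generating_family.1
    (IsNoetherian.noetherian (genericPart i m φ))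
  have hzmem : ∀ k, z k ∈ genericPart i m φ := fun k => hz ▸ Submodule.subset_span ⟨k, rfl⟩
  choose p hp using fun k => (mem_genericPart i m φ (z k)).1 (hzmem k)
  obtain ⟨W, g, w, s, hw, hs⟩ := exists_common_nbhd φ R p
  obtain ⟨W₂, g₂, w₂, hw₂, he⟩ := exists_nbhd_eq_of_finite G w (fun k => i.hom.app (op W) (s k))
    (fun k => G.obj.map g.op (m (z k))) fun k => by
      rw [← germ_naturality, hs, hp, germ_res, hw]
  have hsecs : ∀ k, i.hom.app (op W₂) (R.obj.map g₂.op (s k)) = G.obj.map g₂.op (G.obj.map g.op (m (z k))) :=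
    fun k => (NatTrans.naturality_apply i.hom g₂.op (s k)).trans (he k)
  haveI : Etale W₂.hom := W₂.prop
  have hopen : IsOpen (Set.range W₂.hom) := W₂.hom.isOpenMap.isOpen_range
  refine ⟨⟨_, hopen⟩, ⟨w₂.left (default : Spec (CommRingCat.of Ω)), ?_⟩, ?_⟩
  · exact (congrArg (fun k : Spec (CommRingCat.of Ω) ⟶ X => k default) (Over.w w₂)).trans hη
  intro R' a i' _ hai hst Ω' _ _ ξ hξ q
  obtain ⟨y, hy⟩ := hξ
  obtain ⟨v, -⟩ := EtaleSite.exists_fiber_point ξ W₂ y hy
  obtain ⟨W₃, e, w₃, t, hw₃, rfl⟩ := exists_germ_eq_refine v R' q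
  let m₃ := (G.obj.map (e ≫ g₂ ≫ g).op).hom.comp m
  obtain ⟨z₀, hz₀⟩ := (hm.restrict (e ≫ g₂ ≫ g) Ω' ξ w₃).2 (germ ξ G W₃ w₃ (i'.hom.app (op W₃) t))
  obtain ⟨W₄, e₄, w₄, hw₄, he₄⟩ := (germ_eq_iff ξ G W₃ w₃ _ _).1 hz₀
  -- a generic point of `W₄`
  have hne : genericPoint ↥X ∈ Set.range W₄.hom := by
    have ho : IsOpen (Set.range W₄.hom) := by
      haveI : Etale W₄.hom := W₄.prop
      exact W₄.hom.isOpenMap.isOpen_range
    exact (genericPoint_spec ↥X).mem_open_set_iff ho |>.2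
      ⟨_, Set.mem_univ _, ⟨w₄.left (default : Spec (CommRingCat.of Ω')), rfl⟩⟩
  obtain ⟨y₀, hy₀⟩ := hne
  obtain ⟨ψ, -⟩ := EtaleSite.exists_fiber_point η W₄ y₀ (hy₀.trans hη.symm)
  let ψU := (Scheme.pointSmallEtale η).fiber.map (e₄ ≫ e ≫ g₂ ≫ g) ψ
  have hle : genericPart i m φ ≤ genericPart i m ψU := by
    rw [← hz, Submodule.span_le]
    rintro _ ⟨k, rfl⟩
    refine (mem_genericPart i m ψU (z k)).2
      ⟨germ η R W₂ ((Scheme.pointSmallEtale η).fiber.map (e₄ ≫ e) ψ) (R.obj.map g₂.op (s k)), ?_⟩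
    rw [germ_naturality, hsecs, germ_res, germ_res, ← fiber_map_comp, ← fiber_map_comp]
    simp only [Category.assoc]
    rfl
  have heq : genericPart i m ψU = genericPart i m φ :=
    (hle.lt_or_eq.resolve_left (hmax _ ⟨ψU, rfl⟩)).symm
  have hz₀mem : z₀ ∈ genericPart i m φ := by
    rw [← heq]
    refine (mem_genericPart i m ψU z₀).2 ?_
    obtain ⟨q₀, hq₀⟩ := hst (germ η R' W₄ ψ (R'.obj.map e₄.op t))
    refine ⟨q₀, ?_⟩
    rw [← hai, Functor.map_comp]
    refine (congrArg ((EtModW.stalk Λ η).map i') hq₀).trans ?_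
    rw [germ_naturality, NatTrans.naturality_apply, ← he₄, ← germ_res]
    simp only [LinearMap.comp_apply, op_comp, Functor.map_comp]
    rfl
  rw [← hz, Submodule.mem_span_range_iff_exists_fun] at hz₀mem
  obtain ⟨c, hc⟩ := hz₀mem
  refine ⟨∑ k, c k • germ ξ R W₂ v (R.obj.map g₂.op (s k)),
    (mono_iff_stalk i').1 inferInstance Ω' ξ ?_⟩
  rw [germ_naturality, ← hz₀]
  refine ((ConcreteCategory.comp_apply _ _ _).symm.trans ?_)
  rw [← Functor.map_comp, hai, ← hc]
  simp only [map_sum, map_smul, LinearMap.comp_apply]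
  refine Finset.sum_congr rfl fun k _ => congrArg (c k • ·) ?_
  rw [germ_naturality, hsecs, ← hw₃, ← germ_res]
  simp only [LinearMap.comp_apply, op_comp, Functor.map_comp]
  rfl

end Groth.Agent.EtModWLib
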