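import Groth.Agent.EtModWLib.LimitQuot
import Mathlib.Algebra.Homology.ShortComplex.ModuleCat

/-!
# Limits of systems on the pro-etale site: exactness
-/

universe u

open CategoryTheory CategoryTheory.Limits AlgebraicGeometry Opposite ARSys

namespace Groth.Agent.EtModWLib

open Groth.Agent Groth.Agent.ARLib

variable {Λ : Type (u + 1)} [CommRing Λ] {X : Scheme.{u}}

theorem exists_lift_kernel {F G : EtModW.ModP Λ X} (g : F ⟶ G) (U : X.ProEt)
    (x : F.obj.obj (op U)) (hx : g.hom.app (op U) x = 0) :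
    ∃ y, (kernel.ι g).hom.app (op U) y = x := by
  let ev := sectFun Λ U
  have h1 := (ShortComplex.moduleCat_exact_iff_range_eq_ker _).1
    ((ShortComplex.exact_of_f_is_kernel (ShortComplex.mk (kernel.ι g) g (kernel.condition g))
      (kernelIsKernel g)).map_of_mono_of_preservesKernel ev inferInstance inferInstance)
  exact h1.ge (show x ∈ LinearMap.ker (ev.map g).hom from hx)

/-- Sections over weakly contractible objects of exact sequences are exact. -/
theorem exists_lift_wc (S : ShortComplex (EtModW.ModP Λ X)) (hS : S.Exact) (U : X.ProEt)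
    (hU : _root_.ProEtS.IsWC U) (x : S.X₂.obj.obj (op U)) (hx : S.g.hom.app (op U) x = 0) :
    ∃ y, S.f.hom.app (op U) y = x := by
  haveI := S.exact_iff_epi_kernel_lift.1 hS
  obtain ⟨z, hz⟩ := exists_lift_kernel S.g U x hx
  obtain ⟨y, hy⟩ := surjective_of_epi_wc (kernel.lift S.g S.f S.zero) U hU z
  refine ⟨y, ?_⟩
  rw [← hz, ← hy]
  exact (congrArg (fun k => k.hom.app (op U) y) (kernel.lift_ι S.g S.f S.zero)).symm

/-- A levelwise short exact sequence of systems with Mittag-Leffler kernel gives an epimorphism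
on limits. -/
theorem epi_limMap {A B C Y : ARSys.PS (EtModW.ModP Λ X)} (f : A ⟶ B) (g : B ⟶ C) (v : Y ⟶ A)
    (hfg : ∀ n : ℕ, ∃ w, (ShortComplex.mk (f.app (op n)) (g.app (op n)) w).Exact)
    (hg : ∀ n : ℕ, Epi (g.app (op n))) (hY : IsStrict Y)
    {r : ℕ} (hv : ∀ n : ℕ, sm A r n ≫ cokernel.π (v.app (op n)) = 0) : Epi (limMap g) := by
  refine epi_of_wc _ fun U hU c => ?_
  let cs : ∀ m : ℕ, (C.obj (op m)).obj.obj (op U) := fun m => (limit.π C (op m)).hom.app (op U) c
  have hnat : ∀ {P P' : ARSys.PS (EtModW.ModP Λ X)} (k : P ⟶ P') {a b : ℕ} (h : a ≤ b)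
      (z : (P.obj (op b)).obj.obj (op U)),
      (tr P' h).hom.app (op U) ((k.app (op b)).hom.app (op U) z) =
        (k.app (op a)).hom.app (op U) ((tr P h).hom.app (op U) z) := fun {P P'} k a b h z =>
    congrArg (fun m : P.obj (op b) ⟶ P'.obj (op a) => m.hom.app (op U) z) (tr_nat k h).symm
  have hcomp : ∀ (P : ARSys.PS (EtModW.ModP Λ X)) {a b d : ℕ} (h : a ≤ b) (h' : b ≤ d)
      (z : (P.obj (op d)).obj.obj (op U)),
      (tr P h).hom.app (op U) ((tr P h').hom.app (op U) z) = (tr P (h.trans h')).hom.app (op U) z :=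
    fun P a b d h h' z => congrArg (fun m : P.obj (op d) ⟶ P.obj (op a) => m.hom.app (op U) z) (tr_comp P h h')
  have hlift : ∀ m, ∃ b, (g.app (op m)).hom.app (op U) b = cs m := fun m =>
    haveI := hg m
    surjective_of_epi_wc (g.app (op m)) U hU (cs m)
  choose b hb using hlift
  have hd : ∀ m, ∃ a, (f.app (op m)).hom.app (op U) a =
      b m - (tr B (Nat.le_succ m)).hom.app (op U) (b (m + 1)) := fun m => by
    obtain ⟨w, hw⟩ := hfg m
    refine exists_lift_wc _ hw U hU _ ?_
    show (g.app (op m)).hom.app (op U) _ = 0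
    rw [map_sub, hb, ← hnat, hb, limit_sect_tr, sub_self]
  choose d hd using hd
  -- shift into the image of `v`
  have hy : ∀ m, ∃ y, (v.app (op m)).hom.app (op U) y =
      (tr A (Nat.le_add_right m r)).hom.app (op U) (d (m + r)) := fun m => by
    refine exists_lift_wc (ShortComplex.mk (v.app (op m)) (cokernel.π _) (cokernel.condition _))
      (ShortComplex.exact_of_g_is_cokernel _ (cokernelIsCokernel _)) U hU _ ?_
    exact congrArg (fun k => k.hom.app (op U) (d (m + r))) (hv m)
  choose y hy using hy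
  have hYs : ∀ m (q : (Y.obj (op m)).obj.obj (op U)), ∃ q', (tr Y (Nat.le_succ m)).hom.app (op U) q' = q :=
    fun m q => haveI := hY m (m + 1) (Nat.le_succ m); surjective_of_epi_wc (tr Y (Nat.le_succ m)) U hU q
  choose lift hlift using hYs
  let z : ∀ m, (Y.obj (op m)).obj.obj (op U) := fun m => Nat.rec 0 (fun m q => lift m (q - y m)) m
  have hz : ∀ m, (tr Y (Nat.le_succ m)).hom.app (op U) (z (m + 1)) = z m - y m := fun m => hlift m _
  let b' : ∀ m, (B.obj (op m)).obj.obj (op U) := fun m =>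
    (tr B (Nat.le_add_right m r)).hom.app (op U) (b (m + r)) -
      (f.app (op m)).hom.app (op U) ((v.app (op m)).hom.app (op U) (z m))
  obtain ⟨e, he⟩ := exists_limit_sect B U b' fun m => by
    show (tr B _).hom.app (op U) (_ - _) = _
    rw [map_sub, hnat f, hnat v, hz, map_sub, map_sub, hy, ← hnat f, hd, map_sub, hcomp, hcomp]
    show _ = (tr B _).hom.app (op U) _ - _
    have hh : ∀ (p : ℕ) (hp : p = m + r + 1) (h : m ≤ p),
        (tr B h).hom.app (op U) (b p) = (tr B (show m ≤ m + r + 1 by omega)).hom.app (op U) (b (m + r + 1)) := by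
      intro p hp h; subst hp; rfl
    rw [hh (m + 1 + r) (by omega) _]
    abel
  refine ⟨e, limit_sect_ext C U _ _ fun m => ?_⟩
  refine (congrArg (fun k => k.hom.app (op U) e) (limMap_π g (op m))).trans ?_
  show (g.app (op m)).hom.app (op U) ((limit.π B (op m)).hom.app (op U) e) = _
  rw [he]
  show (g.app (op m)).hom.app (op U) (_ - _) = _
  rw [map_sub, ← hnat, hb, limit_sect_tr]
  obtain ⟨w, -⟩ := hfg m
  refine sub_eq_self.2 ?_
  exact congrArg (fun k => k.hom.app (op U) ((v.app (op m)).hom.app (op U) (z m))) w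

end Groth.Agent.EtModWLib
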