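import Groth.Agent.EtModWLib.WCSect
import Groth.Agent.EtModWLib.Systems
import Groth.Agent.EtModWLib.Eps
import Groth.Agent.ARLib.Adic
import Groth.Agent.S14017

/-!
# Quotients of limits of adic systems on the pro-etale site
-/

universe u

open CategoryTheory CategoryTheory.Limits AlgebraicGeometry Opposite ARSys

namespace Groth.Agent.EtModWLib

open Groth.Agent Groth.Agent.ARLib

variable {Λ : Type (u + 1)} [CommRing Λ] {X : Scheme.{u}}

theorem smul_top_le_sum {M : Type (u + 1)} [AddCommGroup M] [Module Λ M] {k : ℕ} (g : Fin k → Λ)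
    (J : Ideal Λ) {x : M} (hx : x ∈ (Ideal.span (Set.range g) * J) • (⊤ : Submodule Λ M)) :
    ∃ w : Fin k → M, (∀ i, w i ∈ J • (⊤ : Submodule Λ M)) ∧ ∑ i, g i • w i = x := by
  rw [Submodule.mul_smul] at hx
  refine Submodule.smul_induction_on hx ?_ ?_
  · intro a ha m hm
    obtain ⟨c, rfl⟩ := Ideal.mem_span_range_iff_exists_fun.1 ha
    refine ⟨fun i => c i • m, fun i => Submodule.smul_mem _ _ hm, ?_⟩
    rw [Finset.sum_smul]
    exact Finset.sum_congr rfl fun i _ => by rw [← mul_smul, mul_comm]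
  · intro x y hx hy
    obtain ⟨v, hv, rfl⟩ := hx
    obtain ⟨w, hw, rfl⟩ := hy
    exact ⟨fun i => v i + w i, fun i => Submodule.add_mem _ (hv i) (hw i),
      by simp [smul_add, Finset.sum_add_distrib]⟩

/-- The projections from the limit of an adic system of pro-etale sheaves are quotient maps. -/
theorem isQuot_limit_π {I : Ideal Λ} (hI : I.FG) {H : ARSys.PS (EtModW.ModP Λ X)} (hH : IsAdic I H)
    (n : ℕ) : IsQuot (I ^ (n + 1)) (limit.π H (op n)) := by
  obtain ⟨k, g, hg⟩ := Submodule.fg_iff_exists_fin_generating_family.1 (Ideal.FG.pow (n := n + 1) hI)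
  have hsurj : ∀ (U : X.ProEt), _root_.ProEtS.IsWC U → ∀ {a b : ℕ} (h : a ≤ b),
      Function.Surjective ((tr H h).hom.app (op U)) := fun U hU {a b} h =>
    (S14017.main (I ^ (a + 1)) (H.obj (op b)) (Ideal.FG.pow hI) _ _ (hH.2 a b h) U hU).1
  have hker : ∀ (U : X.ProEt), _root_.ProEtS.IsWC U → ∀ {a b : ℕ} (h : a ≤ b) (z : (H.obj (op b)).obj.obj (op U)),
      (tr H h).hom.app (op U) z = 0 → z ∈ I ^ (a + 1) • (⊤ : Submodule Λ _) := fun U hU {a b} h z hz =>
    (S14017.main (I ^ (a + 1)) (H.obj (op b)) (Ideal.FG.pow hI) _ _ (hH.2 a b h) U hU).2.le hz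
  have hkill : ∀ (U : X.ProEt) (m : ℕ) (a : Λ), a ∈ I ^ (m + 1) →
      ∀ z : (H.obj (op m)).obj.obj (op U), a • z = 0 := fun U m a ha z =>
    congrArg (fun k => k.hom.app (op U) z) (hH.1 m a ha)
  haveI : Epi (limit.π H (op n)) := epi_of_wc _ fun U hU s => by
    have hl : ∀ m (q : (H.obj (op m)).obj.obj (op U)), ∃ q', (tr H (Nat.le_succ m)).hom.app (op U) q' = q :=
      fun m q => hsurj U hU (Nat.le_succ m) q
    choose lift hlift using hl
    let z : ∀ j, (H.obj (op (n + j))).obj.obj (op U) := fun j => Nat.rec s (fun j q => lift (n + j) q) j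
    have hz : ∀ j, (tr H (Nat.le_succ (n + j))).hom.app (op U) (z (j + 1)) = z j := fun j => hlift _ (z j)
    let x : ∀ m, (H.obj (op m)).obj.obj (op U) := fun m => (tr H (Nat.le_add_left m n)).hom.app (op U) (z m)
    obtain ⟨y, hy⟩ := exists_limit_sect H U x fun m => by
      show (tr H _).hom.app (op U) ((tr H _).hom.app (op U) (z (m + 1))) = (tr H _).hom.app (op U) (z m)
      rw [← hz]
      exact (congrArg (fun k => k.hom.app (op U) (z (m + 1)))
        ((tr_comp H _ _).trans (tr_comp H (Nat.le_add_left m n) (Nat.le_succ (n + m))).symm))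
    have hrow : ∀ j, (tr H (Nat.le_add_right n j)).hom.app (op U) (z j) = s := fun j => by
      induction j with
      | zero => rw [tr_refl]; rfl
      | succ j ih =>
        rw [← tr_comp H (Nat.le_add_right n j) (Nat.le_succ (n + j))]
        exact (congrArg ((tr H _).hom.app (op U)) (hz j)).trans ih
    exact ⟨y, (hy n).trans (hrow n)⟩
  refine isQuot_mk_of_kernel _ (hH.1 n) fun Y φ hφ => hom_ext_wc fun U hU t => ?_
  show φ.hom.app (op U) ((kernel.ι (limit.π H (op n))).hom.app (op U) t) = 0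
  let x := (kernel.ι (limit.π H (op n))).hom.app (op U) t
  have hx : (limit.π H (op n)).hom.app (op U) x = 0 :=
    congrArg (fun k => k.hom.app (op U) t) (kernel.condition (limit.π H (op n)))
  let M := fun j : ℕ => (H.obj (op (n + j))).obj.obj (op U)
  let xj : ∀ j, M j := fun j => (limit.π H (op (n + j))).hom.app (op U) x
  have step : ∀ j, ∀ y : Fin k → M j, ∑ i, g i • y i = xj j →
      ∃ y' : Fin k → M (j + 1), (∑ i, g i • y' i = xj (j + 1)) ∧
        ∀ i, ∀ p (hp : p < j), (tr H (show p ≤ n + (j + 1) by omega)).hom.app (op U) (y' i) =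
          (tr H (show p ≤ n + j by omega)).hom.app (op U) (y i) := by
    intro j y hy
    choose l hl using fun i => hsurj U hU (Nat.le_succ (n + j)) (y i)
    have h0 : (tr H (Nat.le_succ (n + j))).hom.app (op U) (xj (j + 1) - ∑ i, g i • l i) = 0 := by
      rw [map_sub, map_sum]
      simp only [map_smul]
      rw [Finset.sum_congr rfl fun i _ => congrArg (g i • ·) (hl i), hy]
      exact sub_eq_zero.2 (limit_sect_tr H U _ x)
    have h1 := hker U hU _ _ h0
    rw [show n + j + 1 = (n + 1) + j by omega, pow_add, ← hg] at h1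
    obtain ⟨w, hw, hsum⟩ := smul_top_le_sum g (I ^ j) h1
    refine ⟨fun i => l i + w i, ?_, fun i p hp => ?_⟩
    · simp only [smul_add, Finset.sum_add_distrib, hsum]
      exact add_sub_cancel _ _
    · have hw0 : (tr H (show p ≤ n + (j + 1) by omega)).hom.app (op U) (w i) = 0 := by
        refine Submodule.smul_induction_on (p := fun z => (tr H (show p ≤ n + (j + 1) by omega)).hom.app (op U) z = 0)
          (hw i) (fun a ha z _ => ?_) (fun a b ha hb => by rw [map_add, ha, hb, add_zero])
        rw [map_smul]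
        exact hkill U p a (Ideal.pow_le_pow_right hp ha) _
      rw [map_add, hw0, add_zero, ← hl i]
      exact (congrArg (fun k => k.hom.app (op U) (l i))
        (tr_comp H (show p ≤ n + j by omega) (Nat.le_succ (n + j)))).symm
  have hx0 : ∑ i, g i • (0 : M 0) = xj 0 := by
    simp only [smul_zero, Finset.sum_const_zero]
    exact hx.symm
  let ys : ∀ j, {y : Fin k → M j // ∑ i, g i • y i = xj j} := fun j =>
    Nat.rec ⟨fun _ => 0, hx0⟩ (fun j y => ⟨(step j y.1 y.2).choose, (step j y.1 y.2).choose_spec.1⟩) j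
  have hys : ∀ j i p (hp : p < j), (tr H (show p ≤ n + (j + 1) by omega)).hom.app (op U) ((ys (j + 1)).1 i) =
      (tr H (show p ≤ n + j by omega)).hom.app (op U) ((ys j).1 i) := fun j =>
    (step j (ys j).1 (ys j).2).choose_spec.2
  have hY : ∀ i, ∃ Y : (limit H).obj.obj (op U), ∀ p : ℕ,
      (limit.π H (op p)).hom.app (op U) Y =
        (tr H (show p ≤ n + (p + 1) by omega)).hom.app (op U) ((ys (p + 1)).1 i) := by
    intro i
    refine exists_limit_sect H U _ fun p => ?_
    rw [← hys (p + 1) i p (Nat.lt_succ_self p)]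
    exact congrArg (fun k : H.obj (op (n + (p + 1 + 1))) ⟶ H.obj (op p) => k.hom.app (op U) ((ys (p + 1 + 1)).1 i))
      (tr_comp H (Nat.le_succ p) (show p + 1 ≤ n + (p + 1 + 1) by omega))
  choose Y' hY' using hY
  have hxsum : ∑ i, g i • Y' i = x := limit_sect_ext H U _ _ fun p => by
    rw [map_sum]
    simp only [map_smul, hY']
    rw [← limit_sect_tr H U (show p ≤ n + (p + 1) by omega) x]
    refine Eq.trans ?_ (congrArg ((tr H (show p ≤ n + (p + 1) by omega)).hom.app (op U)) (ys (p + 1)).2)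
    rw [map_sum]
    simp only [map_smul]
  show φ.hom.app (op U) x = 0
  rw [← hxsum, map_sum]
  refine Finset.sum_eq_zero fun i _ => ?_
  rw [map_smul]
  exact congrArg (fun k => k.hom.app (op U) (Y' i)) (hφ (g i) (hg ▸ Submodule.subset_span ⟨i, rfl⟩))

variable [_root_.ProEtS.EpsCont X]

/-- The image of an adic system in pro-etale sheaves is adic. -/
theorem isAdic_eps {I : Ideal Λ} (hI : I.FG) {G : ARSys.PS (EtModW.Mod Λ X)} (hG : IsAdic I G) :
    IsAdic I (G ⋙ EtModW.epsPullMod Λ X) :=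
  ⟨termKilled_map _ hG.1, fun n m h => isQuot_map (EtModW.epsPullMod Λ X) (Ideal.FG.pow hI) (hG.2 n m h)⟩

theorem isQuot_limit_π_eps {I : Ideal Λ} (hI : I.FG) {G : ARSys.PS (EtModW.Mod Λ X)} (hG : IsAdic I G)
    (n : ℕ) : IsQuot (I ^ (n + 1)) (limit.π (G ⋙ EtModW.epsPullMod Λ X) (op n)) :=
  isQuot_limit_π hI (isAdic_eps hI hG) n

/-- The limit functor is fully faithful on adic systems. -/
theorem exists_unique_preimage {I : Ideal Λ} (hI : I.FG) {G G' : ARSys.PS (EtModW.Mod Λ X)}
    (hG : IsAdic I G) (hG' : IsAdic I G')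
    (φ : limit (G ⋙ EtModW.epsPullMod Λ X) ⟶ limit (G' ⋙ EtModW.epsPullMod Λ X)) :
    ∃! f : G ⟶ G', limMap (Functor.whiskerRight f (EtModW.epsPullMod Λ X)) = φ := by
  let L := EtModW.epsPullMod Λ X
  have hq := fun n => isQuot_limit_π_eps hI hG n
  have hk : ∀ n, HomKilledBy (I ^ (n + 1)) (φ ≫ limit.π (G' ⋙ L) (op n)) := fun n =>
    killed_smul (killedBy_map L (hG'.1 n)) _
  choose ψ hψ using fun n => quot_fac (hq n) _ (hk n)
  let f : G ⟶ G' :=
    { app := fun j => L.preimage (ψ j.unop)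
      naturality := fun a b r => L.map_injective (by
        haveI := quot_epi (hq a.unop)
        rw [Functor.map_comp, Functor.map_comp, Functor.map_preimage, Functor.map_preimage,
          ← cancel_epi (limit.π (G ⋙ L) (op a.unop))]
        refine ((Category.assoc _ _ _).symm.trans ((congrArg (· ≫ _) (limit.w (G ⋙ L) r)).trans (hψ b.unop))).trans ?_
        refine Eq.trans ?_ ((congrArg (· ≫ L.map (G'.map r)) (hψ a.unop)).symm.trans (Category.assoc _ _ _))
        exact ((Category.assoc _ _ _).trans (congrArg (φ ≫ ·) (limit.w (G' ⋙ L) r))).symm) }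
  refine ⟨f, limit.hom_ext fun j => ?_, fun f' hf' => ?_⟩
  · rw [limMap_π]
    refine (congrArg (_ ≫ ·) (L.map_preimage (ψ j.unop))).trans (hψ j.unop)
  · ext j : 2
    refine L.map_injective ?_
    haveI := quot_epi (hq j.unop)
    rw [← cancel_epi (limit.π (G ⋙ L) (op j.unop)), L.map_preimage, hψ]
    rw [← hf']
    exact (limMap_π (Functor.whiskerRight f' L) j).symm

end Groth.Agent.EtModWLib
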