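import Groth.Agent.EtModWLib.LimitEpi
import Groth.Agent.EtModWLib.ConsSys
import Mathlib.CategoryTheory.Abelian.Exact
import Mathlib.CategoryTheory.Limits.FunctorCategory.Basic

/-!
# The limit of pullbacks of systems: isomorphisms up to translation and cokernels
-/

universe w v u

open CategoryTheory CategoryTheory.Limits AlgebraicGeometry Opposite ARSys ZeroObject

namespace Groth.Agent.EtModWLib

open Groth.Agent Groth.Agent.ARLib

theorem isZero_limit_of_null {D : Type u} [Category.{v} D] [Abelian D] {N : PS D} [HasLimit N]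
    (h : IsARNull N) : IsZero (limit N) := by
  obtain ⟨r, hr⟩ := (isARNull_iff _).1 h
  rw [IsZero.iff_id_eq_zero]
  refine limit.hom_ext fun j => ?_
  obtain ⟨n⟩ := j
  rw [Category.id_comp, zero_comp, ← limit.w N (homOfLE (Nat.le_add_right n r)).op]
  exact (congrArg (_ ≫ ·) (hr n)).trans comp_zero

variable {Λ : Type (u + 1)} [CommRing Λ] {X : Scheme.{u}} [_root_.ProEtS.EpsCont X]

/-- The functor sending a system to the limit of its pullbacks to the pro-etale site. -/
noncomputable abbrev limEps (Λ : Type (u + 1)) [CommRing Λ] (X : Scheme.{u}) [_root_.ProEtS.EpsCont X] :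
    ARSys.PS (EtModW.Mod Λ X) ⥤ EtModW.ModP Λ X :=
  (Functor.whiskeringRight ℕᵒᵖ (EtModW.Mod Λ X) (EtModW.ModP Λ X)).obj (EtModW.epsPullMod Λ X) ⋙ lim

instance preservesFiniteLimits_limEps : PreservesFiniteLimits (limEps Λ X) := by
  haveI : PreservesFiniteLimits
      ((Functor.whiskeringRight ℕᵒᵖ (EtModW.Mod Λ X) (EtModW.ModP Λ X)).obj (EtModW.epsPullMod Λ X)) :=
    ⟨fun J _ _ => inferInstance⟩
  haveI : PreservesFiniteLimits (lim : ARSys.PS (EtModW.ModP Λ X) ⥤ _) :=
    ⟨fun J _ _ => by
      haveI : PreservesLimitsOfSize.{0, 0} (lim : ARSys.PS (EtModW.ModP Λ X) ⥤ _) :=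
        (constLimAdj (J := ℕᵒᵖ) (C := EtModW.ModP Λ X)).rightAdjoint_preservesLimits
      infer_instance⟩
  exact comp_preservesFiniteLimits _ _

instance additive_limEps : (limEps Λ X).Additive :=
  Functor.additive_of_preserves_binary_products _

theorem isZero_limEps {N : ARSys.PS (EtModW.Mod Λ X)} (h : IsARNull N) :
    IsZero ((limEps Λ X).obj N) := by
  obtain ⟨r, hr⟩ := (isARNull_iff _).1 h
  refine isZero_limit_of_null ((isARNull_iff _).2 ⟨r, fun n => ?_⟩)
  exact (congrArg (EtModW.epsPullMod Λ X).map (hr n)).trans (Functor.map_zero _ _ _)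

/-- Limits of short exact sequences whose kernel receives, with small cokernel, a strict system. -/
theorem epi_limEps (S : ShortComplex (ARSys.PS (EtModW.Mod Λ X))) (hS : S.ShortExact)
    {Y : ARSys.PS (EtModW.Mod Λ X)} (v : Y ⟶ S.X₁) (hY : IsStrict Y) {r : ℕ} (hr : CokerBound v r) :
    Epi ((limEps Λ X).map S.g) := by
  let L := EtModW.epsPullMod Λ X
  show Epi (limMap (Functor.whiskerRight S.g L))
  refine epi_limMap (Functor.whiskerRight S.f L) (Functor.whiskerRight S.g L) (Functor.whiskerRight v L)
    (fun n => ⟨_, ((hS.map_of_exact ((evaluation ℕᵒᵖ (EtModW.Mod Λ X)).obj (op n))).map_of_exact L).exact⟩)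
    (fun n => ((hS.map_of_exact ((evaluation ℕᵒᵖ (EtModW.Mod Λ X)).obj (op n))).map_of_exact L).epi_g)
    (fun n m h => ?_) (r := r) fun n => ?_
  · haveI := hY n m h
    exact inferInstanceAs (Epi (L.map (tr Y h)))
  · have h := hr n (cokernel.π (v.app (op n))) (cokernel.condition _)
    have h' : L.map (sm S.X₁ r n) ≫ L.map (cokernel.π (v.app (op n))) = 0 := by
      rw [← Functor.map_comp, h, Functor.map_zero]
    have hc : IsColimit (CokernelCofork.ofπ (L.map (cokernel.π (v.app (op n))))
        (by rw [← Functor.map_comp, cokernel.condition, Functor.map_zero])) :=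
      CokernelCofork.mapIsColimit _ (cokernelIsCokernel _) L
    obtain ⟨χ, hχ⟩ := CokernelCofork.IsColimit.desc' hc (cokernel.π (L.map (v.app (op n)))) (cokernel.condition _)
    show L.map (sm S.X₁ r n) ≫ cokernel.π (L.map (v.app (op n))) = 0
    rw [← hχ, ← Category.assoc]
    exact (congrArg (· ≫ χ) h').trans zero_comp

/-- An isomorphism up to translation becomes an isomorphism in the limit. -/
theorem isIso_limEps {Y K : ARSys.PS (EtModW.Mod Λ X)} {v : Y ⟶ K} (hY : IsStrict Y) (h : IsARIso v) :
    IsIso ((limEps Λ X).map v) := by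
  let Φ := limEps Λ X
  haveI : Mono (Φ.map v) := Preadditive.mono_of_isZero_kernel _
    ((isZero_limEps h.1).of_iso (PreservesKernel.iso Φ v).symm)
  obtain ⟨r, hr⟩ := (isARNull_iff _).1 h.1
  haveI : Epi (Φ.map (Abelian.factorThruImage v)) := by
    have w0 : kernel.ι v ≫ Abelian.factorThruImage v = 0 := by
      rw [← cancel_mono (Abelian.image.ι v), Category.assoc, Abelian.image.fac, kernel.condition, zero_comp]
    refine epi_limEps (ShortComplex.mk (kernel.ι v) (Abelian.factorThruImage v) w0)
      { exact := ?_, mono_f := inferInstanceAs (Mono (kernel.ι v)),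
        epi_g := inferInstanceAs (Epi (Abelian.factorThruImage v)) }
      (0 : (0 : ARSys.PS (EtModW.Mod Λ X)) ⟶ kernel v) ?_ (r := r) ?_
    · refine ShortComplex.exact_of_f_is_kernel _ (KernelFork.IsLimit.ofι _ _
        (fun a ha => kernel.lift v a (by rw [← Abelian.image.fac v, ← Category.assoc, ha, zero_comp]))
        (fun a ha => kernel.lift_ι _ _ _) (fun a ha m hm => by
          rw [← cancel_mono (kernel.ι v), kernel.lift_ι]; exact hm))
    · intro n m hnm
      exact ⟨fun a b _ => ((isZero_zero (ARSys.PS (EtModW.Mod Λ X))).obj (op n)).eq_of_src _ _⟩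
    · intro n T ψ _
      exact (congrArg (· ≫ ψ) (hr n)).trans zero_comp
  haveI : IsIso (Φ.map (Abelian.image.ι v)) := by
    haveI : Mono (Φ.map (Abelian.image.ι v)) :=
      haveI : Mono (Abelian.image.ι v) := inferInstanceAs (Mono (kernel.ι _))
      inferInstance
    have hz := isZero_limEps (Λ := Λ) h.2
    haveI : IsIso (kernel.ι (Φ.map (cokernel.π v))) := by
      exact ⟨kernel.lift _ (𝟙 _) (hz.eq_of_tgt _ _),
        by rw [← cancel_mono (kernel.ι (Φ.map (cokernel.π v))), Category.assoc, kernel.lift_ι, Category.comp_id, Category.id_comp],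
        kernel.lift_ι _ _ _⟩
    have : Φ.map (Abelian.image.ι v) = (PreservesKernel.iso Φ (cokernel.π v)).hom ≫ kernel.ι (Φ.map (cokernel.π v)) := by
      rw [PreservesKernel.iso_hom]
      exact (kernelComparison_comp_ι _ Φ).symm
    rw [this]
    infer_instance
  haveI : Epi (Φ.map v) := by
    rw [← Abelian.image.fac v, Functor.map_comp]
    infer_instance
  exact isIso_of_mono_of_epi _

/-- The limit functor commutes with cokernels of maps out of strict systems with adic kernels. -/
theorem nonempty_cokernel_limEps {F G : ARSys.PS (EtModW.Mod Λ X)} (f : F ⟶ G) (hF : IsStrict F)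
    {Y : ARSys.PS (EtModW.Mod Λ X)} (v : Y ⟶ kernel f) (hY : IsStrict Y) (hv : IsARIso v) :
    Nonempty (cokernel ((limEps Λ X).map f) ≅ (limEps Λ X).obj (cokernel f)) := by
  let Φ := limEps Λ X
  obtain ⟨r, -, hr⟩ := exists_bounds hv
  haveI : Epi (Φ.map (Abelian.factorThruImage f)) := by
    have w0 : kernel.ι f ≫ Abelian.factorThruImage f = 0 := by
      rw [← cancel_mono (Abelian.image.ι f), Category.assoc, Abelian.image.fac, kernel.condition, zero_comp]
    refine epi_limEps (ShortComplex.mk (kernel.ι f) (Abelian.factorThruImage f) w0)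
      { exact := ?_, mono_f := inferInstanceAs (Mono (kernel.ι f)),
        epi_g := inferInstanceAs (Epi (Abelian.factorThruImage f)) } v hY (r := r) hr
    exact ShortComplex.exact_of_f_is_kernel _ (KernelFork.IsLimit.ofι _ _
        (fun a ha => kernel.lift f a (by rw [← Abelian.image.fac f, ← Category.assoc, ha, zero_comp]))
        (fun a ha => kernel.lift_ι _ _ _) (fun a ha m hm => by
          rw [← cancel_mono (kernel.ι f), kernel.lift_ι]; exact hm))
  haveI : Epi (Φ.map (cokernel.π f)) := by
    refine epi_limEps (ShortComplex.mk (Abelian.image.ι f) (cokernel.π f) (kernel.condition _))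
      { exact := ShortComplex.exact_of_f_is_kernel _ (kernelIsKernel _),
        mono_f := inferInstanceAs (Mono (kernel.ι _)),
        epi_g := inferInstanceAs (Epi (cokernel.π f)) } (Abelian.factorThruImage f) hF (r := 0) ?_
    intro n T ψ hψ
    haveI := epi_app (Abelian.factorThruImage f) n
    rw [show ψ = 0 from (cancel_epi ((Abelian.factorThruImage f).app (op n))).1 (hψ.trans comp_zero.symm),
      comp_zero]
  let S := ShortComplex.mk (Φ.map f) (Φ.map (cokernel.π f))
    (by rw [← Functor.map_comp, cokernel.condition, Functor.map_zero])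
  have hex : S.Exact := by
    rw [ShortComplex.exact_iff_epi_kernel_lift]
    have : kernel.lift S.g S.f S.zero =
        Φ.map (Abelian.factorThruImage f) ≫ (PreservesKernel.iso Φ (cokernel.π f)).hom := by
      rw [← cancel_mono (kernel.ι S.g), kernel.lift_ι, Category.assoc, PreservesKernel.iso_hom]
      show Φ.map f = _ ≫ kernelComparison (cokernel.π f) Φ ≫ kernel.ι (Φ.map (cokernel.π f))
      rw [kernelComparison_comp_ι]
      exact (congrArg Φ.map (Abelian.image.fac f).symm).trans (Φ.map_comp _ _)
    rw [this]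
    infer_instance
  haveI : Epi S.g := inferInstanceAs (Epi (Φ.map (cokernel.π f)))
  exact ⟨(cokernelIsCokernel _).coconePointUniqueUpToIso hex.gIsCokernel⟩

end Groth.Agent.EtModWLib
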