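import Groth.Agent.EtModWLib.EpsExt
import Groth.Agent.EtModWLib.ConsWeakSerre
import Groth.Agent.EtModWLib.LimitEpi
import Groth.Agent.S14010
import Groth.Agent.S14013
import Groth.Agent.S14014
import Groth.Agent.S14017
import Mathlib.Algebra.Homology.ShortComplex.SnakeLemma
import Mathlib.CategoryTheory.Limits.Preserves.Shapes.Kernels

/-!
# Extensions of adic pro-étale sheaves for a principal ideal
-/

set_option autoImplicit false
set_option linter.style.haveILetI false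

universe u

open CategoryTheory CategoryTheory.Limits AlgebraicGeometry Opposite ARSys

namespace Groth.Agent.EtModWLib.ExtAdic

open Groth.Agent Groth.Agent.ARLib Groth.Agent.EtModWLib

variable {Λ : Type (u + 1)} [CommRing Λ] {X : Scheme.{u}}

theorem mem_span_pow_smul {M : Type (u + 1)} [AddCommGroup M] [Module Λ M] (a : Λ) (k : ℕ) (x : M) :
    x ∈ (Ideal.span {a}) ^ k • (⊤ : Submodule Λ M) ↔ ∃ y, a ^ k • y = x := by
  rw [Ideal.span_singleton_pow, Submodule.ideal_span_singleton_smul]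
  exact ⟨fun h => by
    obtain ⟨y, -, hy⟩ := (Submodule.mem_smul_pointwise_iff_exists _ _ _).1 h
    exact ⟨y, hy⟩,
    fun ⟨y, hy⟩ => (Submodule.mem_smul_pointwise_iff_exists _ _ _).2 ⟨y, Submodule.mem_top, hy⟩⟩

/-- Completeness of an extension of complete modules whose quotient has bounded torsion. -/
theorem complete_extension {F G H : Type (u + 1)} [AddCommGroup F] [Module Λ F] [AddCommGroup G] [Module Λ G]
    [AddCommGroup H] [Module Λ H] (f : F →ₗ[Λ] G) (g : G →ₗ[Λ] H) (hf : Function.Injective f)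
    (hg : Function.Surjective g) (hfg : ∀ y, g y = 0 → ∃ x, f x = y) (hgf : ∀ x, g (f x) = 0) (a : Λ) (N : ℕ)
    (hN : ∀ (k : ℕ) (z : H), a ^ k • z = 0 → a ^ N • z = 0)
    (hsF : ∀ x : F, (∀ n : ℕ, ∃ y, a ^ (n + 1) • y = x) → x = 0)
    (hcF : ∀ x : ℕ → F, (∀ n, ∃ y, a ^ (n + 1) • y = x (n + 1) - x n) →
      ∃ l, ∀ n, ∃ y, a ^ (n + 1) • y = l - x n)
    (hsH : ∀ x : H, (∀ n : ℕ, ∃ y, a ^ (n + 1) • y = x) → x = 0)
    (hcH : ∀ x : ℕ → H, (∀ n, ∃ y, a ^ (n + 1) • y = x (n + 1) - x n) →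
      ∃ l, ∀ n, ∃ y, a ^ (n + 1) • y = l - x n) :
    (∀ x : G, (∀ n : ℕ, ∃ y, a ^ (n + 1) • y = x) → x = 0) ∧
    (∀ x : ℕ → G, (∀ n, ∃ y, a ^ (n + 1) • y = x (n + 1) - x n) →
      ∃ l, ∀ n, ∃ y, a ^ (n + 1) • y = l - x n) := by
  have key : ∀ (x : F) (n : ℕ) (y : G), a ^ (N + n) • y = f x → ∃ w, a ^ n • w = x := by
    intro x n y hy
    have h0 : g (a ^ N • y) = 0 := by
      rw [map_smul]
      refine hN (N + n) _ ?_
      rw [← map_smul, hy, hgf]
    obtain ⟨w, hw⟩ := hfg _ h0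
    exact ⟨w, hf (by rw [map_smul, hw, ← mul_smul, ← pow_add, add_comm, hy])⟩
  refine ⟨fun x hx => ?_, fun x hx => ?_⟩
  · obtain ⟨x', rfl⟩ := hfg x (hsH _ fun n => let ⟨y, hy⟩ := hx n; ⟨g y, by rw [← map_smul, hy]⟩)
    rw [hsF x' fun n => ?_, map_zero]
    obtain ⟨y, hy⟩ := hx (N + n)
    exact key x' (n + 1) y (by rw [show N + (n + 1) = N + n + 1 by omega]; exact hy)
  · obtain ⟨h, hh⟩ := hcH (fun n => g (x n)) fun n =>
      let ⟨y, hy⟩ := hx n; ⟨g y, by rw [← map_smul, hy, map_sub]⟩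
    obtain ⟨l₀, rfl⟩ := hg h
    have hy : ∀ n, ∃ y s, a ^ (n + 1) • s + f y = l₀ - x n := fun n => by
      obtain ⟨s, hs⟩ := hh n
      obtain ⟨s', rfl⟩ := hg s
      obtain ⟨y, hy⟩ := hfg (l₀ - x n - a ^ (n + 1) • s') (by rw [map_sub, map_smul, hs, map_sub, sub_self])
      exact ⟨y, s', by rw [hy]; abel⟩
    choose y s hys using hy
    have hz : ∀ n, ∃ w, a ^ (n + 1) • w = y (N + (n + 1)) - y (N + n) := fun n => by
      obtain ⟨t, ht⟩ := hx (N + n)
      refine key _ (n + 1) (s (N + n) - t - a • s (N + (n + 1))) ?_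
      rw [map_sub, show N + (n + 1) = N + n + 1 by omega]
      have h1 := hys (N + n + 1)
      have h2 := hys (N + n)
      rw [smul_sub, smul_sub, ← mul_smul, ← pow_succ, ht, eq_sub_of_add_eq h2, eq_sub_of_add_eq h1]
      abel
    obtain ⟨l, hl⟩ := hcF (fun n => y (N + n)) hz
    have hup : ∀ (n p : ℕ), ∃ w, a ^ (n + 1) • w = x (n + p) - x n := by
      intro n p
      induction p with
      | zero => exact ⟨0, by simp⟩
      | succ p ih =>
        obtain ⟨w, hw⟩ := ih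
        obtain ⟨t, ht⟩ := hx (n + p)
        refine ⟨w + a ^ p • t, ?_⟩
        rw [smul_add, hw, ← mul_smul, ← pow_add, show n + 1 + p = n + p + 1 by omega, ht]
        abel
    refine ⟨l₀ - f l, fun n => ?_⟩
    obtain ⟨w, hw⟩ := hl n
    obtain ⟨v, hv⟩ := hup n N
    have h2 := hys (N + n)
    refine ⟨v + a ^ N • s (N + n) - f w, ?_⟩
    rw [smul_sub, smul_add, ← map_smul, hw, hv, ← mul_smul, ← pow_add, map_sub,
      show n + 1 + N = N + n + 1 by omega, eq_sub_of_add_eq h2, Nat.add_comm n N]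
    abel

/-- The cokernel of multiplication by `c` is the quotient modulo `(c)`. -/
theorem isQuot_cokernel_smul (c : Λ) (F : EtModW.ModP Λ X) :
    IsQuot (Ideal.span {c}) (cokernel.π (c • 𝟙 F)) := by
  have hc : c • cokernel.π (c • 𝟙 F) = 0 := by
    have := cokernel.condition (c • 𝟙 F)
    rwa [Linear.smul_comp, Category.id_comp] at this
  refine isQuot_mk _ ?_ fun Y φ hφ => ⟨cokernel.desc _ φ ?_, cokernel.π_desc _ _ _⟩
  · intro b hb
    obtain ⟨d, rfl⟩ := Ideal.mem_span_singleton'.1 hb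
    rw [← cancel_epi (cokernel.π (c • 𝟙 F)), comp_zero, Linear.comp_smul, Category.comp_id, mul_smul, hc,
      smul_zero]
  · rw [Linear.smul_comp, Category.id_comp]
    exact hφ c (Ideal.subset_span rfl)

/-- Quotients modulo the same ideal are isomorphic. -/
noncomputable def quotIso {I : Ideal Λ} {F Q Q' : EtModW.ModP Λ X} {p : F ⟶ Q} {p' : F ⟶ Q'}
    (h : IsQuot I p) (h' : IsQuot I p') : Q ≅ Q' :=
  haveI := quot_epi h
  haveI := quot_epi h'
  { hom := (quot_fac h p' (killed_smul h'.1 p')).choose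
    inv := (quot_fac h' p (killed_smul h.1 p)).choose
    hom_inv_id := by
      rw [← cancel_epi p, ← Category.assoc, (quot_fac h p' (killed_smul h'.1 p')).choose_spec,
        (quot_fac h' p (killed_smul h.1 p)).choose_spec, Category.comp_id]
    inv_hom_id := by
      rw [← cancel_epi p', ← Category.assoc, (quot_fac h' p (killed_smul h.1 p)).choose_spec,
        (quot_fac h p' (killed_smul h'.1 p')).choose_spec, Category.comp_id] }

variable [_root_.ProEtS.EpsCont X]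

/-- Adic pro-étale sheaves. -/
def AdicP (I : Ideal Λ) (F : EtModW.ModP Λ X) : Prop :=
  ∃ (Q : ℕᵒᵖ ⥤ EtModW.ModP Λ X) (p : (Functor.const ℕᵒᵖ).obj F ⟶ Q),
    (∀ n : ℕ, ARSys.IsQuot (I ^ (n + 1)) (p.app (op n))) ∧
    (∀ n : ℕ, ∃ E : EtModW.Mod Λ X, EtModW.IsConstructible Λ E ∧
      Nonempty ((EtModW.epsPullMod Λ X).obj E ≅ Q.obj (op n))) ∧
    IsIso (limit.lift Q (Cone.mk F p))

/-- Constructible pro-étale sheaves. -/
def ConsP (Λ : Type (u + 1)) [CommRing Λ] (X : Scheme.{u}) [_root_.ProEtS.EpsCont X] :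
    ObjectProperty (EtModW.ModP Λ X) :=
  fun F => ∃ E : EtModW.Mod Λ X, EtModW.IsConstructible Λ E ∧ Nonempty ((EtModW.epsPullMod Λ X).obj E ≅ F)

/-- Sections over weakly contractible objects of adic sheaves are separated and complete. -/
theorem sect_complete (a : Λ) {F : EtModW.ModP Λ X} (hF : AdicP (Ideal.span {a}) F) (U : X.ProEt)
    (hU : _root_.ProEtS.IsWC U) :
    (∀ x : F.obj.obj (op U), (∀ n : ℕ, ∃ y, a ^ (n + 1) • y = x) → x = 0) ∧
    (∀ x : ℕ → F.obj.obj (op U), (∀ n, ∃ y, a ^ (n + 1) • y = x (n + 1) - x n) →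
      ∃ l, ∀ n, ∃ y, a ^ (n + 1) • y = l - x n) := by
  obtain ⟨Q, p, hQ, -, hiso⟩ := hF
  have hl : ∀ n (x : F.obj.obj (op U)),
      (limit.π Q (op n)).hom.app (op U) ((limit.lift Q (Cone.mk F p)).hom.app (op U) x) =
        (p.app (op n)).hom.app (op U) x :=
    fun n x => congrArg (fun k => k.hom.app (op U) x) (limit.lift_π (Cone.mk F p) (op n))
  have hker : ∀ n (x : F.obj.obj (op U)),
      (p.app (op n)).hom.app (op U) x = 0 ↔ ∃ y, a ^ (n + 1) • y = x := fun n x => by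
    rw [← mem_span_pow_smul,
      ← (S14017.main ((Ideal.span {a}) ^ (n + 1)) F (Ideal.FG.pow ⟨{a}, by simp⟩) _ _ (hQ n) U hU).2]
    exact Iff.rfl
  have hnat : ∀ n (x : F.obj.obj (op U)), (tr Q (Nat.le_succ n)).hom.app (op U) ((p.app (op (n + 1))).hom.app (op U) x) =
      (p.app (op n)).hom.app (op U) x := fun n x =>
    congrArg (fun k => k.hom.app (op U) x)
      ((p.naturality (homOfLE (Nat.le_succ n)).op).symm.trans (Category.id_comp _))
  have : IsIso ((limit.lift Q (Cone.mk F p)).hom.app (op U)) :=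
    inferInstanceAs (IsIso ((sectFun Λ U).map (limit.lift Q (Cone.mk F p))))
  have hb := ConcreteCategory.bijective_of_isIso ((limit.lift Q (Cone.mk F p)).hom.app (op U))
  refine ⟨fun x hx => hb.1 ?_, fun x hx => ?_⟩
  · rw [map_zero]
    exact limit_sect_ext Q U _ _ fun n => by rw [map_zero, hl]; exact (hker n x).2 (hx n)
  · obtain ⟨y, hy⟩ := exists_limit_sect Q U (fun n => (p.app (op n)).hom.app (op U) (x n)) fun n => by
      rw [hnat, ← sub_eq_zero, ← map_sub]
      exact (hker n _).2 (hx n)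
    obtain ⟨l, rfl⟩ := hb.2 y
    exact ⟨l, fun n => (hker n _).1 (by rw [map_sub, ← hl, hy, sub_self])⟩

variable [IsNoetherianRing Λ] [IsNoetherian X]

theorem isWeakSerre_consP : WSerre.IsWeakSerre (ConsP Λ X) :=
  haveI : WSerre.IsWeakSerre (fun E : EtModW.Mod Λ X => EtModW.IsConstructible Λ E) :=
    isWeakSerre_isConstructible
  isWeakSerre_image_epsPullMod (fun E => EtModW.IsConstructible Λ E)

theorem adicP_of_iso {I : Ideal Λ} {F F' : EtModW.ModP Λ X} (e : F ≅ F') (h : AdicP I F) : AdicP I F' := by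
  have hI : I.FG := IsNoetherian.noetherian I
  obtain ⟨G, hG, hGc, ⟨eG⟩⟩ := (S14010.result Λ I hI X F).1 h
  exact (S14010.result Λ I hI X F').2 ⟨G, hG, hGc, ⟨eG ≪≫ e⟩⟩

/-- The torsion of an adic sheaf is constructible. -/
theorem consP_kernel_smul (a : Λ) {H : EtModW.ModP Λ X} (hH : AdicP (Ideal.span {a}) H) (n : ℕ) :
    ConsP Λ X (kernel (a ^ (n + 1) • 𝟙 H)) := by
  obtain ⟨Q, p, hQ, hc, -⟩ := (S14013.result Λ _ X H H hH hH (a ^ (n + 1) • 𝟙 H)).1
  have hk : KilledBy ((Ideal.span {a}) ^ (n + 1)) (kernel (a ^ (n + 1) • 𝟙 H)) := by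
    intro b hb
    rw [Ideal.span_singleton_pow] at hb
    obtain ⟨d, rfl⟩ := Ideal.mem_span_singleton'.1 hb
    rw [← cancel_mono (kernel.ι (a ^ (n + 1) • 𝟙 H)), zero_comp, Linear.smul_comp, Category.id_comp, mul_smul]
    refine Eq.trans (congrArg (d • ·) ?_) (smul_zero d)
    refine Eq.trans ?_ (kernel.condition (a ^ (n + 1) • 𝟙 H))
    rw [Linear.comp_smul, Category.comp_id]
  obtain ⟨E, hE, ⟨e⟩⟩ := hc n
  exact ⟨E, hE, ⟨e ≪≫ quotIso (hQ n) (isQuot_id hk)⟩⟩

theorem consP_cokernel_smul (a : Λ) {F : EtModW.ModP Λ X} (hF : AdicP (Ideal.span {a}) F) (n : ℕ) :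
    ConsP Λ X (cokernel (a ^ (n + 1) • 𝟙 F)) := by
  obtain ⟨Q, p, hQ, hc, -⟩ := hF
  obtain ⟨E, hE, ⟨e⟩⟩ := hc n
  refine ⟨E, hE, ⟨e ≪≫ quotIso (p' := cokernel.π (a ^ (n + 1) • 𝟙 F)) (hQ n) ?_⟩⟩
  rw [Ideal.span_singleton_pow]
  exact isQuot_cokernel_smul _ F

/-- The torsion of an adic sheaf is bounded. -/
theorem exists_torsion_bound (a : Λ) {H : EtModW.ModP Λ X} (hH : AdicP (Ideal.span {a}) H) :
    ∃ N, ∀ k, kernel.ι (a ^ k • 𝟙 H) ≫ (a ^ N • 𝟙 H) = 0 := by
  let Z : ℕ →o Subobject H :=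
    ⟨fun k => kernelSubobject (a ^ k • 𝟙 H), fun i j hij => by
      refine le_kernelSubobject _ _ ?_
      obtain ⟨d, rfl⟩ := Nat.exists_eq_add_of_le hij
      rw [pow_add, mul_comm, mul_smul, Linear.comp_smul, kernelSubobject_arrow_comp, smul_zero]⟩
  obtain ⟨N, hN⟩ := S14014.result Λ (Ideal.span {a}) X H hH Z fun k =>
    adicP_of_iso (kernelSubobjectIso _).symm ((S14013.result Λ _ X H H hH hH (a ^ k • 𝟙 H)).1)
  refine ⟨N, fun k => ?_⟩
  rcases le_total k N with h | h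
  · obtain ⟨d, rfl⟩ := Nat.exists_eq_add_of_le h
    rw [pow_add, mul_comm, mul_smul, Linear.comp_smul, kernel.condition, smul_zero]
  · have hf : (Z k).Factors (kernel.ι (a ^ k • 𝟙 H)) := kernelSubobject_factors _ _ (kernel.condition _)
    rw [hN k h] at hf
    rw [← Subobject.factorThru_arrow _ _ hf, Category.assoc]
    exact (congrArg (_ ≫ ·) (kernelSubobject_arrow_comp (a ^ N • 𝟙 H))).trans comp_zero

/-- Multiplication by a scalar on a short complex. -/
noncomputable def smulEnd (S : ShortComplex (EtModW.ModP Λ X)) (c : Λ) : S ⟶ S where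
  τ₁ := c • 𝟙 S.X₁
  τ₂ := c • 𝟙 S.X₂
  τ₃ := c • 𝟙 S.X₃
  comm₁₂ := by rw [Linear.smul_comp, Linear.comp_smul, Category.id_comp, Category.comp_id]
  comm₂₃ := by rw [Linear.smul_comp, Linear.comp_smul, Category.id_comp, Category.comp_id]

/-- The quotients of an extension of adic sheaves are constructible. -/
theorem consP_cokernel_extension (a : Λ) {S : ShortComplex (EtModW.ModP Λ X)} (hS : S.ShortExact)
    (h₁ : AdicP (Ideal.span {a}) S.X₁) (h₃ : AdicP (Ideal.span {a}) S.X₃) (n : ℕ) :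
    ConsP Λ X (cokernel (a ^ (n + 1) • 𝟙 S.X₂)) := by
  haveI := isWeakSerre_consP (Λ := Λ) (X := X)
  haveI := hS.mono_f
  haveI := hS.epi_g
  let φ := smulEnd S (a ^ (n + 1))
  let T : ShortComplex.SnakeInput (EtModW.ModP Λ X) :=
    { L₀ := kernel φ
      L₁ := S
      L₂ := S
      L₃ := cokernel φ
      v₀₁ := kernel.ι φ
      v₁₂ := φ
      v₂₃ := cokernel.π φ
      w₀₂ := kernel.condition φ
      w₁₃ := cokernel.condition φ
      h₀ := kernelIsKernel φ
      h₃ := cokernelIsCokernel φ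
      L₁_exact := hS.exact
      epi_L₁_g := hS.epi_g
      L₂_exact := hS.exact
      mono_L₂_f := hS.mono_f }
  have hK : ConsP Λ X T.L₀.X₃ :=
    (ConsP Λ X).prop_of_iso (PreservesKernel.iso (ShortComplex.π₃ : _ ⥤ EtModW.ModP Λ X) φ).symm
      (consP_kernel_smul a h₃ n)
  have hA : ConsP Λ X T.L₃.X₁ :=
    (ConsP Λ X).prop_of_iso (PreservesCokernel.iso (ShortComplex.π₁ : _ ⥤ EtModW.ModP Λ X) φ).symm
      (consP_cokernel_smul a h₁ n)
  have hC : ConsP Λ X T.L₃.X₃ :=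
    (ConsP Λ X).prop_of_iso (PreservesCokernel.iso (ShortComplex.π₃ : _ ⥤ EtModW.ModP Λ X) φ).symm
      (consP_cokernel_smul a h₃ n)
  refine (ConsP Λ X).prop_of_iso (PreservesCokernel.iso (ShortComplex.π₂ : _ ⥤ EtModW.ModP Λ X) φ) ?_
  let d : cokernel T.δ ⟶ T.L₃.X₂ := cokernel.desc T.δ T.L₃.f T.δ_L₃_f
  have hd : Mono d := T.L₂'_exact.mono_cokernelDesc
  have w : d ≫ T.L₃.g = 0 := by
    rw [← cancel_epi (cokernel.π T.δ), cokernel.π_desc_assoc, T.L₃.zero, comp_zero]
  haveI : Epi T.L₃.g := T.epi_L₃_g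
  let ψ : T.L₃ ⟶ ShortComplex.mk d T.L₃.g w :=
    { τ₁ := cokernel.π T.δ
      τ₂ := 𝟙 _
      τ₃ := 𝟙 _
      comm₁₂ := (cokernel.π_desc _ _ _).trans (Category.comp_id _).symm
      comm₂₃ := (Category.id_comp _).trans (Category.comp_id _).symm }
  have hψ₁ : Epi ψ.τ₁ := coequalizer.π_epi
  have hψ₂ : IsIso ψ.τ₂ := IsIso.id _
  have hψ₃ : IsIso ψ.τ₃ := IsIso.id _
  have hex : (ShortComplex.mk d T.L₃.g w).Exact :=
    (@ShortComplex.exact_iff_of_epi_of_isIso_of_mono _ _ _ _ _ ψ hψ₁ hψ₂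
      (@IsIso.mono_of_iso _ _ _ _ ψ.τ₃ hψ₃)).1 T.L₃_exact
  exact (ConsP Λ X).prop_X₂_of_shortExact
    (S := ShortComplex.mk d T.L₃.g w) (ShortComplex.ShortExact.mk' hex hd inferInstance)
    ((ConsP Λ X).prop_cokernel T.δ hK hA) hC

/-- Extensions of adic sheaves are adic. -/
theorem adicP_extension (a : Λ) {S : ShortComplex (EtModW.ModP Λ X)} (hS : S.ShortExact)
    (h₁ : AdicP (Ideal.span {a}) S.X₁) (h₃ : AdicP (Ideal.span {a}) S.X₃) :
    AdicP (Ideal.span {a}) S.X₂ := by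
  haveI := hS.mono_f
  haveI := hS.epi_g
  let G := S.X₂
  let c : ℕ → (G ⟶ G) := fun n => a ^ (n + 1) • 𝟙 G
  have hc : ∀ {n m : ℕ}, n ≤ m → c m ≫ cokernel.π (c n) = 0 := fun {n m} h => by
    obtain ⟨d, rfl⟩ := Nat.exists_eq_add_of_le h
    show (a ^ (n + d + 1) • 𝟙 G) ≫ _ = 0
    rw [show n + d + 1 = d + (n + 1) by omega, pow_add, mul_smul, Linear.smul_comp]
    exact (congrArg (a ^ d • ·) (cokernel.condition (c n))).trans (smul_zero _)
  let Q : ℕᵒᵖ ⥤ EtModW.ModP Λ X :=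
    { obj := fun n => cokernel (c n.unop)
      map := fun {n m} r => cokernel.desc _ (cokernel.π (c m.unop)) (hc (leOfHom r.unop))
      map_id := fun n => by rw [← cancel_epi (cokernel.π _), cokernel.π_desc, Category.comp_id]
      map_comp := fun r r' => by
        rw [← cancel_epi (cokernel.π _), cokernel.π_desc, cokernel.π_desc_assoc, cokernel.π_desc] }
  let p : (Functor.const ℕᵒᵖ).obj G ⟶ Q :=
    { app := fun n => cokernel.π (c n.unop)
      naturality := fun n m r => (Category.id_comp _).trans (cokernel.π_desc _ _ _).symm }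
  have hQ : ∀ n : ℕ, IsQuot ((Ideal.span {a}) ^ (n + 1)) (p.app (op n)) := fun n => by
    rw [Ideal.span_singleton_pow]
    exact isQuot_cokernel_smul (a ^ (n + 1)) G
  refine ⟨Q, p, hQ, fun n => consP_cokernel_extension a hS h₁ h₃ n, ?_⟩
  obtain ⟨N, hN⟩ := exists_torsion_bound a h₃
  have main : ∀ (U : X.ProEt), _root_.ProEtS.IsWC U →
      Function.Bijective ((limit.lift Q (Cone.mk G p)).hom.app (op U)) := by
    intro U hU
    obtain ⟨sF, cF⟩ := sect_complete a h₁ U hU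
    obtain ⟨sH, cH⟩ := sect_complete a h₃ U hU
    have hinj : Function.Injective (S.f.hom.app (op U)) := by
      have : Mono ((sectFun Λ U).map S.f) := inferInstance
      exact (ModuleCat.mono_iff_injective _).1 this
    obtain ⟨sG, cG⟩ := complete_extension (S.f.hom.app (op U)).hom (S.g.hom.app (op U)).hom hinj
      (surjective_of_epi_wc S.g U hU) (fun y hy => exists_lift_wc S hS.exact U hU y hy)
      (fun x => congrArg (fun k => k.hom.app (op U) x) S.zero) a N
      (fun k z hz => by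
        obtain ⟨t, rfl⟩ := exists_lift_kernel (a ^ k • 𝟙 S.X₃) U z hz
        exact congrArg (fun q => q.hom.app (op U) t) (hN k))
      sF cF sH cH
    have hl : ∀ n (x : G.obj.obj (op U)),
        (limit.π Q (op n)).hom.app (op U) ((limit.lift Q (Cone.mk G p)).hom.app (op U) x) =
          (p.app (op n)).hom.app (op U) x :=
      fun n x => congrArg (fun k => k.hom.app (op U) x) (limit.lift_π (Cone.mk G p) (op n))
    have hq := fun n =>
      S14017.main ((Ideal.span {a}) ^ (n + 1)) G (Ideal.FG.pow ⟨{a}, by simp⟩) _ _ (hQ n) U hU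
    have hker : ∀ n (x : G.obj.obj (op U)),
        (p.app (op n)).hom.app (op U) x = 0 ↔ ∃ y, a ^ (n + 1) • y = x := fun n x => by
      rw [← mem_span_pow_smul, ← (hq n).2]
      exact Iff.rfl
    refine ⟨(injective_iff_map_eq_zero _).2 fun x hx => sG x fun n => (hker n x).1 ?_, fun y => ?_⟩
    · rw [← hl, hx, map_zero]
    · choose x hx using fun n => (hq n).1 ((limit.π Q (op n)).hom.app (op U) y)
      have hx' : ∀ n, (p.app (op n)).hom.app (op U) (x n) = (limit.π Q (op n)).hom.app (op U) y := hx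
      have hnat : ∀ n (z : G.obj.obj (op U)), (p.app (op n)).hom.app (op U) z =
          (tr Q (Nat.le_succ n)).hom.app (op U) ((p.app (op (n + 1))).hom.app (op U) z) := fun n z =>
        congrArg (fun k => k.hom.app (op U) z)
          ((Category.id_comp _).symm.trans (p.naturality (homOfLE (Nat.le_succ n)).op))
      obtain ⟨l, hl'⟩ := cG x fun n => (hker n _).1 (by
        rw [map_sub, hx', hnat, hx', limit_sect_tr, sub_self])
      refine ⟨l, limit_sect_ext Q U _ _ fun n => ?_⟩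
      rw [hl, ← hx', ← sub_eq_zero, ← map_sub]
      exact (hker n _).2 (hl' n)
  haveI : Mono (limit.lift Q (Cone.mk G p)) := ⟨fun {T} u v huv => hom_ext_wc fun U hU s =>
    (main U hU).1 (congrArg (fun k => k.hom.app (op U) s) huv)⟩
  haveI : Epi (limit.lift Q (Cone.mk G p)) := epi_of_wc _ fun U hU => (main U hU).2
  exact isIso_of_mono_of_epi _

end Groth.Agent.EtModWLib.ExtAdic
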