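import Groth.Agent.EtModWLib.Stalk
import Groth.Agent.EtaleSite.Pull

/-!
# Inverse image of sheaves of modules and stalks
-/

universe u

open CategoryTheory CategoryTheory.Limits AlgebraicGeometry Opposite

namespace Groth.Agent.EtModWLib

open Groth.Agent

variable {Λ : Type (u + 1)} [CommRing Λ] {X Y : Scheme.{u}} (f : X ⟶ Y)

/-- The adjunction between inverse and direct image. -/
noncomputable def pullPushAdj : EtModW.pull Λ f ⊣ EtModW.push Λ f :=
  (EtCoh.bc f).sheafAdjunctionContinuous (ModuleCat.{u + 1} Λ) Y.smallEtaleTopology X.smallEtaleTopology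

instance isRightAdjoint_push : (EtModW.push Λ f).IsRightAdjoint :=
  (pullPushAdj f).isRightAdjoint

instance isLeftAdjoint_pull : (EtModW.pull Λ f).IsLeftAdjoint :=
  (pullPushAdj f).isLeftAdjoint

/-- The stalk of `f⁻¹G` at `ξ` is the stalk of `G` at `ξ ≫ f`, functorially in `G`. -/
noncomputable def stalkPullIso {Ω : Type u} [Field Ω] [IsSepClosed Ω]
    (ξ : Spec (CommRingCat.of Ω) ⟶ X) :
    EtModW.pull Λ f ⋙ EtModW.stalk Λ ξ ≅ EtModW.stalk Λ (ξ ≫ f) :=
  ((Scheme.pointSmallEtale ξ).sheafFiberComapIso (EtCoh.bc f) (EtCoh.coverPreserving_bc f)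
    (ModuleCat.{u + 1} Λ)).symm ≪≫
      (EtaleSite.sheafFiberIsoOfPointIso (EtaleSite.pointBcIso f ξ)).symm

instance additive_pull : (EtModW.pull Λ f).Additive :=
  (pullPushAdj f).left_adjoint_additive

instance preservesFiniteColimits_pull : PreservesFiniteColimits (EtModW.pull Λ f) :=
  have : PreservesColimitsOfSize.{0, 0} (EtModW.pull Λ f) := (pullPushAdj f).leftAdjoint_preservesColimits
  inferInstance

/-- Inverse image is exact. -/
instance preservesFiniteLimits_pull : PreservesFiniteLimits (EtModW.pull Λ f) := by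
  suffices h : ∀ S : ShortComplex (EtModW.Mod Λ Y), S.Exact → (S.map (EtModW.pull Λ f)).Exact from
    ((((EtModW.pull Λ f).exact_tfae.out 1 3 rfl rfl).1 h :
      PreservesFiniteLimits (EtModW.pull Λ f) ∧ PreservesFiniteColimits (EtModW.pull Λ f))).1
  intro S hS
  rw [exact_iff_stalk]
  intro Ω _ _ ξ
  exact (ShortComplex.exact_iff_of_iso (S.mapNatIso (stalkPullIso f ξ))).2
    (hS.map (EtModW.stalk Λ (ξ ≫ f)))

end Groth.Agent.EtModWLib
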