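import Groth.Prelude.Def_EtMod2
import Groth.Agent.EtaleSite.Stalk
import Mathlib.Algebra.Category.ModuleCat.Abelian
import Mathlib.Algebra.Category.ModuleCat.EpiMono

/-!
# Stalks for sheaves of modules on the small étale site

The analogue of `Groth.Agent.EtaleSite.Stalk` for sheaves of `Λ`-modules.
-/

universe u

open CategoryTheory CategoryTheory.Limits AlgebraicGeometry Opposite

namespace Groth.Agent.EtModWLib

open Groth.Agent

instance instHasLimitsModuleCat (Λ : Type (u + 1)) [CommRing Λ] :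
    HasLimitsOfSize.{u, u} (ModuleCat.{u + 1} Λ) :=
  hasLimitsOfSizeShrink.{u, u, u + 1, u + 1} _

instance instHasColimitsModuleCat (Λ : Type (u + 1)) [CommRing Λ] :
    HasColimitsOfSize.{u, u} (ModuleCat.{u + 1} Λ) :=
  hasColimitsOfSizeShrink.{u, u, u + 1, u + 1} _

instance instAB5ModuleCat (Λ : Type (u + 1)) [CommRing Λ] :
    AB5OfSize.{u, u} (ModuleCat.{u + 1} Λ) :=
  AB5OfSize_of_univLE.{u, u, u + 1, u + 1} _

instance instPreservesFilteredColimitsForgetModuleCat (Λ : Type (u + 1)) [CommRing Λ] :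
    PreservesFilteredColimitsOfSize.{u, u} (forget (ModuleCat.{u + 1} Λ)) :=
  preservesFilteredColimitsOfSize_of_univLE.{u + 1, u + 1} _

variable {Λ : Type (u + 1)} [CommRing Λ] {X : Scheme.{u}}

instance preservesFiniteLimits_stalk {Ω : Type u} [Field Ω] [IsSepClosed Ω]
    (ξ : Spec (CommRingCat.of Ω) ⟶ X) : PreservesFiniteLimits (EtModW.stalk Λ ξ) :=
  inferInstance

instance additive_stalk {Ω : Type u} [Field Ω] [IsSepClosed Ω]
    (ξ : Spec (CommRingCat.of Ω) ⟶ X) : (EtModW.stalk Λ ξ).Additive :=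
  Functor.additive_of_preserves_binary_products _

/-- The germ at `x` of sections over `U`. -/
noncomputable abbrev germ {Ω : Type u} [Field Ω] [IsSepClosed Ω]
    (ξ : Spec (CommRingCat.of Ω) ⟶ X) (F : EtModW.Mod Λ X) (U : X.Etale)
    (x : (Scheme.pointSmallEtale ξ).fiber.obj U) :
    F.obj.obj (op U) ⟶ (EtModW.stalk Λ ξ).obj F :=
  (Scheme.pointSmallEtale ξ).toPresheafFiber U x F.obj

section Germ

variable {Ω : Type u} [Field Ω] [IsSepClosed Ω] (ξ : Spec (CommRingCat.of Ω) ⟶ X)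

theorem germ_naturality {F G : EtModW.Mod Λ X} (a : F ⟶ G) (U : X.Etale)
    (x : (Scheme.pointSmallEtale ξ).fiber.obj U) (s : F.obj.obj (op U)) :
    (EtModW.stalk Λ ξ).map a (germ ξ F U x s) = germ ξ G U x (a.hom.app (op U) s) :=
  (Scheme.pointSmallEtale ξ).toPresheafFiber_naturality_apply a.hom U x s

theorem germ_res (F : EtModW.Mod Λ X) {V U : X.Etale} (g : V ⟶ U)
    (y : (Scheme.pointSmallEtale ξ).fiber.obj V) (s : F.obj.obj (op U)) :
    germ ξ F V y (F.obj.map g.op s) =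
      germ ξ F U ((Scheme.pointSmallEtale ξ).fiber.map g y) s :=
  (Scheme.pointSmallEtale ξ).toPresheafFiber_w_apply g y F.obj s

theorem exists_germ_eq (F : EtModW.Mod Λ X) (p : ↑((EtModW.stalk Λ ξ).obj F)) :
    ∃ (U : X.Etale) (x : (Scheme.pointSmallEtale ξ).fiber.obj U) (s : F.obj.obj (op U)),
      germ ξ F U x s = p :=
  (Scheme.pointSmallEtale ξ).toPresheafFiber_jointly_surjective p

theorem germ_eq_iff (F : EtModW.Mod Λ X) (U : X.Etale)
    (x : (Scheme.pointSmallEtale ξ).fiber.obj U) (s t : F.obj.obj (op U)) :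
    germ ξ F U x s = germ ξ F U x t ↔
      ∃ (V : X.Etale) (g : V ⟶ U) (y : (Scheme.pointSmallEtale ξ).fiber.obj V),
        (Scheme.pointSmallEtale ξ).fiber.map g y = x ∧ F.obj.map g.op s = F.obj.map g.op t :=
  (Scheme.pointSmallEtale ξ).toPresheafFiber_eq_iff' U x s t

end Germ

/-- A section all whose germs vanish is zero; equality version. -/
theorem sect_ext {F : EtModW.Mod Λ X} {U : X.Etale} (s t : F.obj.obj (op U))
    (h : ∀ (Ω : Type u) [Field Ω] [IsSepClosed Ω] (ξ : Spec (CommRingCat.of Ω) ⟶ X)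
      (x : (Scheme.pointSmallEtale ξ).fiber.obj U), germ ξ F U x s = germ ξ F U x t) :
    s = t := by
  have hS : Presheaf.equalizerSieve (F := F.obj) s t ∈ X.smallEtaleTopology U := by
    refine EtaleSite.mem_topology_of_forall_geomPoint _ fun Ω _ _ ξ x => ?_
    obtain ⟨V, g, y, hy, e⟩ := (germ_eq_iff ξ F U x s t).1 (h Ω ξ x)
    exact ⟨V, g, y, e, hy⟩
  exact F.property.isSeparated _ _ hS s t fun V g hg => hg

theorem hom_ext_of_stalk {F G : EtModW.Mod Λ X} {a b : F ⟶ G}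
    (h : ∀ (Ω : Type u) [Field Ω] [IsSepClosed Ω] (ξ : Spec (CommRingCat.of Ω) ⟶ X),
      (EtModW.stalk Λ ξ).map a = (EtModW.stalk Λ ξ).map b) : a = b := by
  ext U s
  refine sect_ext (U := U.unop) _ _ fun Ω _ _ ξ x => ?_
  rw [← germ_naturality, ← germ_naturality, h]

theorem injective_app_of_stalk {F G : EtModW.Mod Λ X} (a : F ⟶ G)
    (h : ∀ (Ω : Type u) [Field Ω] [IsSepClosed Ω] (ξ : Spec (CommRingCat.of Ω) ⟶ X),
      Function.Injective ((EtModW.stalk Λ ξ).map a)) (U : X.Etaleᵒᵖ) :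
    Function.Injective (a.hom.app U) := by
  intro s t hst
  refine sect_ext (U := U.unop) _ _ fun Ω _ _ ξ x => h Ω ξ ?_
  rw [germ_naturality, germ_naturality, hst]

theorem mono_of_stalk {F G : EtModW.Mod Λ X} (a : F ⟶ G)
    (h : ∀ (Ω : Type u) [Field Ω] [IsSepClosed Ω] (ξ : Spec (CommRingCat.of Ω) ⟶ X),
      Function.Injective ((EtModW.stalk Λ ξ).map a)) : Mono a := by
  have : ∀ U, Mono (a.hom.app U) := fun U =>
    (ModuleCat.mono_iff_injective _).2 (injective_app_of_stalk a h U)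
  have : Mono a.hom := NatTrans.mono_of_mono_app _
  exact (sheafToPresheaf _ _).mono_of_mono_map this

theorem isLocallySurjective_of_stalk {F G : EtModW.Mod Λ X} (a : F ⟶ G)
    (h : ∀ (Ω : Type u) [Field Ω] [IsSepClosed Ω] (ξ : Spec (CommRingCat.of Ω) ⟶ X),
      Function.Surjective ((EtModW.stalk Λ ξ).map a)) : Sheaf.IsLocallySurjective a := by
  constructor
  intro U t
  refine EtaleSite.mem_topology_of_forall_geomPoint _ fun Ω _ _ ξ x => ?_
  obtain ⟨p, hp⟩ := h Ω ξ (germ ξ G U x t)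
  obtain ⟨V, y, s, rfl⟩ := exists_germ_eq ξ F p
  rw [germ_naturality] at hp
  -- a common refinement of the two neighbourhoods
  obtain ⟨z, ⟨p₁, hp₁⟩, ⟨p₂, hp₂⟩, -⟩ :=
    IsCofilteredOrEmpty.cone_objs
      ((Scheme.pointSmallEtale ξ).fiber.elementsMk _ x)
      ((Scheme.pointSmallEtale ξ).fiber.elementsMk _ y)
  have hz : germ ξ G z.1 z.2 (G.obj.map p₂.op (a.hom.app _ s)) =
      germ ξ G z.1 z.2 (G.obj.map p₁.op t) := by
    rw [germ_res, germ_res, hp₁, hp₂]
    exact hp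
  obtain ⟨W, g, w, hw, hst⟩ := (germ_eq_iff ξ G z.1 z.2 _ _).1 hz
  refine ⟨W, g ≫ p₁, w, ⟨F.obj.map (g ≫ p₂).op s, ?_⟩, ?_⟩
  · rw [NatTrans.naturality_apply, op_comp, op_comp, Functor.map_comp, Functor.map_comp]
    exact hst
  · rw [Functor.map_comp]
    exact (congrArg _ hw).trans hp₁

theorem epi_of_stalk {F G : EtModW.Mod Λ X} (a : F ⟶ G)
    (h : ∀ (Ω : Type u) [Field Ω] [IsSepClosed Ω] (ξ : Spec (CommRingCat.of Ω) ⟶ X),
      Function.Surjective ((EtModW.stalk Λ ξ).map a)) : Epi a :=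
  have := isLocallySurjective_of_stalk a h
  inferInstance

theorem isIso_of_stalk {F G : EtModW.Mod Λ X} (a : F ⟶ G)
    (h : ∀ (Ω : Type u) [Field Ω] [IsSepClosed Ω] (ξ : Spec (CommRingCat.of Ω) ⟶ X),
      IsIso ((EtModW.stalk Λ ξ).map a)) : IsIso a :=
  have := mono_of_stalk a fun Ω _ _ ξ =>
    have := h Ω ξ
    (ConcreteCategory.bijective_of_isIso ((EtModW.stalk Λ ξ).map a)).1
  have := epi_of_stalk a fun Ω _ _ ξ =>
    have := h Ω ξ
    (ConcreteCategory.bijective_of_isIso ((EtModW.stalk Λ ξ).map a)).2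
  isIso_of_mono_of_epi a

theorem isZero_iff_stalk (F : EtModW.Mod Λ X) :
    IsZero F ↔ ∀ (Ω : Type u) [Field Ω] [IsSepClosed Ω] (ξ : Spec (CommRingCat.of Ω) ⟶ X),
      IsZero ((EtModW.stalk Λ ξ).obj F) := by
  refine ⟨fun h Ω _ _ ξ => (EtModW.stalk Λ ξ).map_isZero h, fun h => ?_⟩
  rw [IsZero.iff_id_eq_zero]
  exact hom_ext_of_stalk fun Ω _ _ ξ => (h Ω ξ).eq_of_src _ _

theorem mono_iff_stalk {F G : EtModW.Mod Λ X} (a : F ⟶ G) :
    Mono a ↔ ∀ (Ω : Type u) [Field Ω] [IsSepClosed Ω] (ξ : Spec (CommRingCat.of Ω) ⟶ X),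
      Function.Injective ((EtModW.stalk Λ ξ).map a) :=
  ⟨fun _ Ω _ _ ξ => (ModuleCat.mono_iff_injective _).1 inferInstance, mono_of_stalk a⟩

theorem epi_iff_stalk {F G : EtModW.Mod Λ X} (a : F ⟶ G) :
    Epi a ↔ ∀ (Ω : Type u) [Field Ω] [IsSepClosed Ω] (ξ : Spec (CommRingCat.of Ω) ⟶ X),
      Function.Surjective ((EtModW.stalk Λ ξ).map a) :=
  ⟨fun _ Ω _ _ ξ => (ModuleCat.epi_iff_surjective _).1 inferInstance, epi_of_stalk a⟩

theorem exact_iff_stalk (S : ShortComplex (EtModW.Mod Λ X)) :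
    S.Exact ↔ ∀ (Ω : Type u) [Field Ω] [IsSepClosed Ω] (ξ : Spec (CommRingCat.of Ω) ⟶ X),
      (S.map (EtModW.stalk Λ ξ)).Exact := by
  refine ⟨fun h Ω _ _ ξ => h.map _, fun h => ?_⟩
  rw [ShortComplex.exact_iff_isZero_homology, isZero_iff_stalk]
  intro Ω _ _ ξ
  exact ((ShortComplex.exact_iff_isZero_homology _).1 (h Ω ξ)).of_iso
    (S.mapHomologyIso (EtModW.stalk Λ ξ)).symm

end Groth.Agent.EtModWLib
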