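import Groth.Agent.EtaleSite.ExtZeroStalk
import Groth.Agent.EtModWLib.Stalk
import Groth.Prelude.Def_SixF2
import Mathlib.CategoryTheory.Sites.Point.Skyscraper

/-!
# Stalks of the extension by zero along an étale morphism

`(j_! F)_ξ` is the sum of the stalks `F_u` over the lifts `u` of `ξ`.
-/

universe u

open CategoryTheory CategoryTheory.Limits AlgebraicGeometry Opposite

noncomputable section

namespace Groth.Agent.EtModWLib

open Groth.Agent Groth.Agent.EtaleSite

variable {Λ : Type (u + 1)} [CommRing Λ] {U X : Scheme.{u}} (j : U ⟶ X) [Etale j] {Ω : Type u} [Field Ω] [IsSepClosed Ω]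
  (ξ : Spec (CommRingCat.of Ω) ⟶ X)

variable {j ξ}

omit [Etale j] in
theorem germ_comp_congr (F : EtModW.Mod Λ U) {M : ModuleCat.{u + 1} Λ}
    (c : ∀ u : PtLift j ξ, (EtModW.stalk Λ u.1).obj F ⟶ M) {W : U.Etale} {u₁ u₂ : PtLift j ξ}
    (hu : u₁ = u₂) (w₁ : (Scheme.pointSmallEtale u₁.1).fiber.obj W)
    (w₂ : (Scheme.pointSmallEtale u₂.1).fiber.obj W)
    (hw : (show Over.mk u₁.1 ⟶ _ from w₁).left = (show Over.mk u₂.1 ⟶ _ from w₂).left) :
    germ u₁.1 F W w₁ ≫ c u₁ = germ u₂.1 F W w₂ ≫ c u₂ := by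
  subst hu
  rw [show w₁ = w₂ from Over.OverMorphism.ext hw]

variable (j ξ) [EtShriek.JCont j] (F : EtModW.Mod Λ U)

/-- `F_u ⟶ (j_! F)_ξ`. -/
def stalkIncl (u : PtLift j ξ) :
    (EtModW.stalk Λ u.1).obj F ⟶ (EtModW.stalk Λ ξ).obj ((EtSix.extZeroMod Λ j).obj F) :=
  (Scheme.pointSmallEtale u.1).presheafFiberDesc
    (fun W w => ((EtSix.extZeroModAdj Λ j).unit.app F).hom.app (op W) ≫
      germ ξ ((EtSix.extZeroMod Λ j).obj F) ((EtShriek.compEtale j).obj W) (upPt u w))
    (fun {W W'} g w => by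
      refine ((Category.assoc _ _ _).symm.trans ((congrArg
        (· ≫ germ ξ ((EtSix.extZeroMod Λ j).obj F) ((EtShriek.compEtale j).obj W) (upPt u w))
        (((EtSix.extZeroModAdj Λ j).unit.app F).hom.naturality g.op)).trans
          (Category.assoc _ _ _))).trans (congrArg
            (((EtSix.extZeroModAdj Λ j).unit.app F).hom.app (op W') ≫ ·) ?_)
      refine ((Scheme.pointSmallEtale ξ).toPresheafFiber_w ((EtShriek.compEtale j).map g)
        (upPt u w) ((EtSix.extZeroMod Λ j).obj F).obj).trans ?_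
      rfl)

theorem germ_stalkIncl (u : PtLift j ξ) (W : U.Etale)
    (w : (Scheme.pointSmallEtale u.1).fiber.obj W) :
    germ u.1 F W w ≫ stalkIncl j ξ F u =
      ((EtSix.extZeroModAdj Λ j).unit.app F).hom.app (op W) ≫
        germ ξ ((EtSix.extZeroMod Λ j).obj F) ((EtShriek.compEtale j).obj W) (upPt u w) :=
  GrothendieckTopology.Point.toPresheafFiber_presheafFiberDesc _ _ _ _ _

variable {M : ModuleCat.{u + 1} Λ}

/-- Morphisms out of the stalk of `j_! F`. -/
def transpose :
    ((EtModW.stalk Λ ξ).obj ((EtSix.extZeroMod Λ j).obj F) ⟶ M) ≃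
      (F ⟶ (EtSix.restrMod Λ j).obj ((Scheme.pointSmallEtale ξ).skyscraperSheafFunctor.obj M)) :=
  ((Scheme.pointSmallEtale ξ).skyscraperSheafAdjunction.homEquiv _ _).trans
    ((EtSix.extZeroModAdj Λ j).homEquiv _ _)

theorem transpose_app_π (f : (EtModW.stalk Λ ξ).obj ((EtSix.extZeroMod Λ j).obj F) ⟶ M) (W : U.Etale)
    (t : (Scheme.pointSmallEtale ξ).fiber.obj ((EtShriek.compEtale j).obj W)) :
    (transpose j ξ F f).hom.app (op W) ≫ Pi.π (fun _ => M) t =
      ((EtSix.extZeroModAdj Λ j).unit.app F).hom.app (op W) ≫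
        germ ξ ((EtSix.extZeroMod Λ j).obj F) ((EtShriek.compEtale j).obj W) t ≫ f := by
  rw [transpose, Equiv.trans_apply, Adjunction.homEquiv_unit]
  refine (Category.assoc _ _ _).trans
    (congrArg (((EtSix.extZeroModAdj Λ j).unit.app F).hom.app (op W) ≫ ·) ?_)
  show ((((Scheme.pointSmallEtale ξ).skyscraperSheafAdjunction.homEquiv
    ((EtSix.extZeroMod Λ j).obj F) M) f).hom.app (op ((EtShriek.compEtale j).obj W))) ≫ _ = _
  erw [GrothendieckTopology.Point.skyscraperSheafAdjunction_homEquiv_apply_hom,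
    GrothendieckTopology.Point.skyscraperPresheafHomEquiv_apply_app]
  exact Pi.lift_π (f := fun _ => M) _ t

/-- The map to skyscrapers given by a family of maps on the stalks. -/
def descSheafHom (c : ∀ u : PtLift j ξ, (EtModW.stalk Λ u.1).obj F ⟶ M) :
    F ⟶ (EtSix.restrMod Λ j).obj ((Scheme.pointSmallEtale ξ).skyscraperSheafFunctor.obj M) where
  hom :=
    { app := fun W => Pi.lift fun t => germ (liftOf t).1 F W.unop (ptOf t) ≫ c (liftOf t)
      naturality := fun W W' g => by
        change F.obj.map g ≫ Pi.lift _ = Pi.lift _ ≫ Pi.lift _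
        refine Pi.hom_ext _ _ fun t => ?_
        simp only [Category.assoc]
        erw [Pi.lift_π, Pi.lift_π, Pi.lift_π, ← Category.assoc]
        refine (congrArg (· ≫ c (liftOf t))
          ((Scheme.pointSmallEtale (liftOf t).1).toPresheafFiber_w g.unop (ptOf t) F.obj)).trans ?_
        refine germ_comp_congr F c (Subtype.ext ?_) _ _ rfl
        exact ((Category.assoc _ _ _).trans
          (congrArg (liftLeft t ≫ ·) (MorphismProperty.Over.w g.unop))).symm }

/-- The stalk of `j_! F` is the sum of the stalks at the lifts. -/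
def isColimitStalkIncl :
    IsColimit (Cofan.mk ((EtModW.stalk Λ ξ).obj ((EtSix.extZeroMod Λ j).obj F)) (stalkIncl j ξ F)) :=
  Cofan.IsColimit.mk _ (fun s => (transpose j ξ F).symm (descSheafHom j ξ F s.inj))
    (fun s u => by
      refine (Scheme.pointSmallEtale u.1).presheafFiber_hom_ext fun W w => ?_
      change germ u.1 F W w ≫ stalkIncl j ξ F u ≫ _ = germ u.1 F W w ≫ s.inj u
      refine ((Category.assoc _ _ _).symm.trans ((congrArg (· ≫ _) (germ_stalkIncl j ξ F u W w)).trans
        ((Category.assoc _ _ _).trans ((transpose_app_π j ξ F _ W (upPt u w)).symm)))).trans ?_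
      rw [Equiv.apply_symm_apply]
      refine (Pi.lift_π _ _).trans (germ_comp_congr F s.inj (Subtype.ext ?_) _ _ rfl)
      exact Over.w (show Over.mk u.1 ⟶ _ from w))
    (fun s f hf => by
      rw [Equiv.eq_symm_apply]
      refine ObjectProperty.hom_ext _ (NatTrans.ext (funext fun W => ?_))
      change _ = Pi.lift _
      refine Pi.hom_ext (f := fun _ => s.pt) _ _ fun t => ?_
      refine (transpose_app_π j ξ F f W.unop t).trans (Eq.trans ?_ (Pi.lift_π (f := fun _ => s.pt) _ t).symm)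
      rw [← hf]
      change _ = germ (liftOf t).1 F W.unop (ptOf t) ≫ stalkIncl j ξ F (liftOf t) ≫ f
      exact ((Category.assoc _ _ _).symm.trans
        ((congrArg (· ≫ f) (germ_stalkIncl j ξ F (liftOf t) W.unop (ptOf t))).trans
          (Category.assoc _ _ _))).symm)

/-- `(j_! F)_ξ ≅ ∐_u F_u`. -/
def stalkExtZeroCoprodIso :
    (EtModW.stalk Λ ξ).obj ((EtSix.extZeroMod Λ j).obj F) ≅
      ∐ fun u : PtLift j ξ => (EtModW.stalk Λ u.1).obj F :=
  (isColimitStalkIncl j ξ F).coconePointUniqueUpToIso (coproductIsCoproduct _)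

end Groth.Agent.EtModWLib
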