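import Groth.Agent.EtModWLib.Pull
import Groth.Agent.EtModWLib.Triv
import Groth.Agent.EtaleSite.PushStalk

/-!
# Inverse images of locally constant sheaves of modules
-/

universe u

open CategoryTheory CategoryTheory.Limits AlgebraicGeometry Opposite

namespace Groth.Agent.EtModWLib

open Groth.Agent

variable {Λ : Type (u + 1)} [CommRing Λ] {X Y : Scheme.{u}} (f : X ⟶ Y)

section

variable {Ω : Type u} [Field Ω] [IsSepClosed Ω] (ξ : Spec (CommRingCat.of Ω) ⟶ X)

set_option backward.isDefEq.respectTransparency.types false in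
/-- The inverse of `stalkPullIso` on germs: pull the section back by the unit. -/
theorem germ_stalkPullIso_inv (G : EtModW.Mod Λ Y) (V : Y.Etale)
    (φ : (Scheme.pointSmallEtale (ξ ≫ f)).fiber.obj V) (s : G.obj.obj (op V)) :
    (stalkPullIso f ξ).inv.app G (germ (ξ ≫ f) G V φ s) =
      germ ξ ((EtModW.pull Λ f).obj G) ((EtCoh.bc f).obj V) (EtaleSite.fiberBcEquiv f ξ V φ)
        (((pullPushAdj (Λ := Λ) f).unit.app G).hom.app (op V) s) := by
  let Φ := Scheme.pointSmallEtale ξ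
  let Φ' := Φ.comap (EtCoh.bc f) (EtCoh.coverPreserving_bc f)
  let A := ModuleCat.{u + 1} Λ
  let θ := (Φ.sheafFiberComapIso (EtCoh.bc f) (EtCoh.coverPreserving_bc f) A).hom.app G
  have key := congrArg (fun k => k.hom.app (op V) ≫
      Pi.π (fun _ : Φ'.fiber.obj V => Φ.sheafFiber.obj ((EtModW.pull Λ f).obj G))
        (EtaleSite.fiberBcEquiv f ξ V φ))
    (unit_conjugateEquiv_symm ((pullPushAdj (Λ := Λ) f).comp Φ.skyscraperSheafAdjunction)
      Φ'.skyscraperSheafAdjunction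
      (Φ.skyscraperSheafFunctorCompSheafPushforwardContinuous (EtCoh.bc f)
        (EtCoh.coverPreserving_bc f) A).hom G)
  have hθ : Φ'.toPresheafFiber V (EtaleSite.fiberBcEquiv f ξ V φ) G.obj ≫ θ =
      ((pullPushAdj (Λ := Λ) f).unit.app G).hom.app (op V) ≫
        germ ξ ((EtModW.pull Λ f).obj G) ((EtCoh.bc f).obj V) (EtaleSite.fiberBcEquiv f ξ V φ) := by
    have h1 : (Φ'.skyscraperSheafAdjunction.homEquiv G _ θ).hom.app (op V) ≫
        Pi.π (fun _ : Φ'.fiber.obj V => Φ.sheafFiber.obj ((EtModW.pull Λ f).obj G))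
          (EtaleSite.fiberBcEquiv f ξ V φ) = Φ'.toPresheafFiber V (EtaleSite.fiberBcEquiv f ξ V φ) G.obj ≫ θ := by
      exact EtaleSite.skyscraper_homEquiv_π Φ' G _ θ V _
    refine h1.symm.trans ?_
    rw [Adjunction.homEquiv_unit]
    refine key.symm.trans ?_
    rw [Adjunction.comp_unit_app]
    have h2 : (Φ.skyscraperSheafAdjunction.unit.app ((EtModW.pull Λ f).obj G)).hom.app
          (op ((EtCoh.bc f).obj V)) ≫
        Pi.π (fun _ : Φ.fiber.obj ((EtCoh.bc f).obj V) => Φ.sheafFiber.obj ((EtModW.pull Λ f).obj G))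
          (EtaleSite.fiberBcEquiv f ξ V φ) =
        germ ξ ((EtModW.pull Λ f).obj G) ((EtCoh.bc f).obj V) (EtaleSite.fiberBcEquiv f ξ V φ) := by
      rw [← Adjunction.homEquiv_id]
      exact (EtaleSite.skyscraper_homEquiv_π Φ _ _ _ _ _).trans (Category.comp_id _)
    rw [← h2]
    simp only [Category.assoc]
    rfl
  have h3 : germ (ξ ≫ f) G V φ ≫ (EtaleSite.sheafFiberIsoOfPointIso (A := A) (EtaleSite.pointBcIso f ξ)).hom.app G =
      Φ'.toPresheafFiber V (EtaleSite.fiberBcEquiv f ξ V φ) G.obj :=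
    EtaleSite.toPresheafFiber_sheafFiber (EtaleSite.pointBcIso f ξ).hom G V φ
  have h4 : (stalkPullIso f ξ).inv.app G =
      (EtaleSite.sheafFiberIsoOfPointIso (A := A) (EtaleSite.pointBcIso f ξ)).hom.app G ≫ θ := rfl
  have := ((reassoc_of% h3) θ).trans hθ
  rw [h4]
  exact congrArg (fun k => k s) this

end

/-- Pulling back a section. -/
noncomputable def pullSect (G : EtModW.Mod Λ Y) (V : Y.Etale) :
    G.obj.obj (op V) →ₗ[Λ] ((EtModW.pull Λ f).obj G).obj.obj (op ((EtCoh.bc f).obj V)) :=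
  (((pullPushAdj (Λ := Λ) f).unit.app G).hom.app (op V)).hom

theorem germ_pullSect {Ω : Type u} [Field Ω] [IsSepClosed Ω] (ξ : Spec (CommRingCat.of Ω) ⟶ X)
    (G : EtModW.Mod Λ Y) (V : Y.Etale) (φ : (Scheme.pointSmallEtale (ξ ≫ f)).fiber.obj V)
    (s : G.obj.obj (op V)) :
    germ ξ ((EtModW.pull Λ f).obj G) ((EtCoh.bc f).obj V) (EtaleSite.fiberBcEquiv f ξ V φ)
      (pullSect f G V s) = (stalkPullIso (Λ := Λ) f ξ).inv.app G (germ (ξ ≫ f) G V φ s) :=
  (germ_stalkPullIso_inv f ξ G V φ s).symm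

/-- Trivialisations pull back. -/
theorem IsTriv.pull {G : EtModW.Mod Λ Y} {V : Y.Etale} {M : Type (u + 1)} [AddCommGroup M] [Module Λ M]
    {m : M →ₗ[Λ] G.obj.obj (op V)} (h : IsTriv G V M m) :
    IsTriv ((EtModW.pull Λ f).obj G) ((EtCoh.bc f).obj V) M ((pullSect f G V).comp m) := by
  intro Ω _ _ ξ φ
  obtain ⟨φ₀, rfl⟩ := (EtaleSite.fiberBcEquiv f ξ V).surjective φ
  simp only [LinearMap.comp_apply, germ_pullSect]
  exact (ConcreteCategory.bijective_of_isIso ((stalkPullIso (Λ := Λ) f ξ).inv.app G)).comp (h Ω _ φ₀)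

/-- Inverse images of finite type locally constant sheaves are finite type locally constant. -/
theorem isFTLocConst_pull {G : EtModW.Mod Λ Y} (hG : EtModW.IsFTLocConst Λ G) :
    EtModW.IsFTLocConst Λ ((EtModW.pull Λ f).obj G) := by
  refine isFTLocConst_of_isTriv fun Ω _ _ ξ => ?_
  obtain ⟨V, φ, M, h₁, h₂, h₃, m, hm⟩ := exists_isTriv hG (ξ ≫ f)
  exact ⟨(EtCoh.bc f).obj V, EtaleSite.fiberBcEquiv f ξ V φ, M, h₁, h₂, h₃, _, hm.pull f⟩

end Groth.Agent.EtModWLib
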