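import Groth.Agent.EtModWLib.GoodPoint
import Groth.Agent.EtModWLib.PullTriv
import Groth.Agent.EtModWLib.Descend
import Groth.Agent.EtModWLib.Serre
import Mathlib.AlgebraicGeometry.Morphisms.Flat

/-!
# Flat descent of locally constant sheaves of modules of finite presentation
-/

set_option autoImplicit false
set_option backward.isDefEq.respectTransparency.types false

universe u

open CategoryTheory CategoryTheory.Limits AlgebraicGeometry Opposite

noncomputable section

namespace Groth.Agent.EtModWLib.FlatDescent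

open Groth.Agent Groth.Agent.EtModWLib Groth.Agent.EtModWLib.GoodPoint

variable {Λ : Type (u + 1)} [CommRing Λ] {X Y : Scheme.{u}}

/-- A finitely presented stalk gives a linear map to sections near the point that splits the germ. -/
theorem exists_lift_stalk (F : EtModW.Mod Λ X) {U : X.Etale} {Ω : Type u} [Field Ω] [IsSepClosed Ω]
    {ξ : Spec (CommRingCat.of Ω) ⟶ X} (φ : (Scheme.pointSmallEtale ξ).fiber.obj U)
    [Module.FinitePresentation Λ ↑((EtModW.stalk Λ ξ).obj F)] :
    ∃ (V : X.Etale) (v : (Scheme.pointSmallEtale ξ).fiber.obj V)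
      (m : ↑((EtModW.stalk Λ ξ).obj F) →ₗ[Λ] F.obj.obj (op V)), ∀ x, germ ξ F V v (m x) = x := by
  obtain ⟨n, r, π, g, hπ, hex⟩ :=
    Module.FinitePresentation.exists_fin' (R := Λ) (M := ↑((EtModW.stalk Λ ξ).obj F))
  obtain ⟨W, a, w, s, -, hs⟩ := exists_common_nbhd φ F fun i => π (Pi.single i 1)
  let L : (Fin n → Λ) →ₗ[Λ] F.obj.obj (op W) := Fintype.linearCombination Λ s
  have hL : ∀ z, germ ξ F W w (L z) = π z := by
    have : (germ ξ F W w).hom.comp L = π := by
      refine (Pi.basisFun Λ (Fin n)).ext fun i => ?_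
      rw [Pi.basisFun_apply, LinearMap.comp_apply, Fintype.linearCombination_apply_single, one_smul]
      exact hs i
    exact fun z => LinearMap.congr_fun this z
  obtain ⟨V, e, v, hv, hV⟩ := exists_nbhd_eq_of_finite F w (fun j : Fin r => L (g (Pi.single j 1)))
    (fun _ => 0) (fun j => by rw [hL, map_zero]; exact hex.apply_apply_eq_zero _)
  have hker : LinearMap.ker π ≤ LinearMap.ker ((F.obj.map e.op).hom.comp L) := by
    rw [hex.linearMap_ker_eq, LinearMap.range_le_ker_iff]
    refine (Pi.basisFun Λ (Fin r)).ext fun j => ?_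
    rw [Pi.basisFun_apply]
    exact (hV j).trans (map_zero _)
  let m := ((LinearMap.ker π).liftQ ((F.obj.map e.op).hom.comp L) hker).comp
    (π.quotKerEquivOfSurjective hπ).symm.toLinearMap
  refine ⟨V, v, m, fun x => ?_⟩
  obtain ⟨z, rfl⟩ := hπ x
  have hm : m (π z) = F.obj.map e.op (L z) := by
    show (LinearMap.ker π).liftQ ((F.obj.map e.op).hom.comp L) hker
      ((π.quotKerEquivOfSurjective hπ).symm (π z)) = _
    rw [show (π.quotKerEquivOfSurjective hπ).symm (π z) = Submodule.Quotient.mk z from
      (π.quotKerEquivOfSurjective hπ).symm_apply_eq.2 rfl]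
    rfl
  rw [hm, germ_res, hv, hL]

/-- For a locally constant sheaf the locus where a map from a finite module is bijective is open. -/
theorem isOpen_goodAt {E : EtModW.Mod Λ X} (hE : EtModW.IsFTLocConst Λ E) {U : X.Etale}
    {M : Type (u + 1)} [AddCommGroup M] [Module Λ M] [Module.Finite Λ M]
    (m : M →ₗ[Λ] E.obj.obj (op U)) : IsOpen {v | GoodAt m v} := by
  refine isOpen_iff_forall_mem_open.2 fun v hv => ?_
  obtain ⟨W, ψ, N, _, _, _, n, hn⟩ := exists_isTriv hE (geomPt U v)
  obtain ⟨W', w', a, c, ha, -⟩ := exists_refine (fiberPt U v) ψ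
  have hn' := hn.restrict c
  let n' := (E.obj.map c.op).hom.comp n
  let m' := (E.obj.map a.op).hom.comp m
  let h : M →ₗ[Λ] N := (hn'.stalkEquiv w').symm.toLinearMap ∘ₗ ((germ (geomPt U v) E W' w').hom.comp m')
  obtain ⟨k, x, hx⟩ := Module.Finite.exists_fin (R := Λ) (M := M)
  obtain ⟨W'', e, w'', hw'', he⟩ := exists_nbhd_eq_of_finite E w' (fun i => m' (x i))
    (fun i => n' (h (x i))) fun i => ((hn'.stalkEquiv w').apply_symm_apply _).symm
  let n'' := (E.obj.map e.op).hom.comp n'
  have hn'' : IsTriv E W'' N n'' := hn'.restrict e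
  have hh : (E.obj.map e.op).hom.comp m' = n''.comp h := LinearMap.ext_on_range hx fun i => he i
  have hbij : Function.Bijective h := by
    have h1 : Function.Bijective fun y => germ (geomPt U v) E W'' w'' ((E.obj.map e.op).hom.comp m' y) := by
      have : (fun y => germ (geomPt U v) E W'' w'' ((E.obj.map e.op).hom.comp m' y)) =
          fun y => germ (geomPt U v) E U (fiberPt U v) (m y) := funext fun y => by
        show germ (geomPt U v) E W'' w'' (E.obj.map e.op (E.obj.map a.op (m y))) = _
        rw [germ_res, germ_res, hw'', ha]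
      rw [this]
      exact hv
    rw [hh] at h1
    exact (Function.Bijective.of_comp_iff' (hn'' _ _ w'') h).1 h1
  refine ⟨Set.range (e ≫ a).left, ?_, (EtModWLib.etale_left (e ≫ a) |> fun _ => (e ≫ a).left.isOpenMap.isOpen_range), ?_⟩
  · rintro _ ⟨p, rfl⟩
    refine (goodAt_restrict m (e ≫ a) p).1 ?_
    have : (E.obj.map (e ≫ a).op).hom.comp m = n''.comp h := by
      rw [← hh, op_comp, Functor.map_comp]; rfl
    rw [this]
    exact (hn'' _ _ (fiberPt W'' p)).comp hbij
  · refine ⟨w''.left (default : Spec (CommRingCat.of (SeparableClosure (U.left.residueField v)))), ?_⟩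
    have h2 : (Scheme.pointSmallEtale (geomPt U v)).fiber.map (e ≫ a) w'' = fiberPt U v := by
      rw [fiber_map_comp, hw'', ha]
    exact (congrArg (fun k => k.left (default : Spec (CommRingCat.of (SeparableClosure (U.left.residueField v))))) h2).trans
      (EtaleSite.geomPointAt_apply U.left v _)

variable (f : Y ⟶ X)

/-- Good points of a pulled back map are the preimage of the good points. -/
theorem goodAt_pull (F : EtModW.Mod Λ X) {V : X.Etale} {M : Type (u + 1)} [AddCommGroup M] [Module Λ M]
    (m : M →ₗ[Λ] F.obj.obj (op V)) (b : ((EtCoh.bc f).obj V).left) :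
    GoodAt ((pullSect f F V).comp m) b ↔ GoodAt m (pullback.fst V.hom f b) := by
  let ζ := geomPt ((EtCoh.bc f).obj V) b
  obtain ⟨φ, hφ⟩ := (EtaleSite.fiberBcEquiv f ζ V).surjective (fiberPt ((EtCoh.bc f).obj V) b)
  have h1 : GoodAt ((pullSect f F V).comp m) b ↔ BijAt F m (ζ ≫ f) φ := by
    unfold GoodAt BijAt
    rw [← hφ]
    have hc : (fun x => germ ζ ((EtModW.pull Λ f).obj F) ((EtCoh.bc f).obj V) (EtaleSite.fiberBcEquiv f ζ V φ)
        ((pullSect f F V).comp m x)) = (stalkPullIso (Λ := Λ) f ζ).inv.app F ∘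
        fun x => germ (ζ ≫ f) F V φ (m x) := funext fun x => germ_pullSect f ζ F V φ (m x)
    refine (Iff.of_eq (congrArg Function.Bijective hc)).trans ?_
    exact Function.Bijective.of_comp_iff'
      (ConcreteCategory.bijective_of_isIso ((stalkPullIso (Λ := Λ) f ζ).inv.app F))
      fun x => germ (ζ ≫ f) F V φ (m x)
  rw [h1, bijAt_iff_goodAt]
  have h2 : φ.left (default : Spec (CommRingCat.of (SeparableClosure (((EtCoh.bc f).obj V).left.residueField b)))) =
      pullback.fst V.hom f b := by
    have e1 : pullback.lift φ.left ζ (Over.w φ) = EtaleSite.geomPointAt ((EtCoh.bc f).obj V).left b :=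
      congrArg (fun k => k.left) hφ
    have e2 : φ.left = EtaleSite.geomPointAt ((EtCoh.bc f).obj V).left b ≫ pullback.fst V.hom f :=
      (pullback.lift_fst _ _ (Over.w φ)).symm.trans (congrArg (· ≫ pullback.fst V.hom f) e1)
    rw [e2]
    exact congrArg (pullback.fst V.hom f) (EtaleSite.geomPointAt_apply _ b _)
  rw [h2]

/-- Local constancy with finitely presented stalks descends along faithfully flat quasi-compact morphisms. -/
theorem isFTLocConst_of_pull_flat [Flat f] [Surjective f] [QuasiCompact f] (F : EtModW.Mod Λ X)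
    (hF : EtModW.IsFTLocConst Λ ((EtModW.pull Λ f).obj F))
    (hS : ∀ (Ω : Type u) [Field Ω] [IsSepClosed Ω] (η : Spec (CommRingCat.of Ω) ⟶ Y),
      Module.FinitePresentation Λ ↑((EtModW.stalk Λ η).obj ((EtModW.pull Λ f).obj F))) :
    EtModW.IsFTLocConst Λ F := by
  refine isFTLocConst_of_isTriv fun Ω _ _ ξ => ?_
  obtain ⟨y, hy⟩ := f.surjective (ξ default)
  let ζ := EtaleSite.geomPointAt Y y
  haveI := hS _ ζ
  haveI : Module.FinitePresentation Λ ↑((EtModW.stalk Λ (ζ ≫ f)).obj F) :=
    Module.FinitePresentation.of_equiv (M := ↑((EtModW.stalk Λ ζ).obj ((EtModW.pull Λ f).obj F)))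
      ((stalkPullIso (Λ := Λ) f ζ).app F).toLinearEquiv
  obtain ⟨φ₀, -⟩ := EtaleSite.exists_fiber_point (ζ ≫ f) (EtCoh.top X) ((ζ ≫ f) default) rfl
  obtain ⟨V, v, m, hm⟩ := exists_lift_stalk F φ₀
  let q := pullback.fst V.hom f
  haveI : Flat q := MorphismProperty.pullback_fst _ _ inferInstance
  haveI : Surjective q := MorphismProperty.pullback_fst _ _ inferInstance
  haveI : QuasiCompact q := MorphismProperty.pullback_fst _ _ inferInstance
  have hopen : IsOpen {p | GoodAt m p} := by
    refine (Flat.isQuotientMap_of_surjective q).isOpen_preimage.1 ?_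
    have : q ⁻¹' {p | GoodAt m p} = {b | GoodAt ((pullSect f F V).comp m) b} :=
      Set.ext fun b => (goodAt_pull f F m b).symm
    exact this ▸ isOpen_goodAt hF _
  let O : V.left.Opens := ⟨_, hopen⟩
  have hvO : v.left (default : Spec (CommRingCat.of (SeparableClosure (Y.residueField y)))) ∈ O := by
    refine (bijAt_iff_goodAt m v).1 ?_
    show Function.Bijective fun x => germ (ζ ≫ f) F V v (m x)
    simp only [hm]
    exact Function.bijective_id
  have hvξ : V.hom (v.left (default : Spec (CommRingCat.of (SeparableClosure (Y.residueField y))))) = ξ default := by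
    have := congrArg (fun k : Spec (CommRingCat.of (SeparableClosure (Y.residueField y))) ⟶ X => k default) (Over.w v)
    refine ((Scheme.Hom.comp_apply _ _ _).symm.trans this).trans ?_
    exact (congrArg f (EtaleSite.geomPointAt_apply Y y _)).trans hy
  obtain ⟨φ, -⟩ := EtaleSite.exists_fiber_point ξ (EtaleSite.piece V O) ⟨_, hvO⟩ hvξ
  exact ⟨_, φ, ↑((EtModW.stalk Λ (ζ ≫ f)).obj F), inferInstance, inferInstance, inferInstance, _,
    isTriv_of_goodAt _ fun p => (goodAt_restrict m (EtaleSite.pieceHom V O) p).2 p.2⟩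

end Groth.Agent.EtModWLib.FlatDescent
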