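import Groth.Agent.EtModWLib.Devissage

/-!
# Being a pullback from the étale site is local for open covers
-/

set_option autoImplicit false
set_option linter.style.haveILetI false
set_option backward.isDefEq.respectTransparency.types false

universe u

open CategoryTheory CategoryTheory.Limits AlgebraicGeometry Opposite

noncomputable section

namespace Groth.Agent.EtModWLib.LocalEss

open Groth.Agent Groth.Agent.EtModWLib Groth.Agent.EtModWLib.PullPBc

attribute [local instance] Groth.Agent.ProEtS.Site.pCont Groth.Agent.ProEtS.Site.epsCont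

variable {Λ : Type (u + 1)} [CommRing Λ] {X : Scheme.{u}}

local notation "ε" => _root_.ProEtS.eps

theorem isIso_epsPush_counit (F : EtModW.ModP Λ X) :
    IsIso (((ε X).sheafPushforwardContinuous (ModuleCat.{u + 1} Λ) X.smallEtaleTopology
      (Scheme.ProEt.topology X)).map ((epsAdjMod (Λ := Λ) (X := X)).counit.app F)) := by
  haveI : IsIso ((epsAdjMod (Λ := Λ) (X := X)).unit.app (((ε X).sheafPushforwardContinuous (ModuleCat.{u + 1} Λ)
      X.smallEtaleTopology (Scheme.ProEt.topology X)).obj F)) := inferInstance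
  exact IsIso.of_isIso_fac_left ((epsAdjMod (Λ := Λ) (X := X)).right_triangle_components F)

/-- Maps between pullbacks from the étale site which `ε_*` inverts are isomorphisms. -/
theorem isIso_of_essImage {A B : EtModW.ModP Λ X} (ψ : A ⟶ B)
    (hA : (EtModW.epsPullMod Λ X).essImage A) (hB : (EtModW.epsPullMod Λ X).essImage B)
    [IsIso (((ε X).sheafPushforwardContinuous (ModuleCat.{u + 1} Λ) X.smallEtaleTopology
      (Scheme.ProEt.topology X)).map ψ)] : IsIso ψ := by
  haveI := ((epsAdjMod (Λ := Λ) (X := X)).isIso_counit_app_iff_mem_essImage).2 hA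
  haveI := ((epsAdjMod (Λ := Λ) (X := X)).isIso_counit_app_iff_mem_essImage).2 hB
  have h := (epsAdjMod (Λ := Λ) (X := X)).counit.naturality ψ
  rw [← IsIso.inv_comp_eq] at h
  change _ = ψ at h
  rw [← h]
  haveI : IsIso (((ε X).sheafPushforwardContinuous (ModuleCat.{u + 1} Λ) X.smallEtaleTopology
      (Scheme.ProEt.topology X) ⋙ EtModW.epsPullMod Λ X).map ψ) :=
    inferInstanceAs (IsIso ((EtModW.epsPullMod Λ X).map (((ε X).sheafPushforwardContinuous (ModuleCat.{u + 1} Λ)
      X.smallEtaleTopology (Scheme.ProEt.topology X)).map ψ)))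
  infer_instance

theorem isIso_restr_counit {U : Scheme.{u}} (j : U ⟶ X) [IsOpenImmersion j] [WeaklyEtale j]
    [_root_.ProEtS.JPCont j] (F : EtModW.ModP Λ X)
    (h : (EtModW.epsPullMod Λ U).essImage ((pullPMod Λ j).obj F)) :
    IsIso (((_root_.ProEtS.compP j).sheafPushforwardContinuous (ModuleCat.{u + 1} Λ) (Scheme.ProEt.topology U)
      (Scheme.ProEt.topology X)).map ((epsAdjMod (Λ := Λ) (X := X)).counit.app F)) := by
  haveI hje : Etale j := inferInstance
  haveI : (MorphismProperty.Over.map (P := EtCoh.etaleMP.{u}) ⊤ (f := j) hje).IsContinuous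
      U.smallEtaleTopology X.smallEtaleTopology := EtaleSite.jCont_of_etale j
  let θ := (epsAdjMod (Λ := Λ) (X := X)).counit.app F
  let R := (_root_.ProEtS.compP j).sheafPushforwardContinuous (ModuleCat.{u + 1} Λ) (Scheme.ProEt.topology U)
    (Scheme.ProEt.topology X)
  let e := PullP.restrIso (Λ := Λ) j (hje := hje)
  haveI := isIso_epsPush_counit (Λ := Λ) (X := X) F
  haveI : IsIso ((((ε X).sheafPushforwardContinuous (ModuleCat.{u + 1} Λ) X.smallEtaleTopology
      (Scheme.ProEt.topology X)) ⋙ (MorphismProperty.Over.map (P := EtCoh.etaleMP.{u}) ⊤ (f := j) hje).sheafPushforwardContinuous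
      (ModuleCat.{u + 1} Λ) U.smallEtaleTopology X.smallEtaleTopology).map θ) :=
    @Functor.map_isIso _ _ _ _ _ _ ((MorphismProperty.Over.map (P := EtCoh.etaleMP.{u}) ⊤ (f := j) hje).sheafPushforwardContinuous
      (ModuleCat.{u + 1} Λ) U.smallEtaleTopology X.smallEtaleTopology) _ (isIso_epsPush_counit F)
  haveI : IsIso (((ε U).sheafPushforwardContinuous (ModuleCat.{u + 1} Λ) U.smallEtaleTopology
      (Scheme.ProEt.topology U)).map (R.map θ)) := (NatIso.isIso_map_iff e θ).1 inferInstance
  refine isIso_of_essImage _ ?_ ?_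
  · refine Functor.essImage.ofIso ((restrPullIso j).app _).symm (essImage_pullPMod j ?_)
    exact ⟨_, ⟨Iso.refl _⟩⟩
  · exact Functor.essImage.ofIso ((restrPullIso j).app F).symm h

/-- Being a pullback from the étale site is local on the scheme. -/
theorem essImage_of_openCover {κ : Type*} (U : κ → Scheme.{u}) (j : ∀ k, U k ⟶ X) [∀ k, IsOpenImmersion (j k)]
    (hcov : ∀ x : X, ∃ k, x ∈ Set.range (j k)) (F : EtModW.ModP Λ X)
    (h : ∀ k, (EtModW.epsPullMod Λ (U k)).essImage ((pullPMod Λ (j k)).obj F)) :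
    (EtModW.epsPullMod Λ X).essImage F := by
  let θ := (epsAdjMod (Λ := Λ) (X := X)).counit.app F
  suffices IsIso θ from ((epsAdjMod (Λ := Λ) (X := X)).isIso_counit_app_iff_mem_essImage).1 this
  have hbij : ∀ (k : κ) (W : X.ProEt), Set.range W.hom ⊆ Set.range (j k) →
      Function.Bijective (θ.hom.app (op W)) := fun k W hW => by
    haveI : Etale (j k) := inferInstance
    haveI : WeaklyEtale (j k) := inferInstance
    haveI : _root_.ProEtS.JPCont (j k) := ProEtS.Restr.jpCont (j k)
    obtain ⟨W', ⟨e⟩⟩ := ProEtS.ClosedOpen.exists_comp_iso (j k) hW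
    haveI := isIso_restr_counit (j k) F (h k)
    haveI : IsIso (θ.hom.app (op ((_root_.ProEtS.compP (j k)).obj W'))) :=
      inferInstanceAs (IsIso (((sheafToPresheaf _ _).map (((_root_.ProEtS.compP (j k)).sheafPushforwardContinuous
        (ModuleCat.{u + 1} Λ) (Scheme.ProEt.topology (U k)) (Scheme.ProEt.topology X)).map θ)).app (op W')))
    haveI : IsIso (θ.hom.app (op W)) := (NatTrans.isIso_app_iff_of_iso θ.hom e.op).2 inferInstance
    exact (ConcreteCategory.isIso_iff_bijective _).1 inferInstance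
  choose k hk using hcov
  have hcover : ∀ W : X.ProEt, ∃ (A : X → X.ProEt) (a : ∀ x, A x ⟶ W),
      Sieve.ofArrows A a ∈ Scheme.ProEt.topology X W ∧ ∀ x, Set.range (A x).hom ⊆ Set.range (j (k x)) := fun W => by
    haveI : WeaklyEtale W.hom := W.prop
    let O : X → W.left.Opens := fun x => W.hom ⁻¹ᵁ (j (k x)).opensRange
    refine ⟨fun x => Scheme.ProEt.mk ((O x).ι ≫ W.hom), fun x => MorphismProperty.Over.homMk (O x).ι,
      ProEtS.WC.ofArrows_mem_of_isOpenImmersion _ _ (fun x => (inferInstance : IsOpenImmersion (O x).ι))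
        (fun w => ⟨W.hom w, (Set.ext_iff.1 (Scheme.Opens.range_ι (O (W.hom w))) w).2 (hk (W.hom w))⟩), fun x => ?_⟩
    rintro _ ⟨v, rfl⟩
    exact v.2
  have hn : ∀ {V W : X.ProEt} (f : W ⟶ V) (s : ((EtModW.epsPullMod Λ X).obj (((ε X).sheafPushforwardContinuous
      (ModuleCat.{u + 1} Λ) X.smallEtaleTopology (Scheme.ProEt.topology X)).obj F)).obj.obj (op V)),
      θ.hom.app (op W) (((EtModW.epsPullMod Λ X).obj (((ε X).sheafPushforwardContinuous (ModuleCat.{u + 1} Λ)
        X.smallEtaleTopology (Scheme.ProEt.topology X)).obj F)).obj.map f.op s) = F.obj.map f.op (θ.hom.app (op V) s) :=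
    fun f s => NatTrans.naturality_apply θ.hom f.op s
  haveI : Presheaf.IsLocallyInjective (Scheme.ProEt.topology X) θ.hom := ⟨fun {Wop} s t hst => by
    obtain ⟨W⟩ := Wop
    obtain ⟨A, a, hmem, hA⟩ := hcover W
    refine GrothendieckTopology.superset_covering _ ?_ hmem
    rw [Sieve.ofArrows, Sieve.generate_le_iff]
    rintro B f ⟨x⟩
    exact (hbij _ _ (hA x)).1 ((hn (a x) s).trans ((congrArg _ hst).trans (hn (a x) t).symm))⟩
  haveI : Presheaf.IsLocallySurjective (Scheme.ProEt.topology X) θ.hom := ⟨fun {W} s => by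
    obtain ⟨A, a, hmem, hA⟩ := hcover W
    refine GrothendieckTopology.superset_covering _ ?_ hmem
    rw [Sieve.ofArrows, Sieve.generate_le_iff]
    rintro B f ⟨x⟩
    exact (hbij _ _ (hA x)).2 _⟩
  exact (Sheaf.isLocallyBijective_iff_isIso θ).1 ⟨‹_›, ‹_›⟩

end Groth.Agent.EtModWLib.LocalEss
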