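import Groth.Agent.EtModWLib.PullPBc
import Groth.Agent.EtModWLib.Eps
import Mathlib.CategoryTheory.Sites.ConstantSheaf
import Mathlib.CategoryTheory.Sites.PreservesLocallyBijective

/-!
# Constant sheaves of modules on the pro-étale site and on its localisations
-/

set_option autoImplicit false
set_option linter.style.haveILetI false
set_option backward.isDefEq.respectTransparency.types false

universe u

open CategoryTheory CategoryTheory.Limits AlgebraicGeometry Opposite

noncomputable section

namespace Groth.Agent.EtModWLib.ProConst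

open Groth.Agent Groth.Agent.EtModWLib Groth.Agent.EtModWLib.PullPBc

attribute [local instance] Groth.Agent.ProEtS.Site.pCont Groth.Agent.ProEtS.Site.epsCont

section General

variable {C : Type*} [Category* C] (J : GrothendieckTopology C) {A : Type*} [Category* A]
  [HasWeakSheafify J A] (G : Sheaf J A) (M : A)

/-- A sheaf is constant iff it receives a map inverted by sheafification from a constant presheaf. -/
theorem nonempty_iso_constantSheaf_iff :
    Nonempty (G ≅ (constantSheaf J A).obj M) ↔ ∃ η : (Functor.const Cᵒᵖ).obj M ⟶ G.obj, J.W η := by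
  constructor
  · rintro ⟨e⟩
    exact ⟨toSheafify J _ ≫ e.inv.hom, MorphismProperty.comp_mem _ _ _ (J.W_toSheafify _)
      ((J.W_sheafToPresheaf_map_iff_isIso e.inv).2 inferInstance)⟩
  · rintro ⟨η, hη⟩
    let u : (constantSheaf J A).obj M ⟶ G := ⟨sheafifyLift J η G.property⟩
    have : IsIso u := by
      rw [← J.W_sheafToPresheaf_map_iff_isIso]
      refine MorphismProperty.of_precomp _ (toSheafify J ((Functor.const Cᵒᵖ).obj M)) _ (J.W_toSheafify _) ?_
      show J.W (_ ≫ sheafifyLift J η G.property)
      rw [toSheafify_sheafifyLift]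
      exact hη
    exact ⟨(asIso u).symm⟩

end General

variable {Λ : Type (u + 1)} [CommRing Λ] {X : Scheme.{u}}

/-- The objects over `V` from those weakly étale over `V.left`. -/
def toOver (V : X.ProEt) : V.left.ProEt ⥤ Over V :=
  haveI : WeaklyEtale V.hom := V.prop
  { obj := fun W => Over.mk (MorphismProperty.Over.homMk W.hom rfl trivial :
      (_root_.ProEtS.compP V.hom).obj W ⟶ V)
    map := fun {W W'} g => Over.homMk ((_root_.ProEtS.compP V.hom).map g)
      (MorphismProperty.Over.Hom.ext (MorphismProperty.Over.w g))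
    map_id := fun W => Over.OverMorphism.ext ((_root_.ProEtS.compP V.hom).map_id W)
    map_comp := fun g g' => Over.OverMorphism.ext ((_root_.ProEtS.compP V.hom).map_comp g g') }

theorem weaklyEtale_left_hom {V : X.ProEt} (U : Over V) : WeaklyEtale U.hom.left :=
  ProEtS.EpsElem.weaklyEtale_left U.hom

/-- Every object over `V` comes from a scheme weakly étale over `V.left`. -/
theorem exists_toOver_iso {V : X.ProEt} (U : Over V) :
    ∃ W : V.left.ProEt, Nonempty ((toOver V).obj W ≅ U) := by
  haveI : WeaklyEtale V.hom := V.prop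
  haveI := weaklyEtale_left_hom U
  let e : (_root_.ProEtS.compP V.hom).obj (Scheme.ProEt.mk U.hom.left) ≅ U.left :=
    MorphismProperty.Over.isoMk (Iso.refl _)
      ((Category.id_comp U.left.hom).trans (MorphismProperty.Over.w U.hom).symm :)
  exact ⟨Scheme.ProEt.mk U.hom.left, ⟨Over.isoMk e (MorphismProperty.Over.Hom.ext (Category.id_comp _))⟩⟩

instance isCoverDense_toOver (V : X.ProEt) :
    (toOver V).IsCoverDense ((Scheme.ProEt.topology X).over V) :=
  ⟨fun U => by
    obtain ⟨W, ⟨e⟩⟩ := exists_toOver_iso U
    have : Sieve.coverByImage (toOver V) U = ⊤ := by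
      refine top_le_iff.1 fun Y g _ => ?_
      exact ⟨⟨W, g ≫ e.inv, e.hom, (Category.assoc _ _ _).trans ((congrArg (g ≫ ·) e.inv_hom_id).trans (Category.comp_id g))⟩⟩
    rw [this]
    exact GrothendieckTopology.top_mem _ _⟩

theorem coverPreserving_toOver (V : X.ProEt) :
    CoverPreserving (Scheme.ProEt.topology V.left) ((Scheme.ProEt.topology X).over V) (toOver V) := by
  refine ⟨fun {W S} hS => ?_⟩
  rw [GrothendieckTopology.mem_over_iff, ProEtS.Site.mem_topology_iff]
  rw [ProEtS.Site.mem_topology_iff] at hS
  refine GrothendieckTopology.superset_covering _ ?_ hS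
  rintro Z l ⟨B, g, k, hg, hk⟩
  exact ⟨_, ((toOver V).map g).left, k,
    (Sieve.overEquiv_iff _ _).2 (by
      refine ⟨B, g, Over.homMk (𝟙 _) ?_, hg, ?_⟩
      · exact (Category.id_comp _).trans (Over.w ((toOver V).map g)).symm
      · exact Over.OverMorphism.ext (Category.id_comp _).symm), hk⟩

instance isCocontinuous_toOver (V : X.ProEt) :
    (toOver V).IsCocontinuous (Scheme.ProEt.topology V.left) ((Scheme.ProEt.topology X).over V) := by
  refine ⟨fun {W S} hS => ?_⟩
  rw [GrothendieckTopology.mem_over_iff, ProEtS.Site.mem_topology_iff] at hS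
  rw [ProEtS.Site.mem_topology_iff]
  refine GrothendieckTopology.superset_covering _ ?_ hS
  rintro Z l ⟨B, g, k, hg, hk⟩
  haveI : WeaklyEtale V.hom := V.prop
  let gl : B.left ⟶ W.left := g.left
  haveI : WeaklyEtale gl := ProEtS.EpsElem.weaklyEtale_left g
  haveI : WeaklyEtale W.hom := W.prop
  let W' : V.left.ProEt := Scheme.ProEt.mk (gl ≫ W.hom)
  let g' : W' ⟶ W := MorphismProperty.Over.homMk gl rfl trivial
  refine ⟨W', g', k, ?_, hk⟩
  show S.arrows ((toOver V).map g')
  rw [Sieve.overEquiv_iff] at hg
  let e : (_root_.ProEtS.compP V.hom).obj W' ⟶ B := MorphismProperty.Over.homMk (𝟙 _)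
    (((Category.id_comp B.hom).trans (MorphismProperty.Over.w g).symm).trans (Category.assoc _ _ _).symm :)
  have := S.downward_closed hg (Over.homMk e (MorphismProperty.Over.Hom.ext ((Category.id_comp _).trans rfl)) :
    (toOver V).obj W' ⟶ Over.mk (g ≫ ((toOver V).obj W).hom))
  convert this using 1
  exact Over.OverMorphism.ext (MorphismProperty.Over.Hom.ext (Category.id_comp g.left).symm)

instance jpCont_hom (V : X.ProEt) [WeaklyEtale V.hom] :
    (_root_.ProEtS.compP V.hom).IsContinuous (Scheme.ProEt.topology V.left) (Scheme.ProEt.topology X) :=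
  ProEtS.Restr.jpCont (X := X) V.hom

/-- Restricted to an object, being constant can be read on the pro-étale site of that object. -/
theorem nonempty_over_iso_iff (V : X.ProEt) [WeaklyEtale V.hom]
    (G : EtModW.ModP Λ X) (M : ModuleCat.{u + 1} Λ) :
    Nonempty (G.over V ≅ (constantSheaf ((Scheme.ProEt.topology X).over V) (ModuleCat.{u + 1} Λ)).obj M) ↔
      Nonempty (((_root_.ProEtS.compP V.hom).sheafPushforwardContinuous (ModuleCat.{u + 1} Λ)
          (Scheme.ProEt.topology V.left) (Scheme.ProEt.topology X)).obj G ≅
        (constantSheaf (Scheme.ProEt.topology V.left) (ModuleCat.{u + 1} Λ)).obj M) := by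
  rw [nonempty_iso_constantSheaf_iff, nonempty_iso_constantSheaf_iff]
  constructor
  · rintro ⟨η, hη⟩
    haveI := GrothendieckTopology.W.isLocallyInjective hη
    haveI := GrothendieckTopology.W.isLocallySurjective hη
    haveI := Presheaf.isLocallyInjective_whisker (Scheme.ProEt.topology V.left)
      ((Scheme.ProEt.topology X).over V) (toOver V) η
    haveI := Presheaf.isLocallySurjective_whisker (Scheme.ProEt.topology V.left)
      ((Scheme.ProEt.topology X).over V) (toOver V) η
    exact ⟨Functor.whiskerLeft (toOver V).op η,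
      (Scheme.ProEt.topology V.left).W_of_isLocallyBijective (Functor.whiskerLeft (toOver V).op η)⟩
  · rintro ⟨η, hη⟩
    let Z := Over.mk (𝟙 V)
    obtain ⟨W₀, ⟨e₀⟩⟩ := exists_toOver_iso Z
    let m : M ⟶ (G.over V).obj.obj (op Z) := η.app (op W₀) ≫ (G.over V).obj.map e₀.inv.op
    let η' : (Functor.const (Over V)ᵒᵖ).obj M ⟶ (G.over V).obj :=
      { app := fun U => m ≫ (G.over V).obj.map (Over.homMk U.unop.hom (Category.comp_id _) : U.unop ⟶ Z).op
        naturality := fun U U' a => by
          refine (Category.id_comp _).trans (Eq.trans ?_ (Category.assoc _ _ _).symm)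
          refine congrArg (m ≫ ·) (Eq.trans ?_ ((G.over V).obj.map_comp _ _))
          refine congrArg (fun k => (G.over V).obj.map k) (Quiver.Hom.unop_inj ?_)
          exact Over.OverMorphism.ext (Over.w a.unop).symm }
    have hw : Functor.whiskerLeft (toOver V).op η' = η := by
      ext1
      funext U
      obtain ⟨f, hf⟩ : ∃ f : U.unop ⟶ W₀, (toOver V).map f ≫ e₀.hom =
          (Over.homMk ((toOver V).obj U.unop).hom (Category.comp_id _) : (toOver V).obj U.unop ⟶ Z) := by
        let p : (_root_.ProEtS.compP V.hom).obj W₀ ⟶ V := ((toOver V).obj W₀).hom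
        have hp : p.left = e₀.hom.left.left :=
          (congrArg (fun k => k.left) (Over.w e₀.hom)).symm.trans (Category.comp_id _)
        let s : V.left ⟶ W₀.left := e₀.inv.left.left
        have hs : s ≫ W₀.hom = 𝟙 V.left :=
          congrArg (fun k => k.left) (Over.w e₀.inv)
        refine ⟨MorphismProperty.Over.homMk (U.unop.hom ≫ s)
          ((Category.assoc _ _ _).trans ((congrArg (U.unop.hom ≫ ·) hs).trans (Category.comp_id _))) trivial, ?_⟩
        apply Over.OverMorphism.ext
        apply MorphismProperty.Over.Hom.ext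
        exact (Category.assoc _ _ _).trans ((congrArg (U.unop.hom ≫ ·)
          (congrArg (fun k => k.left.left) e₀.inv_hom_id)).trans (Category.comp_id _))
      have hn := η.naturality f.op
      simp only [Functor.const_obj_map] at hn
      replace hn := (Category.id_comp _).symm.trans hn
      show (m ≫ (G.over V).obj.map (Over.homMk ((toOver V).obj U.unop).hom (Category.comp_id _) : (toOver V).obj U.unop ⟶ Z).op : M ⟶ (G.over V).obj.obj (op ((toOver V).obj U.unop))) = η.app U
      refine (Category.assoc _ _ _).trans ?_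
      refine Eq.trans ?_ hn.symm
      refine congrArg (η.app (op W₀) ≫ ·) (((G.over V).obj.map_comp _ _).symm.trans ?_)
      show (G.over V).obj.map _ = (G.over V).obj.map ((toOver V).map f).op
      refine congrArg (fun k => (G.over V).obj.map k) (Quiver.Hom.unop_inj ?_)
      refine (congrArg (· ≫ e₀.inv) hf.symm).trans ?_
      exact (Category.assoc _ _ _).trans ((congrArg (_ ≫ ·) e₀.hom_inv_id).trans (Category.comp_id _))
    haveI : Presheaf.IsLocallyInjective (Scheme.ProEt.topology V.left)
        (Functor.whiskerLeft (toOver V).op η') := hw ▸ GrothendieckTopology.W.isLocallyInjective hη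
    haveI : Presheaf.IsLocallySurjective (Scheme.ProEt.topology V.left)
        (Functor.whiskerLeft (toOver V).op η') := hw ▸ GrothendieckTopology.W.isLocallySurjective hη
    haveI := Presheaf.isLocallyInjective_of_whisker (Scheme.ProEt.topology V.left)
      ((Scheme.ProEt.topology X).over V) (toOver V) η' (coverPreserving_toOver V)
    haveI := Presheaf.isLocallySurjective_of_whisker (Scheme.ProEt.topology V.left)
      ((Scheme.ProEt.topology X).over V) (toOver V) η' (coverPreserving_toOver V)
    exact ⟨η', ((Scheme.ProEt.topology X).over V).W_of_isLocallyBijective η'⟩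

/-- The constant pro-étale sheaf comes from the constant étale sheaf. -/
def epsConstIso (X : Scheme.{u}) :
    constantSheaf X.smallEtaleTopology (ModuleCat.{u + 1} Λ) ⋙ EtModW.epsPullMod Λ X ≅
      constantSheaf (Scheme.ProEt.topology X) (ModuleCat.{u + 1} Λ) :=
  ((constantSheafAdj X.smallEtaleTopology (ModuleCat.{u + 1} Λ) (T := EtCoh.top X)
      (IsTerminal.ofUniqueHom (fun U => MorphismProperty.Over.homMk U.hom (Category.comp_id _) trivial)
        fun U g => MorphismProperty.Over.Hom.ext ((Category.comp_id g.left).symm.trans (MorphismProperty.Over.w g)))).comp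
    epsAdjMod).leftAdjointUniq
    ((constantSheafAdj (Scheme.ProEt.topology X) (ModuleCat.{u + 1} Λ) (T := (_root_.ProEtS.eps X).obj (EtCoh.top X))
      (IsTerminal.ofUniqueHom (fun U => MorphismProperty.Over.homMk U.hom (Category.comp_id _) trivial)
        fun U g => MorphismProperty.Over.Hom.ext ((Category.comp_id g.left).symm.trans (MorphismProperty.Over.w g)))).ofNatIsoRight
      (NatIso.ofComponents (fun F => Iso.refl _) (fun g => by simp; rfl)))

/-- Constant on an object iff the inverse image to it comes from a constant étale sheaf. -/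
theorem nonempty_over_iso_iff_pull (V : X.ProEt) (G : EtModW.ModP Λ X)
    (M : Type (u + 1)) [AddCommGroup M] [Module Λ M] :
    Nonempty (G.over V ≅ (constantSheaf ((Scheme.ProEt.topology X).over V) (ModuleCat.{u + 1} Λ)).obj
        (ModuleCat.of Λ M)) ↔
      Nonempty ((pullPMod Λ V.hom).obj G ≅ (EtModW.epsPullMod Λ V.left).obj (EtModW.constMod Λ V.left M)) := by
  haveI : WeaklyEtale V.hom := V.prop
  haveI : _root_.ProEtS.JPCont V.hom := ProEtS.Restr.jpCont V.hom
  rw [nonempty_over_iso_iff]
  exact ⟨fun ⟨e⟩ => ⟨(restrPullIso V.hom).symm.app G ≪≫ e ≪≫ ((epsConstIso V.left).app _).symm⟩,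
    fun ⟨e⟩ => ⟨(restrPullIso V.hom).app G ≪≫ e ≪≫ (epsConstIso V.left).app _⟩⟩

end Groth.Agent.EtModWLib.ProConst
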