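import Groth.Agent.EtModWLib.EpsExt
import Groth.Agent.ARLib.Quot
import Groth.Agent.S0743
import Groth.Agent.ProEtS.ExtZeroLimits
import Mathlib.CategoryTheory.Functor.KanExtension.Preserves
import Mathlib.Algebra.Category.ModuleCat.Limits
import Mathlib.CategoryTheory.Category.ULift
import Mathlib.CategoryTheory.Adjunction.Unique

/-!
# Inverse images and extension by zero of pro-étale sheaves of modules, through abelian sheaves
-/

set_option autoImplicit false
set_option linter.style.haveILetI false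
set_option backward.isDefEq.respectTransparency.types false

universe u

open CategoryTheory CategoryTheory.Limits AlgebraicGeometry Opposite ARSys

noncomputable section

namespace Groth.Agent.EtModWLib.PullP

open Groth.Agent Groth.Agent.EtModWLib Groth.Agent.ARLib

variable {Λ : Type (u + 1)} [CommRing Λ] {U X : Scheme.{u}}

/-- Pullback along a functor of pro-étale sites commutes with forgetting the module structure. -/
def pullbackToAbPIso (G : U.ProEt ⥤ X.ProEt)
    [G.IsContinuous (Scheme.ProEt.topology U) (Scheme.ProEt.topology X)] :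
    G.sheafPullback (ModuleCat.{u + 1} Λ) (Scheme.ProEt.topology U) (Scheme.ProEt.topology X) ⋙ toAbP Λ X ≅
      toAbP Λ U ⋙ G.sheafPullback AddCommGrpCat.{u + 1} (Scheme.ProEt.topology U) (Scheme.ProEt.topology X) :=
  let fg := forget₂ (ModuleCat.{u + 1} Λ) AddCommGrpCat.{u + 1}
  let K := Scheme.ProEt.topology X
  Functor.isoWhiskerRight (Functor.sheafPullbackConstruction.sheafPullbackIso G (ModuleCat.{u + 1} Λ)
      (Scheme.ProEt.topology U) K) (toAbP Λ X) ≪≫
    Functor.isoWhiskerLeft (sheafToPresheaf (Scheme.ProEt.topology U) (ModuleCat.{u + 1} Λ) ⋙ G.op.lan)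
      (sheafComposeNatIso K fg (sheafificationAdjunction K (ModuleCat.{u + 1} Λ))
        (sheafificationAdjunction K AddCommGrpCat.{u + 1})).symm ≪≫
    Functor.isoWhiskerLeft (sheafToPresheaf (Scheme.ProEt.topology U) (ModuleCat.{u + 1} Λ))
      (Functor.isoWhiskerRight (Functor.lanCompIsoOfPreserves fg G.op) (presheafToSheaf K AddCommGrpCat.{u + 1})) ≪≫
    Functor.isoWhiskerLeft (toAbP Λ U)
      (Functor.sheafPullbackConstruction.sheafPullbackIso G AddCommGrpCat.{u + 1}
        (Scheme.ProEt.topology U) K).symm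

/-- Sheaves of modules pulled back along continuous functors keep quotients modulo any ideal. -/
theorem isQuot_leftAdjoint {C D : Type*} [Category* C] [Category* D] [Abelian C] [Abelian D]
    {A : Type*} [CommRing A] [Linear A C] [Linear A D] {L : C ⥤ D} {R : D ⥤ C} (adj : L ⊣ R)
    [R.Additive] [R.Linear A] {I : Ideal A} {F Q : C} {p : F ⟶ Q} (hp : IsQuot I p) : IsQuot I (L.map p) := by
  haveI := quot_epi hp
  haveI : PreservesColimitsOfShape WalkingSpan L := adj.leftAdjoint_preservesColimits.preservesColimitsOfShape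
  haveI : Epi (L.map p) := inferInstance
  refine isQuot_mk _ ?_ fun T φ hφ => ?_
  · intro a ha
    apply (adj.homEquiv Q (L.obj Q)).injective
    rw [Adjunction.homEquiv_unit, Adjunction.homEquiv_unit, R.map_smul, R.map_id, R.map_zero, comp_zero,
      Linear.comp_smul]
    erw [Category.comp_id]
    have := congrArg (· ≫ adj.unit.app Q) (hp.1 a ha)
    simpa using this
  · obtain ⟨ψ, hψ⟩ := quot_fac hp ((adj.homEquiv F T) φ) fun a ha => by
      rw [Adjunction.homEquiv_unit, ← Linear.comp_smul, ← R.map_smul, hφ a ha, R.map_zero, comp_zero]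
    exact ⟨(adj.homEquiv Q T).symm ψ,
      (adj.homEquiv_naturality_left_symm p ψ).symm.trans ((congrArg _ hψ).trans (Equiv.symm_apply_apply _ _))⟩

instance additive_pushforwardP (G : U.ProEt ⥤ X.ProEt)
    [G.IsContinuous (Scheme.ProEt.topology U) (Scheme.ProEt.topology X)] :
    (G.sheafPushforwardContinuous (ModuleCat.{u + 1} Λ) (Scheme.ProEt.topology U)
      (Scheme.ProEt.topology X)).Additive where
  map_add := rfl

instance linear_pushforwardP (G : U.ProEt ⥤ X.ProEt)
    [G.IsContinuous (Scheme.ProEt.topology U) (Scheme.ProEt.topology X)] :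
    (G.sheafPushforwardContinuous (ModuleCat.{u + 1} Λ) (Scheme.ProEt.topology U)
      (Scheme.ProEt.topology X)).Linear Λ where
  map_smul _ _ := rfl

theorem isQuot_pullbackP (G : U.ProEt ⥤ X.ProEt)
    [G.IsContinuous (Scheme.ProEt.topology U) (Scheme.ProEt.topology X)] {I : Ideal Λ}
    {F Q : EtModW.ModP Λ U} {p : F ⟶ Q} (hp : IsQuot I p) :
    IsQuot I ((G.sheafPullback (ModuleCat.{u + 1} Λ) (Scheme.ProEt.topology U) (Scheme.ProEt.topology X)).map p) :=
  isQuot_leftAdjoint (G.sheafAdjunctionContinuous (ModuleCat.{u + 1} Λ) (Scheme.ProEt.topology U)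
    (Scheme.ProEt.topology X)) hp

instance preservesLimitsOfShape_toAbP : PreservesLimitsOfShape ℕᵒᵖ (toAbP Λ X) := by
  have : PreservesLimitsOfShape ℕᵒᵖ (forget₂ (ModuleCat.{u + 1} Λ) AddCommGrpCat.{u + 1}) :=
    inferInstance
  have : PreservesLimitsOfShape ℕᵒᵖ (sheafToPresheaf (Scheme.ProEt.topology X) (ModuleCat.{u + 1} Λ) ⋙
      (Functor.whiskeringRight X.ProEtᵒᵖ (ModuleCat.{u + 1} Λ) AddCommGrpCat.{u + 1}).obj
        (forget₂ (ModuleCat.{u + 1} Λ) AddCommGrpCat.{u + 1})) := inferInstance
  have : PreservesLimitsOfShape ℕᵒᵖ (toAbP Λ X ⋙ sheafToPresheaf _ _) :=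
    preservesLimitsOfShape_of_natIso (Iso.refl (sheafToPresheaf (Scheme.ProEt.topology X) (ModuleCat.{u + 1} Λ) ⋙
      (Functor.whiskeringRight X.ProEtᵒᵖ (ModuleCat.{u + 1} Λ) AddCommGrpCat.{u + 1}).obj
        (forget₂ (ModuleCat.{u + 1} Λ) AddCommGrpCat.{u + 1})))
  exact preservesLimitsOfShape_of_reflects_of_preserves (toAbP Λ X)
    (sheafToPresheaf (Scheme.ProEt.topology X) AddCommGrpCat.{u + 1})

variable (j : U ⟶ X) [IsOpenImmersion j] [QuasiCompact j] [WeaklyEtale j] [_root_.ProEtS.JPCont j]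

theorem preservesLimitsOfShape_extZeroModP :
    PreservesLimitsOfShape ℕᵒᵖ ((_root_.ProEtS.compP j).sheafPullback (ModuleCat.{u + 1} Λ)
      (Scheme.ProEt.topology U) (Scheme.ProEt.topology X)) := by
  let J := ULiftHom.{u} (ULift.{u} ℕᵒᵖ)
  haveI := ProEtS.ExtZeroLimits.preservesLimitsOfShape j J
  haveI : PreservesLimitsOfShape ℕᵒᵖ (_root_.ProEtS.extZeroP j) :=
    preservesLimitsOfShape_of_equiv (ULiftHomULiftCategory.equiv ℕᵒᵖ).symm _
  haveI : PreservesLimitsOfShape ℕᵒᵖ ((_root_.ProEtS.compP j).sheafPullback (ModuleCat.{u + 1} Λ)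
      (Scheme.ProEt.topology U) (Scheme.ProEt.topology X) ⋙ toAbP Λ X) :=
    preservesLimitsOfShape_of_natIso (pullbackToAbPIso (_root_.ProEtS.compP j)).symm
  haveI : ReflectsLimitsOfShape ℕᵒᵖ (toAbP Λ X) := reflectsLimitsOfShape_of_reflectsIsomorphisms
  exact preservesLimitsOfShape_of_reflects_of_preserves _ (toAbP Λ X)

variable [hje : Etale j] [_root_.ProEtS.EpsCont U] [_root_.ProEtS.EpsCont X]
    [(MorphismProperty.Over.map (P := EtCoh.etaleMP.{u}) ⊤ (f := j) hje).IsContinuous U.smallEtaleTopology X.smallEtaleTopology]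
    [((MorphismProperty.Over.map (P := EtCoh.etaleMP.{u}) ⊤ (f := j) hje).sheafPushforwardContinuous (ModuleCat.{u + 1} Λ) U.smallEtaleTopology X.smallEtaleTopology).IsRightAdjoint]

/-- `ε_*` commutes with restriction along `j`. -/
def restrIso :
    (_root_.ProEtS.eps X).sheafPushforwardContinuous (ModuleCat.{u + 1} Λ) X.smallEtaleTopology (Scheme.ProEt.topology X) ⋙
        (MorphismProperty.Over.map (P := EtCoh.etaleMP.{u}) ⊤ (f := j) hje).sheafPushforwardContinuous
          (ModuleCat.{u + 1} Λ) U.smallEtaleTopology X.smallEtaleTopology ≅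
      (_root_.ProEtS.compP j).sheafPushforwardContinuous (ModuleCat.{u + 1} Λ) (Scheme.ProEt.topology U)
          (Scheme.ProEt.topology X) ⋙
        (_root_.ProEtS.eps U).sheafPushforwardContinuous (ModuleCat.{u + 1} Λ) U.smallEtaleTopology (Scheme.ProEt.topology U) :=
  NatIso.ofComponents (fun F => (sheafToPresheaf _ _).preimageIso
    (NatIso.ofComponents (fun V => F.obj.mapIso (((S0743.siteIso j).app V.unop).op.symm))
      (fun {V W} g => by
        change F.obj.map _ ≫ F.obj.map _ = F.obj.map _ ≫ F.obj.map _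
        rw [← F.obj.map_comp, ← F.obj.map_comp]
        congr 1)))
    (fun {F F'} φ => by
      apply (sheafToPresheaf _ _).map_injective
      apply NatTrans.ext
      funext V
      rw [Functor.map_comp, Functor.map_comp, Functor.preimageIso_hom, Functor.preimageIso_hom,
        Functor.map_preimage, Functor.map_preimage]
      exact (φ.hom.naturality (((S0743.siteIso j).app V.unop).op.symm.hom)).symm)

omit [IsOpenImmersion j] [QuasiCompact j] in
theorem nonempty_extZero_epsPullMod (E : EtModW.Mod Λ U) :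
    Nonempty ((EtModW.epsPullMod Λ X).obj (((MorphismProperty.Over.map (P := EtCoh.etaleMP.{u}) ⊤ (f := j) hje).sheafPullback
        (ModuleCat.{u + 1} Λ) U.smallEtaleTopology X.smallEtaleTopology).obj E) ≅
      ((_root_.ProEtS.compP j).sheafPullback (ModuleCat.{u + 1} Λ) (Scheme.ProEt.topology U)
        (Scheme.ProEt.topology X)).obj ((EtModW.epsPullMod Λ U).obj E)) :=
  ⟨((((MorphismProperty.Over.map (P := EtCoh.etaleMP.{u}) ⊤ (f := j) hje).sheafAdjunctionContinuous
        (ModuleCat.{u + 1} Λ) U.smallEtaleTopology X.smallEtaleTopology).comp epsAdjMod).leftAdjointUniq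
      ((epsAdjMod.comp ((_root_.ProEtS.compP j).sheafAdjunctionContinuous (ModuleCat.{u + 1} Λ)
        (Scheme.ProEt.topology U) (Scheme.ProEt.topology X))).ofNatIsoRight (restrIso j).symm)).app E⟩

end Groth.Agent.EtModWLib.PullP
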