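import Groth.Agent.EtModWLib.PullP
import Groth.Agent.EtModWLib.PushP
import Groth.Agent.ProEtS.Site
import Groth.Agent.ProEtS.Restr
import Groth.Agent.S0742

/-!
# Inverse images of pro-étale sheaves of modules and pullback from the étale site

For every morphism `g` the inverse image on the pro-étale sites commutes with `ε⁻¹`, inverse images
compose, and the inverse image along an open immersion is the restriction.
-/

set_option autoImplicit false
set_option linter.style.haveILetI false
set_option backward.isDefEq.respectTransparency.types false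

universe u

open CategoryTheory CategoryTheory.Limits AlgebraicGeometry Opposite

noncomputable section

namespace Groth.Agent.EtModWLib.PullPBc

open Groth.Agent Groth.Agent.EtModWLib

attribute [local instance] Groth.Agent.ProEtS.Site.pCont Groth.Agent.ProEtS.Site.epsCont

variable {Λ : Type (u + 1)} [CommRing Λ] {X Y Z : Scheme.{u}}

/-- Inverse image of pro-étale sheaves of modules. -/
abbrev pullPMod (Λ : Type (u + 1)) [CommRing Λ] (g : X ⟶ Y) [_root_.ProEtS.PCont g] :
    EtModW.ModP Λ Y ⥤ EtModW.ModP Λ X :=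
  (_root_.ProEtS.bcP g).sheafPullback (ModuleCat.{u + 1} Λ) (Scheme.ProEt.topology Y)
    (Scheme.ProEt.topology X)

/-- Inverse image is left adjoint to direct image. -/
abbrev pullPModAdj (g : X ⟶ Y) [_root_.ProEtS.PCont g] :
    pullPMod Λ g ⊣ PushP.pushPMod g Λ :=
  (_root_.ProEtS.bcP g).sheafAdjunctionContinuous (ModuleCat.{u + 1} Λ) (Scheme.ProEt.topology Y)
    (Scheme.ProEt.topology X)

/-- Direct images commute with `ε_*`. -/
def pushEpsIso (g : X ⟶ Y) :
    PushP.pushPMod g Λ ⋙ (_root_.ProEtS.eps Y).sheafPushforwardContinuous (ModuleCat.{u + 1} Λ)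
        Y.smallEtaleTopology (Scheme.ProEt.topology Y) ≅
      (_root_.ProEtS.eps X).sheafPushforwardContinuous (ModuleCat.{u + 1} Λ) X.smallEtaleTopology
        (Scheme.ProEt.topology X) ⋙ EtModW.push Λ g :=
  NatIso.ofComponents (fun F => PushP.pushIso g F)
    (fun {F F'} φ => by
      apply (sheafToPresheaf _ _).map_injective
      apply NatTrans.ext
      funext V
      rw [Functor.map_comp, Functor.map_comp]
      dsimp only [PushP.pushIso]
      rw [Functor.preimageIso_hom, Functor.preimageIso_hom, Functor.map_preimage, Functor.map_preimage]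
      exact (φ.hom.naturality (((PushP.siteIso g).app V.unop).op.symm.hom)).symm)

/-- Inverse images commute with `ε⁻¹`. -/
def pullEpsIso (g : X ⟶ Y) :
    EtModW.epsPullMod Λ Y ⋙ pullPMod Λ g ≅ EtModW.pull Λ g ⋙ EtModW.epsPullMod Λ X :=
  ((epsAdjMod (Λ := Λ) (X := Y)).comp (pullPModAdj g)).leftAdjointUniq
    ((((EtCoh.bc g).sheafAdjunctionContinuous (ModuleCat.{u + 1} Λ) Y.smallEtaleTopology
      X.smallEtaleTopology).comp epsAdjMod).ofNatIsoRight (pushEpsIso g).symm)

/-- Direct images compose. -/
def pushCompIso (f : X ⟶ Y) (g : Y ⟶ Z) :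
    PushP.pushPMod (f ≫ g) Λ ≅ PushP.pushPMod f Λ ⋙ PushP.pushPMod g Λ :=
  let σ : _root_.ProEtS.bcP (f ≫ g) ≅ _root_.ProEtS.bcP g ⋙ _root_.ProEtS.bcP f :=
    MorphismProperty.Over.pullbackComp (P := @WeaklyEtale) (Q := ⊤) f g
  NatIso.ofComponents
    (fun F => (sheafToPresheaf _ _).preimageIso
      (NatIso.ofComponents (fun V => F.obj.mapIso ((σ.app V.unop).op.symm))
        (fun {V W} a => by
          change F.obj.map _ ≫ F.obj.map _ = F.obj.map _ ≫ F.obj.map _
          rw [← F.obj.map_comp, ← F.obj.map_comp]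
          congr 1
          exact Quiver.Hom.unop_inj (σ.inv.naturality a.unop).symm)))
    (fun {F F'} φ => by
      apply (sheafToPresheaf _ _).map_injective
      apply NatTrans.ext
      funext V
      rw [Functor.map_comp, Functor.map_comp, Functor.preimageIso_hom, Functor.preimageIso_hom,
        Functor.map_preimage, Functor.map_preimage]
      exact (φ.hom.naturality ((σ.app V.unop).op.symm.hom)).symm)

/-- Inverse images compose. -/
def pullCompIso (f : X ⟶ Y) (g : Y ⟶ Z) :
    pullPMod Λ (f ≫ g) ≅ pullPMod Λ g ⋙ pullPMod Λ f :=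
  (pullPModAdj (f ≫ g)).leftAdjointUniq
    (((pullPModAdj g).comp (pullPModAdj f)).ofNatIsoRight (pushCompIso f g).symm)

/-- The inverse image along a weakly étale morphism is the restriction. -/
def restrPullIso (j : X ⟶ Y) [WeaklyEtale j] [_root_.ProEtS.JPCont j] :
    (_root_.ProEtS.compP j).sheafPushforwardContinuous (ModuleCat.{u + 1} Λ) (Scheme.ProEt.topology X)
        (Scheme.ProEt.topology Y) ≅ pullPMod Λ j :=
  ((S0742.compBcAdj j).sheafPushforwardContinuous (E := ModuleCat.{u + 1} Λ)
    (Scheme.ProEt.topology X) (Scheme.ProEt.topology Y)).leftAdjointUniq (pullPModAdj j)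

/-- Pullbacks from the étale site are stable under inverse image. -/
theorem essImage_pullPMod (g : X ⟶ Y) {F : EtModW.ModP Λ Y} (hF : (EtModW.epsPullMod Λ Y).essImage F) :
    (EtModW.epsPullMod Λ X).essImage ((pullPMod Λ g).obj F) := by
  obtain ⟨E, ⟨e⟩⟩ := hF
  exact ⟨(EtModW.pull Λ g).obj E, ⟨((pullEpsIso g).app E).symm ≪≫ (pullPMod Λ g).mapIso e⟩⟩

/-- Inverse images along a composite from those along the second factor. -/
theorem essImage_pullPMod_comp {h : X ⟶ Z} (f : X ⟶ Y) (g : Y ⟶ Z) (hfg : f ≫ g = h)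
    {F : EtModW.ModP Λ Z} (hF : (EtModW.epsPullMod Λ Y).essImage ((pullPMod Λ g).obj F)) :
    (EtModW.epsPullMod Λ X).essImage ((pullPMod Λ h).obj F) := by
  subst hfg
  obtain ⟨E, ⟨e⟩⟩ := essImage_pullPMod f hF
  exact ⟨E, ⟨e ≪≫ ((pullCompIso f g).app F).symm⟩⟩

end Groth.Agent.EtModWLib.PullPBc
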