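import Groth.Agent.EtModWLib.Triv
import Groth.Prelude.Def_EtModD2
import Mathlib.LinearAlgebra.TensorProduct.Basic
import Mathlib.RingTheory.TensorProduct.Finite

/-!
# Tensor products of trivialised sheaves of modules
-/

universe u

open CategoryTheory CategoryTheory.Limits AlgebraicGeometry Opposite MonoidalCategory
open scoped TensorProduct

namespace Groth.Agent.EtModWLib

open Groth.Agent

variable {Λ : Type (u + 1)} [CommRing Λ] {X : Scheme.{u}}

/-- The presheaf tensor product. -/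
noncomputable abbrev tensorPre (F G : EtModW.Mod Λ X) : X.Etaleᵒᵖ ⥤ ModuleCat.{u + 1} Λ :=
  F.obj ⊗ G.obj

/-- The sheaf tensor product is the sheafification of the presheaf tensor product. -/
noncomputable def toTensor (F G : EtModW.Mod Λ X) :
    tensorPre F G ⟶ (((EtModD.tensorBi Λ X).obj F).obj G).obj :=
  toSheafify X.smallEtaleTopology (tensorPre F G)

/-- Tensor product of trivialisations, as a map to presheaf sections. -/
noncomputable def tmulSect {F G : EtModW.Mod Λ X} {U : X.Etale}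
    {M N : Type (u + 1)} [AddCommGroup M] [Module Λ M] [AddCommGroup N] [Module Λ N]
    (m : M →ₗ[Λ] F.obj.obj (op U)) (n : N →ₗ[Λ] G.obj.obj (op U)) :
    M ⊗[Λ] N →ₗ[Λ] (tensorPre F G).obj (op U) :=
  TensorProduct.map m n

theorem tensorPre_map_tmul (F G : EtModW.Mod Λ X) {U V : X.Etale} (g : V ⟶ U) (s : F.obj.obj (op U))
    (t : G.obj.obj (op U)) :
    (tensorPre F G).map g.op (s ⊗ₜ t) = (F.obj.map g.op s) ⊗ₜ[Λ] (G.obj.map g.op t) :=
  ModuleCat.MonoidalCategory.tensorHom_tmul _ _ s t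

theorem bijective_tmulSect {F G : EtModW.Mod Λ X} {U : X.Etale}
    {M N : Type (u + 1)} [AddCommGroup M] [Module Λ M] [AddCommGroup N] [Module Λ N]
    {m : M →ₗ[Λ] F.obj.obj (op U)} {n : N →ₗ[Λ] G.obj.obj (op U)}
    (hm : IsTriv F U M m) (hn : IsTriv G U N n)
    {Ω : Type u} [Field Ω] [IsSepClosed Ω] {ξ : Spec (CommRingCat.of Ω) ⟶ X}
    (φ : (Scheme.pointSmallEtale ξ).fiber.obj U) :
    Function.Bijective fun z =>
      (Scheme.pointSmallEtale ξ).toPresheafFiber U φ (tensorPre F G) (tmulSect m n z) := by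
  let Φ := Scheme.pointSmallEtale ξ
  constructor
  · let δ : Φ.presheafFiber.obj (tensorPre F G) ⟶
        (EtModW.stalk Λ ξ).obj F ⊗ (EtModW.stalk Λ ξ).obj G :=
      Φ.presheafFiberDesc (fun V y => germ ξ F V y ⊗ₘ germ ξ G V y) (fun V W g y => by
        refine ModuleCat.MonoidalCategory.tensor_ext fun s t => ?_
        show (germ ξ F V y ⊗ₘ germ ξ G V y) ((tensorPre F G).map g.op (s ⊗ₜ t)) =
          (germ ξ F W (Φ.fiber.map g y) ⊗ₘ germ ξ G W (Φ.fiber.map g y)) (s ⊗ₜ t)
        rw [tensorPre_map_tmul, ModuleCat.MonoidalCategory.tensorHom_tmul,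
          ModuleCat.MonoidalCategory.tensorHom_tmul, germ_res, germ_res])
    have key : ∀ z, δ (Φ.toPresheafFiber U φ (tensorPre F G) (tmulSect m n z)) =
        TensorProduct.congr (hm.stalkEquiv φ) (hn.stalkEquiv φ) z := fun z => by
      refine (congrArg (fun k : (tensorPre F G).obj (op U) ⟶
          (EtModW.stalk Λ ξ).obj F ⊗ (EtModW.stalk Λ ξ).obj G => k (tmulSect m n z))
        (Φ.toPresheafFiber_presheafFiberDesc _ _ U φ)).trans ?_
      exact LinearMap.congr_fun (TensorProduct.ext' (g := ((germ ξ F U φ ⊗ₘ germ ξ G U φ).hom.comp (tmulSect m n)))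
        (h := (TensorProduct.congr (hm.stalkEquiv φ) (hn.stalkEquiv φ)).toLinearMap)
        fun x y => ModuleCat.MonoidalCategory.tensorHom_tmul _ _ (m x) (n y)) z
    intro a b e
    exact (TensorProduct.congr (hm.stalkEquiv φ) (hn.stalkEquiv φ)).injective
      ((key a).symm.trans ((congrArg δ e).trans (key b)))
  · let τ := (Φ.toPresheafFiber U φ (tensorPre F G)).hom.comp (tmulSect m n)
    intro p
    obtain ⟨V, ψ, z, rfl⟩ := Φ.toPresheafFiber_jointly_surjective p
    obtain ⟨W, w, a, b, ha, hb⟩ := exists_refine φ ψ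
    suffices ∀ z : (tensorPre F G).obj (op W),
        Φ.toPresheafFiber W w (tensorPre F G) z ∈ LinearMap.range τ by
      have h := this ((tensorPre F G).map b.op z)
      rw [Φ.toPresheafFiber_w_apply, hb] at h
      exact h
    intro z
    induction z using TensorProduct.induction_on with
    | zero => exact (congrArg (· ∈ LinearMap.range τ) (map_zero (Φ.toPresheafFiber W w (tensorPre F G)).hom)).mpr (Submodule.zero_mem _)
    | add x y hx hy => exact (congrArg (· ∈ LinearMap.range τ) (map_add (Φ.toPresheafFiber W w (tensorPre F G)).hom x y)).mpr (Submodule.add_mem _ hx hy)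
    | tmul s t =>
      obtain ⟨x, hx⟩ := (hm.restrict a Ω ξ w).2 (germ ξ F W w s)
      obtain ⟨y, hy⟩ := (hn.restrict a Ω ξ w).2 (germ ξ G W w t)
      obtain ⟨V₁, g₁, v₁, hv₁, he₁⟩ := (germ_eq_iff ξ F W w _ _).1 hx
      have hy₁ : germ ξ G V₁ v₁ (G.obj.map g₁.op (G.obj.map a.op (n y))) =
          germ ξ G V₁ v₁ (G.obj.map g₁.op t) := by
        rw [germ_res, hv₁, germ_res ξ G g₁, hv₁]
        exact hy
      obtain ⟨V₂, g₂, v₂, hv₂, he₂⟩ := (germ_eq_iff ξ G V₁ v₁ _ _).1 hy₁
      refine ⟨x ⊗ₜ y, ?_⟩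
      have hres : ∀ {V W : X.Etale} (g : V ⟶ W) (v : Φ.fiber.obj V) (s : F.obj.obj (op W))
          (t : G.obj.obj (op W)), Φ.toPresheafFiber W (Φ.fiber.map g v) (tensorPre F G) (s ⊗ₜ t) =
            Φ.toPresheafFiber V v (tensorPre F G) (F.obj.map g.op s ⊗ₜ[Λ] G.obj.map g.op t) := by
        intro V W g v s t
        rw [← tensorPre_map_tmul]
        exact (Φ.toPresheafFiber_w_apply g v (tensorPre F G) (s ⊗ₜ t)).symm
      show Φ.toPresheafFiber U φ (tensorPre F G) (m x ⊗ₜ n y) = _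
      rw [← ha, ← hv₁, ← hv₂, hres, hres, hres, hres, hres]
      refine congrArg _ (congrArg₂ (fun s t => s ⊗ₜ[Λ] t) ?_ ?_)
      · exact congrArg (F.obj.map g₂.op) he₁
      · exact he₂

theorem IsTriv.tensor {F G : EtModW.Mod Λ X} {U : X.Etale}
    {M N : Type (u + 1)} [AddCommGroup M] [Module Λ M] [AddCommGroup N] [Module Λ N]
    {m : M →ₗ[Λ] F.obj.obj (op U)} {n : N →ₗ[Λ] G.obj.obj (op U)}
    (hm : IsTriv F U M m) (hn : IsTriv G U N n) :
    IsTriv (((EtModD.tensorBi Λ X).obj F).obj G) U (M ⊗[Λ] N)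
      (((toTensor F G).app (op U)).hom.comp (tmulSect m n)) := by
  intro Ω _ _ ξ φ
  let Φ := Scheme.pointSmallEtale ξ
  have : IsIso (Φ.presheafFiber.map (toTensor F G)) :=
    Φ.W_isInvertedBy_presheafFiber' (toTensor F G) (X.smallEtaleTopology.W_toSheafify _)
  have hc : (fun z => germ ξ (((EtModD.tensorBi Λ X).obj F).obj G) U φ
      (((toTensor F G).app (op U)).hom.comp (tmulSect m n) z)) =
      Φ.presheafFiber.map (toTensor F G) ∘
        fun z => Φ.toPresheafFiber U φ (tensorPre F G) (tmulSect m n z) :=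
    funext fun z => (Φ.toPresheafFiber_naturality_apply (toTensor F G) U φ (tmulSect m n z)).symm
  rw [hc]
  exact (ConcreteCategory.bijective_of_isIso (Φ.presheafFiber.map (toTensor F G))).comp
    (bijective_tmulSect hm hn φ)

/-- Tensor products of finite type locally constant sheaves are finite type locally constant. -/
theorem isFTLocConst_tensor {F G : EtModW.Mod Λ X} (hF : EtModW.IsFTLocConst Λ F)
    (hG : EtModW.IsFTLocConst Λ G) :
    EtModW.IsFTLocConst Λ (((EtModD.tensorBi Λ X).obj F).obj G) := by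
  refine isFTLocConst_of_isTriv fun Ω _ _ ξ => ?_
  obtain ⟨U, φ, M, _, _, _, m, hm⟩ := exists_isTriv hF ξ
  obtain ⟨V, ψ, N, _, _, _, n, hn⟩ := exists_isTriv hG ξ
  obtain ⟨W, w, a, b, -, -⟩ := exists_refine φ ψ
  exact ⟨W, w, M ⊗[Λ] N, inferInstance, inferInstance, inferInstance, _,
    (hm.restrict a).tensor (hn.restrict b)⟩

end Groth.Agent.EtModWLib
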