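import Groth.Agent.EtModWLib.Tensor
import Groth.Agent.EtModWLib.PullTriv
import Mathlib.CategoryTheory.Sites.Point.Monoidal
import Mathlib.Algebra.Category.ModuleCat.Monoidal.Closed
import Mathlib.Algebra.Category.ModuleCat.Monoidal.Symmetric

/-!
# Inverse images commute with tensor products of sheaves of modules
-/

universe u

open CategoryTheory CategoryTheory.Limits AlgebraicGeometry Opposite MonoidalCategory
open scoped TensorProduct

namespace Groth.Agent.EtModWLib

open Groth.Agent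

variable {Λ : Type (u + 1)} [CommRing Λ] {X Y : Scheme.{u}}

instance preservesFilteredColimits_tensorLeft (M : ModuleCat.{u + 1} Λ) :
    PreservesFilteredColimitsOfSize.{u, u} (tensorLeft M) :=
  have : PreservesColimitsOfSize.{u, u} (tensorLeft M) :=
    (Adjunction.ofIsLeftAdjoint (tensorLeft M)).leftAdjoint_preservesColimits
  ⟨fun _ _ _ => inferInstance⟩

instance preservesFilteredColimits_tensorRight (M : ModuleCat.{u + 1} Λ) :
    PreservesFilteredColimitsOfSize.{u, u} (tensorRight M) :=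
  have : PreservesColimitsOfSize.{u, u} (tensorRight M) :=
    preservesColimits_of_natIso (BraidedCategory.tensorLeftIsoTensorRight M)
  ⟨fun _ _ _ => inferInstance⟩

variable (f : X ⟶ Y) (F G : EtModW.Mod Λ Y)

/-- Pulling back the two factors of a presheaf tensor section. -/
noncomputable def tensorUnit' : tensorPre F G ⟶
    ((EtModW.push Λ f).obj (((EtModD.tensorBi Λ X).obj ((EtModW.pull Λ f).obj F)).obj
      ((EtModW.pull Λ f).obj G))).obj where
  app V := (ModuleCat.ofHom (pullSect f F V.unop) ⊗ₘ ModuleCat.ofHom (pullSect f G V.unop)) ≫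
    (toTensor ((EtModW.pull Λ f).obj F) ((EtModW.pull Λ f).obj G)).app (op ((EtCoh.bc f).obj V.unop))
  naturality V W g := by
    refine ModuleCat.MonoidalCategory.tensor_ext fun s t => ?_
    let F' := (EtModW.pull Λ f).obj F
    let G' := (EtModW.pull Λ f).obj G
    have hF : pullSect f F W.unop (F.obj.map g s) =
        F'.obj.map ((EtCoh.bc f).map g.unop).op (pullSect f F V.unop s) :=
      NatTrans.naturality_apply (((pullPushAdj (Λ := Λ) f).unit.app F).hom) g s
    have hG : pullSect f G W.unop (G.obj.map g t) =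
        G'.obj.map ((EtCoh.bc f).map g.unop).op (pullSect f G V.unop t) :=
      NatTrans.naturality_apply (((pullPushAdj (Λ := Λ) f).unit.app G).hom) g t
    let z' : (tensorPre F' G').obj (op ((EtCoh.bc f).obj V.unop)) :=
      pullSect f F V.unop s ⊗ₜ[Λ] pullSect f G V.unop t
    have h1 : (tensorPre F' G').map ((EtCoh.bc f).map g.unop).op z' =
        (ModuleCat.ofHom (pullSect f F W.unop) ⊗ₘ ModuleCat.ofHom (pullSect f G W.unop))
          ((tensorPre F G).map g.unop.op (s ⊗ₜ t)) := by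
      refine (tensorPre_map_tmul F' G' ((EtCoh.bc f).map g.unop) _ _).trans
        ((congrArg₂ (fun a b => a ⊗ₜ[Λ] b) hF.symm hG.symm).trans ?_)
      exact ((congrArg (ModuleCat.ofHom (pullSect f F W.unop) ⊗ₘ ModuleCat.ofHom (pullSect f G W.unop))
        (tensorPre_map_tmul F G g.unop s t)).trans (ModuleCat.MonoidalCategory.tensorHom_tmul _ _ _ _)).symm
    have h2 : (ModuleCat.ofHom (pullSect f F V.unop) ⊗ₘ ModuleCat.ofHom (pullSect f G V.unop)) (s ⊗ₜ t) = z' :=
      ModuleCat.MonoidalCategory.tensorHom_tmul _ _ _ _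
    exact ((congrArg (fun x => (toTensor F' G').app (op ((EtCoh.bc f).obj W.unop)) x) h1.symm).trans
      (NatTrans.naturality_apply (toTensor F' G') ((EtCoh.bc f).map g.unop).op z')).trans
      (congrArg (fun x => (((EtModD.tensorBi Λ X).obj F').obj G').obj.map ((EtCoh.bc f).map g.unop).op
        ((toTensor F' G').app (op ((EtCoh.bc f).obj V.unop)) x)) h2.symm)

/-- The comparison `f⁻¹(F ⊗ G) ⟶ f⁻¹F ⊗ f⁻¹G`. -/
noncomputable def pullTensor :
    (EtModW.pull Λ f).obj (((EtModD.tensorBi Λ Y).obj F).obj G) ⟶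
      ((EtModD.tensorBi Λ X).obj ((EtModW.pull Λ f).obj F)).obj ((EtModW.pull Λ f).obj G) :=
  ((pullPushAdj (Λ := Λ) f).homEquiv _ _).symm
    ⟨sheafifyLift Y.smallEtaleTopology (tensorUnit' f F G) ((EtModW.push Λ f).obj _).property⟩

theorem pullTensor_pullSect (V : Y.Etale) (z : (tensorPre F G).obj (op V)) :
    (pullTensor f F G).hom.app (op ((EtCoh.bc f).obj V))
      (pullSect f _ V ((toTensor F G).app (op V) z)) = (tensorUnit' f F G).app (op V) z := by
  have h1 := congrArg (fun k => k.hom.app (op V) ((toTensor F G).app (op V) z))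
    (((pullPushAdj (Λ := Λ) f).homEquiv_unit _ _ (pullTensor f F G)).symm.trans
      (Equiv.apply_symm_apply _ _))
  refine h1.trans ?_
  exact congrArg (fun k => k.app (op V) z)
    (toSheafify_sheafifyLift Y.smallEtaleTopology (tensorUnit' f F G) ((EtModW.push Λ f).obj _).property)

/-- Inverse images commute with tensor products. -/
theorem isIso_pullTensor : IsIso (pullTensor f F G) := by
  refine isIso_of_stalk _ fun Ω _ _ ξ => ?_
  let Φ := Scheme.pointSmallEtale ξ
  let Φ' := Scheme.pointSmallEtale (ξ ≫ f)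
  let F' := (EtModW.pull Λ f).obj F
  let G' := (EtModW.pull Λ f).obj G
  have hX : ∀ P Q : X.Etaleᵒᵖ ⥤ ModuleCat.{u + 1} Λ, IsIso (Functor.OplaxMonoidal.δ Φ.presheafFiber P Q) :=
    fun P Q => inferInstanceAs (IsIso (Functor.OplaxMonoidal.δ (Scheme.pointSmallEtale ξ).presheafFiber P Q))
  have hY : ∀ P Q : Y.Etaleᵒᵖ ⥤ ModuleCat.{u + 1} Λ, IsIso (Functor.OplaxMonoidal.δ Φ'.presheafFiber P Q) :=
    fun P Q => inferInstanceAs (IsIso (Functor.OplaxMonoidal.δ (Scheme.pointSmallEtale (ξ ≫ f)).presheafFiber P Q))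
  have : IsIso (Φ'.presheafFiber.map (toTensor F G)) :=
    Φ'.W_isInvertedBy_presheafFiber' (toTensor F G) (Y.smallEtaleTopology.W_toSheafify _)
  have : IsIso (Φ.presheafFiber.map (toTensor F' G')) :=
    Φ.W_isInvertedBy_presheafFiber' (toTensor F' G') (X.smallEtaleTopology.W_toSheafify _)
  have : IsIso (Functor.OplaxMonoidal.δ Φ.presheafFiber F'.obj G'.obj) :=
    inferInstanceAs (IsIso (Functor.OplaxMonoidal.δ (Scheme.pointSmallEtale ξ).presheafFiber
      ((EtModW.pull Λ f).obj F).obj ((EtModW.pull Λ f).obj G).obj))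
  have : IsIso (Functor.OplaxMonoidal.δ Φ'.presheafFiber F.obj G.obj) :=
    inferInstanceAs (IsIso (Functor.OplaxMonoidal.δ (Scheme.pointSmallEtale (ξ ≫ f)).presheafFiber F.obj G.obj))
  let a := Φ'.presheafFiber.map (toTensor F G) ≫ (stalkPullIso (Λ := Λ) f ξ).inv.app _ ≫
    (EtModW.stalk Λ ξ).map (pullTensor f F G)
  let b : Φ'.presheafFiber.obj (tensorPre F G) ⟶ Φ.presheafFiber.obj
      (((EtModD.tensorBi Λ X).obj F').obj G').obj :=
    Functor.OplaxMonoidal.δ Φ'.presheafFiber F.obj G.obj ≫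
      ((stalkPullIso (Λ := Λ) f ξ).inv.app F ⊗ₘ (stalkPullIso (Λ := Λ) f ξ).inv.app G) ≫
      @inv _ _ _ _ (Functor.OplaxMonoidal.δ Φ.presheafFiber F'.obj G'.obj) (hX _ _) ≫
      Φ.presheafFiber.map (toTensor F' G')
  have hab : a = b := by
    refine Φ'.presheafFiber_hom_ext fun V φ => ?_
    refine ModuleCat.MonoidalCategory.tensor_ext fun s t => ?_
    let φ' := EtaleSite.fiberBcEquiv f ξ V φ
    let W := (EtCoh.bc f).obj V
    have hδ : Functor.OplaxMonoidal.δ Φ.presheafFiber F'.obj G'.obj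
        (Φ.toPresheafFiber W φ' (tensorPre F' G') (pullSect f F V s ⊗ₜ pullSect f G V t)) =
        (germ ξ F' W φ' (pullSect f F V s)) ⊗ₜ[Λ] (germ ξ G' W φ' (pullSect f G V t)) :=
      (congrArg (fun k => k (pullSect f F V s ⊗ₜ pullSect f G V t))
        (Φ.toPresheafFiber_δ W φ' F'.obj G'.obj)).trans
        (ModuleCat.MonoidalCategory.tensorHom_tmul _ _ _ _)
    let z : (tensorPre F G).obj (op V) := s ⊗ₜ[Λ] t
    let z' : (tensorPre F' G').obj (op W) := pullSect f F V s ⊗ₜ[Λ] pullSect f G V t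
    have ha : a (Φ'.toPresheafFiber V φ (tensorPre F G) z) =
        Φ.presheafFiber.map (toTensor F' G') (Φ.toPresheafFiber W φ' (tensorPre F' G') z') := by
      show (EtModW.stalk Λ ξ).map (pullTensor f F G) ((stalkPullIso (Λ := Λ) f ξ).inv.app _
        (Φ'.presheafFiber.map (toTensor F G) (Φ'.toPresheafFiber V φ (tensorPre F G) z))) = _
      refine Eq.trans ?_ (Φ.toPresheafFiber_naturality_apply (toTensor F' G') W φ' z').symm
      rw [Φ'.toPresheafFiber_naturality_apply]
      refine (congrArg ((EtModW.stalk Λ ξ).map (pullTensor f F G))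
        (germ_pullSect f ξ (((EtModD.tensorBi Λ Y).obj F).obj G) V φ ((toTensor F G).app (op V) z)).symm).trans ?_
      refine (germ_naturality ξ (pullTensor f F G) W φ' _).trans ?_
      refine congrArg (germ ξ _ W φ') ((pullTensor_pullSect f F G V z).trans ?_)
      exact congrArg (fun x => (toTensor F' G').app (op W) x)
        (ModuleCat.MonoidalCategory.tensorHom_tmul _ _ s t)
    have hb : b (Φ'.toPresheafFiber V φ (tensorPre F G) (s ⊗ₜ t)) =
        Φ.presheafFiber.map (toTensor F' G')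
          (Φ.toPresheafFiber W φ' (tensorPre F' G') (pullSect f F V s ⊗ₜ pullSect f G V t)) := by
      simp only [b, ConcreteCategory.comp_apply]
      refine congrArg (Φ.presheafFiber.map (toTensor F' G')) ?_
      refine ((ConcreteCategory.bijective_of_isIso
        (Functor.OplaxMonoidal.δ Φ.presheafFiber F'.obj G'.obj)).1 ?_)
      rw [hδ]
      refine (congrArg (fun k => k (((stalkPullIso (Λ := Λ) f ξ).inv.app F ⊗ₘ (stalkPullIso (Λ := Λ) f ξ).inv.app G)
          (Functor.OplaxMonoidal.δ Φ'.presheafFiber F.obj G.obj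
            (Φ'.toPresheafFiber V φ (tensorPre F G) (s ⊗ₜ t)))))
        (@IsIso.inv_hom_id _ _ _ _ (Functor.OplaxMonoidal.δ Φ.presheafFiber F'.obj G'.obj) (hX _ _))).trans ?_
      show ((stalkPullIso (Λ := Λ) f ξ).inv.app F ⊗ₘ (stalkPullIso (Λ := Λ) f ξ).inv.app G)
          (Functor.OplaxMonoidal.δ Φ'.presheafFiber F.obj G.obj
            (Φ'.toPresheafFiber V φ (tensorPre F G) (s ⊗ₜ t))) = _
      have h2 : Functor.OplaxMonoidal.δ Φ'.presheafFiber F.obj G.obj
          (Φ'.toPresheafFiber V φ (tensorPre F G) (s ⊗ₜ t)) =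
          (germ (ξ ≫ f) F V φ s) ⊗ₜ[Λ] (germ (ξ ≫ f) G V φ t) :=
        (congrArg (fun k => k (s ⊗ₜ t)) (Φ'.toPresheafFiber_δ V φ F.obj G.obj)).trans
          (ModuleCat.MonoidalCategory.tensorHom_tmul _ _ _ _)
      rw [h2]
      refine (ModuleCat.MonoidalCategory.tensorHom_tmul _ _ _ _).trans ?_
      exact congrArg₂ (fun a b => a ⊗ₜ[Λ] b) (germ_pullSect f ξ F V φ s).symm (germ_pullSect f ξ G V φ t).symm
    exact ha.trans hb.symm
  have hmid : IsIso ((stalkPullIso (Λ := Λ) f ξ).inv.app F ⊗ₘ (stalkPullIso (Λ := Λ) f ξ).inv.app G) :=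
    inferInstance
  have : IsIso b := by
    refine @IsIso.comp_isIso _ _ _ _ _ _ _ (hY _ _) ?_
    refine @IsIso.comp_isIso _ _ _ _ _ _ _ hmid ?_
    exact @IsIso.comp_isIso _ _ _ _ _ _ _ (@IsIso.inv_isIso _ _ _ _ _ (hX _ _)) inferInstance
  have : IsIso a := hab ▸ this
  have := IsIso.of_isIso_comp_left (Φ'.presheafFiber.map (toTensor F G)) ((stalkPullIso (Λ := Λ) f ξ).inv.app _ ≫
    (EtModW.stalk Λ ξ).map (pullTensor f F G))
  exact @IsIso.of_isIso_comp_left _ _ _ _ _ ((stalkPullIso (Λ := Λ) f ξ).inv.app _) _ inferInstance this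

end Groth.Agent.EtModWLib
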