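import Groth.Prelude.Def_EtModW
import Groth.Prelude.Def_ARSys
import Groth.Agent.ProEtS.Covers
import Mathlib.Algebra.Category.ModuleCat.EpiMono
import Mathlib.CategoryTheory.Functor.OfSequence
import Mathlib.CategoryTheory.Sites.EpiMono

/-!
# Sheaves of modules on the pro-etale site through their sections on weakly contractible objects
-/

universe u

open CategoryTheory CategoryTheory.Limits AlgebraicGeometry Opposite

namespace Groth.Agent.EtModWLib

open Groth.Agent

variable {Λ : Type (u + 1)} [CommRing Λ] {X : Scheme.{u}}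

/-- Morphisms agreeing on weakly contractible objects are equal. -/
theorem hom_ext_wc {F G : EtModW.ModP Λ X} {a b : F ⟶ G}
    (h : ∀ (V : X.ProEt), _root_.ProEtS.IsWC V → ∀ s, a.hom.app (op V) s = b.hom.app (op V) s) : a = b := by
  ext U s
  obtain ⟨V, g, hg, hV⟩ := ProEtS.Covers.exists_cover_weaklyContractible U.unop
  refine G.property.isSeparated _ _ hg _ _ fun W f hf => ?_
  obtain ⟨_, k, _, ⟨⟩, rfl⟩ := hf
  simp only [op_comp, Functor.map_comp, ConcreteCategory.comp_apply]
  refine congrArg (G.obj.map k.op) ?_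
  refine (NatTrans.naturality_apply a.hom g.op s).symm.trans ?_
  refine Eq.trans ?_ (NatTrans.naturality_apply b.hom g.op s)
  exact h V hV _

/-- A morphism which is surjective on weakly contractible objects is an epimorphism. -/
theorem epi_of_wc {F G : EtModW.ModP Λ X} (a : F ⟶ G)
    (h : ∀ (V : X.ProEt), _root_.ProEtS.IsWC V → Function.Surjective (a.hom.app (op V))) : Epi a := by
  have : Sheaf.IsLocallySurjective a := ⟨fun {U} s => by
    obtain ⟨V, g, hg, hV⟩ := ProEtS.Covers.exists_cover_weaklyContractible U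
    refine GrothendieckTopology.superset_covering _ ?_ hg
    rintro W f ⟨_, k, _, ⟨⟩, rfl⟩
    obtain ⟨t, ht⟩ := h V hV (G.obj.map g.op s)
    refine ⟨F.obj.map k.op t, ?_⟩
    rw [NatTrans.naturality_apply, ht, op_comp, Functor.map_comp]
    rfl⟩
  infer_instance

/-- Epimorphisms are surjective on weakly contractible objects. -/
theorem surjective_of_epi_wc {F G : EtModW.ModP Λ X} (q : F ⟶ G) [Epi q] (U : X.ProEt)
    (hU : _root_.ProEtS.IsWC U) : Function.Surjective (q.hom.app (op U)) := by
  have : Sheaf.IsLocallySurjective q := (Sheaf.isLocallySurjective_iff_epi' _ q).2 inferInstance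
  exact hU _ _ ((sheafCompose (Scheme.ProEt.topology X) (forget (ModuleCat.{u + 1} Λ))).map q)
    inferInstance

/-- Sections over an object. -/
noncomputable abbrev sectFun (Λ : Type (u + 1)) [CommRing Λ] (U : X.ProEt) :
    EtModW.ModP Λ X ⥤ ModuleCat.{u + 1} Λ :=
  sheafToPresheaf (Scheme.ProEt.topology X) (ModuleCat.{u + 1} Λ) ⋙ (evaluation _ _).obj (op U)

/-- Compatible families of sections are sections of the limit. -/
theorem exists_limit_sect (H : ARSys.PS (EtModW.ModP Λ X)) (U : X.ProEt)
    (x : ∀ n : ℕ, (H.obj (op n)).obj.obj (op U))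
    (hx : ∀ n : ℕ, (ARSys.tr H (Nat.le_succ n)).hom.app (op U) (x (n + 1)) = x n) :
    ∃ y : (limit H).obj.obj (op U), ∀ n : ℕ, (limit.π H (op n)).hom.app (op U) y = x n := by
  let P := ModuleCat.of Λ (ULift.{u + 1} Λ)
  let γ : ∀ m : ℕ, P ⟶ (H ⋙ sectFun Λ U).obj (op m) := fun m =>
    ModuleCat.ofHom (LinearMap.toSpanSingleton Λ _ (x m) ∘ₗ ULift.moduleEquiv.toLinearMap)
  let cone : Cone (H ⋙ sectFun Λ U) :=
    { pt := P
      π := NatTrans.ofOpSequence γ fun m => by
        ext z
        show z.down • x m = (ARSys.tr H (Nat.le_succ m)).hom.app (op U) (z.down • x (m + 1))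
        rw [map_smul, hx] }
  let hl := isLimitOfPreserves (sectFun Λ U) (limit.isLimit H)
  refine ⟨hl.lift cone (ULift.up 1), fun n => ?_⟩
  refine (congrArg (fun k => k (ULift.up 1)) (hl.fac cone (op n))).trans ?_
  exact one_smul Λ (x n)

/-- Sections of a limit are determined by their projections. -/
theorem limit_sect_ext (H : ARSys.PS (EtModW.ModP Λ X)) (U : X.ProEt)
    (y y' : (limit H).obj.obj (op U))
    (h : ∀ n : ℕ, (limit.π H (op n)).hom.app (op U) y = (limit.π H (op n)).hom.app (op U) y') : y = y' := by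
  let P := ModuleCat.of Λ (ULift.{u + 1} Λ)
  let γ := fun z : (sectFun Λ U).obj (limit H) =>
    (ModuleCat.ofHom (LinearMap.toSpanSingleton Λ _ z ∘ₗ ULift.moduleEquiv.toLinearMap) : P ⟶ _)
  have : γ y = γ y' := (isLimitOfPreserves (sectFun Λ U) (limit.isLimit H)).hom_ext fun j => by
    ext z
    show (limit.π H j).hom.app (op U) (z.down • y) = (limit.π H j).hom.app (op U) (z.down • y')
    rw [map_smul, map_smul, show (limit.π H j).hom.app (op U) y = (limit.π H j).hom.app (op U) y' from h j.unop]
  have h1 := congrArg (fun k => k (ULift.up 1)) this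
  exact (one_smul Λ y).symm.trans (h1.trans (one_smul Λ y'))

/-- Compatibility of the projections of a section of the limit. -/
theorem limit_sect_tr (H : ARSys.PS (EtModW.ModP Λ X)) (U : X.ProEt) {n m : ℕ} (h : n ≤ m)
    (y : (limit H).obj.obj (op U)) :
    (ARSys.tr H h).hom.app (op U) ((limit.π H (op m)).hom.app (op U) y) =
      (limit.π H (op n)).hom.app (op U) y :=
  congrArg (fun k => k.hom.app (op U) y) (limit.w H (homOfLE h).op)

end Groth.Agent.EtModWLib
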